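/-
Orthogonal groups of quadratic forms over fields: isometries, reflections, Eichler maps,
and the transfer to `Cfsg.isometryGroup`.
-/
import Mathlib
import Cfsg.Prelude.Def_Classical

set_option autoImplicit false

namespace Cfsg.Agent.UnitaryOrthogonal

open QuadraticMap

variable {F V V' : Type*} [Field F] [AddCommGroup V] [Module F V] [AddCommGroup V'] [Module F V']

/-- The orthogonal group of a quadratic form, as linear automorphisms. -/
def orth (Q : QuadraticForm F V) : Subgroup (V ≃ₗ[F] V) where
  carrier := {g | ∀ x, Q (g x) = Q x}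
  one_mem' _ := rfl
  mul_mem' {g h} hg hh x := (hg (h x)).trans (hh x)
  inv_mem' {g} hg x := by
    conv_rhs => rw [← LinearEquiv.apply_symm_apply g x, hg]
    rfl

variable (Q : QuadraticForm F V)

theorem mem_orth {g : V ≃ₗ[F] V} : g ∈ orth Q ↔ ∀ x, Q (g x) = Q x := Iff.rfl

variable {Q}

@[simp] theorem map_form (g : orth Q) (x : V) : Q (g.1 x) = Q x := g.2 x

@[simp] theorem map_polar (g : orth Q) (x y : V) : polar Q (g.1 x) (g.1 y) = polar Q x y := by
  simp [polar, ← map_add]

theorem orth_ext {g h : orth Q} (H : ∀ x, g.1 x = h.1 x) : g = h :=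
  Subtype.ext (LinearEquiv.ext H)

@[simp] theorem coe_one_apply (x : V) : (1 : orth Q).1 x = x := rfl
@[simp] theorem coe_mul_apply (g h : orth Q) (x : V) : (g * h).1 x = g.1 (h.1 x) := rfl
@[simp] theorem coe_inv_apply_apply (g : orth Q) (x : V) : g⁻¹.1 (g.1 x) = x :=
  g.1.symm_apply_apply x
@[simp] theorem coe_apply_inv_apply (g : orth Q) (x : V) : g.1 (g⁻¹.1 x) = x :=
  g.1.apply_symm_apply x

instance orth_finite [Finite V] : Finite (orth Q) :=
  Finite.of_injective (fun g : orth Q => (g.1 : V → V)) fun _ _ h => orth_ext (congrFun h)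

variable (Q)

/-- No nonzero singular vector in the polar radical. -/
def Nonsing : Prop := ∀ u, Q u = 0 → (∀ x, polar Q u x = 0) → u = 0

/-- The polar form is nondegenerate. -/
def PolarND : Prop := ∀ u, (∀ x, polar Q u x = 0) → u = 0

variable {Q}

theorem PolarND.nonsing (h : PolarND Q) : Nonsing Q := fun u _ h' => h u h'

theorem polarND_iff_nondegenerate : PolarND Q ↔ (polarBilin Q).SeparatingLeft := Iff.rfl

theorem two_ne_zero_of_card_odd [Fintype F] (h : Odd (Fintype.card F)) : (2 : F) ≠ 0 := by
  refine Ring.two_ne_zero fun h2 => ?_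
  have := (FiniteField.even_card_iff_char_two).mp h2
  rw [Nat.odd_iff] at h
  omega

theorem polar_self_eq (x : V) : polar Q x x = 2 * Q x := by
  rw [polar_self, nsmul_eq_mul]; rfl

theorem form_add (x y : V) : Q (x + y) = Q x + Q y + polar Q x y := QuadraticMap.map_add Q x y

theorem form_smul (c : F) (x : V) : Q (c • x) = c * c * Q x := by
  rw [QuadraticMap.map_smul, smul_eq_mul]

/-! ### Reflections -/

variable (Q)

/-- `x ↦ x - Q(a)⁻¹ f(a,x) a`, as a linear map. -/
def reflMap (a : V) : V →ₗ[F] V :=
  LinearMap.id - ((Q a)⁻¹ • polarBilin Q a).smulRight a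

theorem reflMap_apply (a x : V) : reflMap Q a x = x - ((Q a)⁻¹ * polar Q a x) • a := rfl

theorem reflMap_reflMap (a x : V) : reflMap Q a (reflMap Q a x) = x := by
  simp only [reflMap_apply, polar_sub_right, polar_smul_right, polar_self_eq, smul_eq_mul]
  by_cases h : Q a = 0
  · simp [h]
  · match_scalars <;> field_simp
    ring

theorem form_reflMap (a x : V) : Q (reflMap Q a x) = Q x := by
  rw [reflMap_apply, sub_eq_add_neg, ← neg_smul, form_add, form_smul, polar_smul_right,
    polar_comm Q x a, smul_eq_mul]
  by_cases h : Q a = 0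
  · simp [h]
  · field_simp
    ring

/-- The reflection (orthogonal transvection in characteristic two) in `a`. It is the identity
when `Q a = 0`. -/
def rf (a : V) : orth Q :=
  ⟨{ reflMap Q a with
      invFun := reflMap Q a
      left_inv := reflMap_reflMap Q a
      right_inv := reflMap_reflMap Q a }, form_reflMap Q a⟩

variable {Q}

theorem rf_apply (a x : V) : (rf Q a).1 x = x - ((Q a)⁻¹ * polar Q a x) • a := rfl

theorem rf_mul_self (a : V) : rf Q a * rf Q a = 1 := orth_ext (reflMap_reflMap Q a)

theorem rf_inv (a : V) : (rf Q a)⁻¹ = rf Q a := inv_eq_of_mul_eq_one_right (rf_mul_self a)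

theorem rf_apply_self {a : V} (h : Q a ≠ 0) : (rf Q a).1 a = -a := by
  rw [rf_apply, polar_self_eq, mul_comm 2 (Q a), inv_mul_cancel_left₀ h]
  module

theorem rf_apply_of_polar {a x : V} (h : polar Q a x = 0) : (rf Q a).1 x = x := by
  simp [rf_apply, h]

/-- The reflection in `u - u'` maps `u` to `u'` when both have the same value. -/
theorem rf_sub_apply {u u' : V} (h : Q u = Q u') (hne : Q (u - u') ≠ 0) :
    (rf Q (u - u')).1 u = u' := by
  have : polar Q (u - u') u = Q (u - u') := by
    rw [polar_sub_left, polar_self_eq, sub_eq_add_neg u u', form_add, QuadraticMap.map_neg,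
      polar_neg_right, polar_comm Q u' u, ← h]
    ring
  rw [rf_apply, this, inv_mul_cancel₀ hne, one_smul, sub_sub_cancel]

theorem rf_smul {c : F} (hc : c ≠ 0) (a : V) : rf Q (c • a) = rf Q a := by
  refine orth_ext fun x => ?_
  simp only [rf_apply, form_smul, polar_smul_left, smul_eq_mul, smul_smul, mul_inv]
  congr 2
  field_simp

theorem conj_rf (g : orth Q) (a : V) : g * rf Q a * g⁻¹ = rf Q (g.1 a) := by
  refine orth_ext fun x => ?_
  have : polar Q a (g⁻¹.1 x) = polar Q (g.1 a) x := by
    conv_rhs => rw [← coe_apply_inv_apply g x, map_polar]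
  simp only [coe_mul_apply, rf_apply, map_sub, map_smul, coe_apply_inv_apply, map_form, this]

/-! ### Eichler transformations -/

variable (Q)

/-- `x ↦ x + f(x,u) z - f(x,z) u - Q(z) f(x,u) u`. -/
def eichMap (u z : V) : V →ₗ[F] V :=
  LinearMap.id + (polarBilin Q u).smulRight z - (polarBilin Q z).smulRight u
    - (Q z • polarBilin Q u).smulRight u

theorem eichMap_apply (u z x : V) :
    eichMap Q u z x = x + polar Q u x • z - polar Q z x • u - (Q z * polar Q u x) • u := rfl

theorem eichMap_add {u z z' : V} (hu : Q u = 0) (hz : polar Q u z = 0) (hz' : polar Q u z' = 0)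
    (x : V) : eichMap Q u z (eichMap Q u z' x) = eichMap Q u (z + z') x := by
  simp only [eichMap_apply, polar_add_right, polar_sub_right, polar_smul_right, polar_add_left,
    polar_self_eq, hu, hz', polar_comm Q z u, hz, smul_eq_mul, form_add]
  match_scalars <;> ring

theorem eichMap_zero_right (u x : V) : eichMap Q u 0 x = x := by
  simp [eichMap_apply]

theorem form_eichMap {u z : V} (hu : Q u = 0) (hz : polar Q u z = 0) (x : V) :
    Q (eichMap Q u z x) = Q x := by
  have e : eichMap Q u z x =
      x + (polar Q u x • z + (-(polar Q z x) - Q z * polar Q u x) • u) := by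
    rw [eichMap_apply]; module
  rw [e, form_add, form_add, form_smul, form_smul, hu, polar_add_right, polar_smul_right,
    polar_smul_right, polar_smul_left, polar_smul_right, polar_comm Q z u, hz,
    polar_comm Q x u, polar_comm Q x z]
  simp only [smul_eq_mul]
  ring

open scoped Classical in
/-- The Eichler (Siegel) transformation `E(u,z)` for singular `u` and `z ⊥ u`
(the identity otherwise). -/
noncomputable def eich (u z : V) : orth Q :=
  if h : Q u = 0 ∧ polar Q u z = 0 then
    ⟨{ eichMap Q u z with
        invFun := eichMap Q u (-z)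
        left_inv := fun x => by
          show eichMap Q u (-z) (eichMap Q u z x) = x
          rw [eichMap_add Q h.1 (by simp [h.2]) h.2, neg_add_cancel, eichMap_zero_right]
        right_inv := fun x => by
          show eichMap Q u z (eichMap Q u (-z) x) = x
          rw [eichMap_add Q h.1 h.2 (by simp [h.2]), add_neg_cancel, eichMap_zero_right] },
      form_eichMap Q h.1 h.2⟩
  else 1

variable {Q}

theorem eich_apply {u z : V} (hu : Q u = 0) (hz : polar Q u z = 0) (x : V) :
    (eich Q u z).1 x = x + polar Q u x • z - polar Q z x • u - (Q z * polar Q u x) • u := by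
  rw [eich, dif_pos ⟨hu, hz⟩]; rfl

theorem eich_mul {u z z' : V} (hu : Q u = 0) (hz : polar Q u z = 0) (hz' : polar Q u z' = 0) :
    eich Q u z * eich Q u z' = eich Q u (z + z') := by
  refine orth_ext fun x => ?_
  rw [coe_mul_apply, eich_apply hu hz, eich_apply hu hz',
    eich_apply hu (by rw [polar_add_right, hz, hz', add_zero]), ← eichMap_apply,
    ← eichMap_apply, eichMap_add Q hu hz hz', eichMap_apply]

theorem eich_zero (u : V) : eich Q u 0 = 1 := by
  refine orth_ext fun x => ?_
  unfold eich
  split_ifs
  · exact eichMap_zero_right Q u x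
  · rfl

theorem eich_inv {u z : V} (hu : Q u = 0) (hz : polar Q u z = 0) :
    (eich Q u z)⁻¹ = eich Q u (-z) :=
  inv_eq_of_mul_eq_one_right <| by rw [eich_mul hu hz (by simp [hz]), add_neg_cancel, eich_zero]

theorem conj_eich (g : orth Q) (u z : V) :
    g * eich Q u z * g⁻¹ = eich Q (g.1 u) (g.1 z) := by
  by_cases h : Q u = 0 ∧ polar Q u z = 0
  · refine orth_ext fun x => ?_
    have e1 : polar Q u (g⁻¹.1 x) = polar Q (g.1 u) x := by
      conv_rhs => rw [← coe_apply_inv_apply g x, map_polar]
    have e2 : polar Q z (g⁻¹.1 x) = polar Q (g.1 z) x := by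
      conv_rhs => rw [← coe_apply_inv_apply g x, map_polar]
    rw [coe_mul_apply, coe_mul_apply, eich_apply h.1 h.2,
      eich_apply (by rw [map_form]; exact h.1) (by rw [map_polar]; exact h.2)]
    simp only [map_sub, map_add, map_smul, coe_apply_inv_apply, map_form, e1, e2]
  · rw [eich, dif_neg h, eich, dif_neg (by simpa using h), mul_one, mul_inv_cancel]

/-- `E(c u, z) = E(u, c z)`. -/
theorem eich_smul_left {u z : V} (hu : Q u = 0) (hz : polar Q u z = 0) (c : F) :
    eich Q (c • u) z = eich Q u (c • z) := by
  refine orth_ext fun x => ?_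
  rw [eich_apply (by simp [form_smul, hu]) (by simp [hz]),
    eich_apply hu (by simp [hz])]
  simp only [polar_smul_left, form_smul, smul_eq_mul]
  module

/-- Adding a multiple of `u` to `z` does not change `E(u,z)`. -/
theorem eich_add_smul {u z : V} (hu : Q u = 0) (hz : polar Q u z = 0) (c : F) :
    eich Q u (z + c • u) = eich Q u z := by
  refine orth_ext fun x => ?_
  rw [eich_apply hu (by simp [polar_add_right, hz, polar_self_eq, hu]),
    eich_apply hu hz]
  simp only [polar_add_left, polar_smul_left, form_add, form_smul, hu, polar_smul_right,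
    polar_comm Q z u, hz, smul_eq_mul]
  module

/-- An Eichler transformation with nonsingular `z` is a product of two reflections. -/
theorem eich_eq_rf_mul_rf {u z : V} (hu : Q u = 0) (hz : polar Q u z = 0) (h : Q z ≠ 0) :
    eich Q u z = rf Q z * rf Q (z + Q z • u) := by
  refine orth_ext fun x => ?_
  have ha : Q (z + Q z • u) = Q z := by
    simp [form_add, form_smul, hu, polar_comm Q z u, hz]
  rw [eich_apply hu hz, coe_mul_apply]
  simp only [rf_apply, ha, polar_sub_right, polar_smul_right, polar_add_left, polar_add_right,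
    polar_smul_left, polar_self_eq, polar_comm Q z u, hz, smul_eq_mul]
  match_scalars <;> field_simp <;> ring

variable (Q)

/-- The subgroup generated by reflections. -/
def reflGroup : Subgroup (orth Q) := Subgroup.closure (Set.range (rf Q))

/-- The subgroup generated by Eichler transformations. -/
noncomputable def eichGroup : Subgroup (orth Q) :=
  Subgroup.closure {g | ∃ u z, Q u = 0 ∧ polar Q u z = 0 ∧ g = eich Q u z}

variable {Q}

theorem rf_mem_reflGroup (a : V) : rf Q a ∈ reflGroup Q := Subgroup.subset_closure ⟨a, rfl⟩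

theorem eich_mem_eichGroup (u z : V) : eich Q u z ∈ eichGroup Q := by
  by_cases h : Q u = 0 ∧ polar Q u z = 0
  · exact Subgroup.subset_closure ⟨u, z, h.1, h.2, rfl⟩
  · rw [eich, dif_neg h]; exact one_mem _

instance eichGroup_normal : (eichGroup Q).Normal := by
  refine ⟨fun n hn g => ?_⟩
  unfold eichGroup at hn ⊢
  induction hn using Subgroup.closure_induction with
  | mem x hx =>
      obtain ⟨u, z, hu, hz, rfl⟩ := hx
      rw [conj_eich]; exact eich_mem_eichGroup _ _
  | one => simp
  | mul x y _ _ hx hy =>
      simpa [mul_assoc] using mul_mem hx hy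
  | inv x _ hx => simpa [mul_assoc] using inv_mem hx

instance reflGroup_normal : (reflGroup Q).Normal := by
  refine ⟨fun n hn g => ?_⟩
  unfold reflGroup at hn ⊢
  induction hn using Subgroup.closure_induction with
  | mem x hx =>
      obtain ⟨a, rfl⟩ := hx
      rw [conj_rf]; exact rf_mem_reflGroup _
  | one => simp
  | mul x y _ _ hx hy =>
      simpa [mul_assoc] using mul_mem hx hy
  | inv x _ hx => simpa [mul_assoc] using inv_mem hx

/-! ### Transfer -/

/-- An isometry induces an isomorphism of orthogonal groups. -/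
def orthCongr {Q' : QuadraticForm F V'} (e : Q.IsometryEquiv Q') : orth Q ≃* orth Q' where
  toFun g := ⟨e.toLinearEquiv.symm.trans (g.1.trans e.toLinearEquiv), fun x => by
    show Q' (e (g.1 (e.toLinearEquiv.symm x))) = Q' x
    rw [e.map_app, map_form, ← e.map_app]
    exact congrArg Q' (e.toLinearEquiv.apply_symm_apply x)⟩
  invFun g := ⟨e.toLinearEquiv.trans (g.1.trans e.toLinearEquiv.symm), fun x => by
    show Q (e.toLinearEquiv.symm (g.1 (e x))) = Q x
    rw [← e.map_app, ← e.map_app x, ← map_form g (e x)]
    exact congrArg Q' (e.toLinearEquiv.apply_symm_apply _)⟩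
  left_inv g := by
    refine orth_ext fun x => ?_
    simp
  right_inv g := by
    refine orth_ext fun x => ?_
    simp
  map_mul' g h := by
    refine orth_ext fun x => ?_
    simp

theorem orthCongr_apply {Q' : QuadraticForm F V'} (e : Q.IsometryEquiv Q') (g : orth Q) (x : V) :
    (orthCongr e g).1 (e x) = e (g.1 x) := by
  simp [orthCongr]

theorem orthCongr_rf {Q' : QuadraticForm F V'} (e : Q.IsometryEquiv Q') (a : V) :
    orthCongr e (rf Q a) = rf Q' (e a) := by
  refine orth_ext fun x => ?_
  obtain ⟨y, rfl⟩ := e.toLinearEquiv.surjective x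
  have hp : polar Q' (e a) (e y) = polar Q a y := by
    simp only [polar]
    rw [← e.map_app (a + y), ← e.map_app a, ← e.map_app y]
    simp
  erw [orthCongr_apply, rf_apply, rf_apply, map_sub, map_smul, e.map_app, hp]
  rfl

theorem Nonsing.congr {Q' : QuadraticForm F V'} (e : Q.IsometryEquiv Q') (h : Nonsing Q) :
    Nonsing Q' := fun u hu hp => by
  obtain ⟨y, rfl⟩ := e.toLinearEquiv.surjective u
  have hy : y = 0 := h y (by rw [← e.map_app]; exact hu) fun x => by
    have := hp (e x)
    simp only [polar] at this ⊢
    rwa [show e.toLinearEquiv y = e y from rfl, show e y + e x = e (y + x) from (map_add e.toLinearEquiv y x).symm, e.map_app, e.map_app, e.map_app] at this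
  rw [hy, map_zero]

/-- `Cfsg.isometryGroup` of (a function equal to) a quadratic form is its orthogonal group. -/
noncomputable def isometryGroupEquiv {ι : Type} [Fintype ι] [DecidableEq ι] {F : Type*} [Field F]
    {f : (ι → F) → F} (Q : QuadraticForm F (ι → F)) (h : ∀ v, Q v = f v) :
    Cfsg.isometryGroup F f ≃* orth Q where
  toFun g := ⟨LinearMap.GeneralLinearGroup.generalLinearEquiv F _
      (Matrix.GeneralLinearGroup.toLin g.1), fun x => by
    rw [h, h]; exact g.2 x 0⟩
  invFun g := ⟨Matrix.GeneralLinearGroup.toLin.symm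
      ((LinearMap.GeneralLinearGroup.generalLinearEquiv F _).symm g.1), fun u _ => by
    show f _ = f u
    rw [← h, ← h]
    refine Eq.trans (congrArg Q ?_) (g.2 u)
    rw [Units.coeHom_apply, ← Matrix.mulVecLin_apply, ← Matrix.GeneralLinearGroup.coe_toLin,
      MulEquiv.apply_symm_apply]
    rfl⟩
  left_inv g := by
    refine Subtype.ext ?_
    simp
  right_inv g := by
    refine Subtype.ext ?_
    simp
  map_mul' g g' := by
    refine Subtype.ext ?_
    simp

theorem isometryGroupEquiv_apply {ι : Type} [Fintype ι] [DecidableEq ι] {F : Type*} [Field F]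
    {f : (ι → F) → F} (Q : QuadraticForm F (ι → F)) (h : ∀ v, Q v = f v)
    (g : Cfsg.isometryGroup F f) (x : ι → F) :
    (isometryGroupEquiv Q h g).1 x = ((g.1 : Matrix.GeneralLinearGroup ι F) : Matrix ι ι F).mulVec x :=
  rfl

end Cfsg.Agent.UnitaryOrthogonal
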