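/-
Hyperbolic extensions of quadratic forms: transitivity on singular vectors and hyperbolic pairs,
level-set counts and orders of the orthogonal groups.
-/
import Cfsg.Agent.Lib.UnitaryOrthogonal.Basic

set_option autoImplicit false

namespace Cfsg.Agent.UnitaryOrthogonal

open QuadraticMap

section general

variable {F V : Type*} [Field F] [AddCommGroup V] [Module F V] {Q : QuadraticForm F V}

theorem exists_polar_ne_zero (hN : Nonsing Q) {u : V} (hu : Q u = 0) (hu0 : u ≠ 0) :
    ∃ x, polar Q u x ≠ 0 := by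
  by_contra h
  simp only [ne_eq, not_exists, not_not] at h
  exact hu0 (hN u hu h)

/-- For nonzero singular `u`, there is a singular `v` with `f(u,v) = 1`. -/
theorem exists_pair (hN : Nonsing Q) {u : V} (hu : Q u = 0) (hu0 : u ≠ 0) :
    ∃ v, Q v = 0 ∧ polar Q u v = 1 := by
  obtain ⟨x, hx⟩ := exists_polar_ne_zero hN hu hu0
  obtain ⟨y, h1⟩ : ∃ y, polar Q u y = 1 :=
    ⟨(polar Q u x)⁻¹ • x, by rw [polar_smul_right, smul_eq_mul, inv_mul_cancel₀ hx]⟩
  refine ⟨y + (-(Q y)) • u, ?_, ?_⟩
  · rw [form_add, form_smul, hu, polar_smul_right, polar_comm Q y u, h1, smul_eq_mul]; ring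
  · rw [polar_add_right, polar_smul_right, polar_self_eq, hu, h1]; simp

theorem exists_singular_polar_ne_zero₂ (hN : Nonsing Q) {u u' : V} (hu : Q u = 0) (hu0 : u ≠ 0)
    (hu' : Q u' = 0) (hu0' : u' ≠ 0) (h : polar Q u u' = 0) :
    ∃ w, Q w = 0 ∧ polar Q u w ≠ 0 ∧ polar Q u' w ≠ 0 := by
  obtain ⟨x₁, h₁⟩ := exists_polar_ne_zero hN hu hu0
  obtain ⟨x₂, h₂⟩ := exists_polar_ne_zero hN hu' hu0'
  obtain ⟨x, hx, hx'⟩ : ∃ x, polar Q u x ≠ 0 ∧ polar Q u' x ≠ 0 := by
    by_cases a : polar Q u' x₁ = 0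
    · by_cases b : polar Q u x₂ = 0
      · exact ⟨x₁ + x₂, by simpa [polar_add_right, b] using h₁,
          by simpa [polar_add_right, a] using h₂⟩
      · exact ⟨x₂, b, h₂⟩
    · exact ⟨x₁, h₁, a⟩
  refine ⟨Q x • u + (-(polar Q u x)) • x, ?_, ?_, ?_⟩
  · rw [form_add, form_smul, form_smul, hu, polar_smul_left, polar_smul_right,
      smul_eq_mul, smul_eq_mul]
    ring
  · rw [polar_add_right, polar_smul_right, polar_self_eq, hu, polar_smul_right, smul_eq_mul,
      smul_eq_mul]
    simpa using hx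
  · rw [polar_add_right, polar_smul_right, polar_comm Q u' u, h, polar_smul_right, smul_eq_mul,
      smul_eq_mul]
    simp [hx, hx']

theorem form_sub_singular {u u' : V} (hu : Q u = 0) (hu' : Q u' = 0) :
    Q (u - u') = -polar Q u u' := by
  rw [sub_eq_add_neg, form_add, QuadraticMap.map_neg, hu, hu', polar_neg_right]; ring

/-- Products of reflections act transitively on nonzero singular vectors. -/
theorem exists_refl_map_singular (hN : Nonsing Q) {u u' : V} (hu : Q u = 0) (hu0 : u ≠ 0)
    (hu' : Q u' = 0) (hu0' : u' ≠ 0) : ∃ g ∈ reflGroup Q, g.1 u = u' := by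
  have key : ∀ {a b : V}, Q a = 0 → Q b = 0 → polar Q a b ≠ 0 →
      (rf Q (a - b)).1 a = b := fun ha hb hab =>
    rf_sub_apply (ha.trans hb.symm) (by rw [form_sub_singular ha hb]; exact neg_ne_zero.2 hab)
  by_cases h : polar Q u u' = 0
  · obtain ⟨w, hw, h1, h2⟩ := exists_singular_polar_ne_zero₂ hN hu hu0 hu' hu0' h
    exact ⟨rf Q (w - u') * rf Q (u - w), mul_mem (rf_mem_reflGroup _) (rf_mem_reflGroup _), by
      rw [coe_mul_apply, key hu hw h1, key hw hu' (by rwa [polar_comm])]⟩
  · exact ⟨_, rf_mem_reflGroup _, key hu hu' h⟩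

/-- `E(u, v' - v)` fixes `u` and maps `v` to `v'`. -/
theorem eich_sub_apply {u v v' : V} (hu : Q u = 0) (hv : Q v = 0) (hv' : Q v' = 0)
    (h : polar Q u v = 1) (h' : polar Q u v' = 1) :
    (eich Q u (v' - v)).1 u = u ∧ (eich Q u (v' - v)).1 v = v' := by
  have hz : polar Q u (v' - v) = 0 := by rw [polar_sub_right, h, h', sub_self]
  constructor
  · rw [eich_apply hu hz, polar_comm Q (v' - v) u, hz, polar_self_eq, hu]; simp
  · rw [eich_apply hu hz, h, form_sub_singular hv' hv, polar_sub_left, polar_self_eq, hv]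
    module

/-- The subgroup generated by reflections and Eichler transformations. -/
noncomputable def elemGroup (Q : QuadraticForm F V) : Subgroup (orth Q) :=
  reflGroup Q ⊔ eichGroup Q

theorem exists_elem_map_pair (hN : Nonsing Q) {u v u' v' : V} (hu : Q u = 0) (hv : Q v = 0)
    (h : polar Q u v = 1) (hu' : Q u' = 0) (hv' : Q v' = 0) (h' : polar Q u' v' = 1) :
    ∃ g ∈ elemGroup Q, g.1 u = u' ∧ g.1 v = v' := by
  have hu0 : u ≠ 0 := by rintro rfl; simp at h
  have hu0' : u' ≠ 0 := by rintro rfl; simp at h'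
  obtain ⟨g, hg, hgu⟩ := exists_refl_map_singular hN hu hu0 hu' hu0'
  obtain ⟨e1, e2⟩ := eich_sub_apply (Q := Q) (u := u') (v := g.1 v) (v' := v') hu'
    (by rw [map_form, hv]) hv' (by rw [← hgu, map_polar, h]) h'
  exact ⟨eich Q u' (v' - g.1 v) * g,
    mul_mem (le_sup_right (a := reflGroup Q) (eich_mem_eichGroup _ _))
      (le_sup_left (b := eichGroup Q) hg),
    by rw [coe_mul_apply, hgu, e1], by rw [coe_mul_apply, e2]⟩

/-- Singular pairs `(u, v)` with `f(u,v) = 1`. -/
def HypPair (Q : QuadraticForm F V) : Type _ :=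
  {p : V × V // Q p.1 = 0 ∧ Q p.2 = 0 ∧ polar Q p.1 p.2 = 1}

/-- Number of solutions of `Q v = c`. -/
noncomputable def level (Q : QuadraticForm F V) (c : F) : ℕ := Nat.card {v : V // Q v = c}

variable (Q) in
theorem card_nonzero_singular [Finite V] :
    Nat.card {u : V // Q u = 0 ∧ u ≠ 0} = level Q 0 - 1 := by
  show Nat.card ↥({u : V | Q u = 0} \ {0}) = Nat.card ↥({v : V | Q v = 0})
    - 1
  rw [Nat.card_coe_set_eq, Nat.card_coe_set_eq, Set.ncard_sdiff_singleton_of_mem]
  simp

theorem card_hypPair [Finite V] [Finite F] (hN : Nonsing Q) :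
    Nat.card (HypPair Q) * (Nat.card F * Nat.card F) =
      (level Q 0 - 1) * Nat.card V := by
  classical
  let S := {u : V // Q u = 0 ∧ u ≠ 0}
  let P := fun u : S => {v : V // Q v = 0 ∧ polar Q u.1 v = 1}
  have e : HypPair Q ≃ Σ u : S, P u :=
    { toFun := fun p => ⟨⟨p.1.1, p.2.1, fun h => by have := p.2.2.2; rw [h] at this; simp at this⟩,
        ⟨p.1.2, p.2.2.1, p.2.2.2⟩⟩
      invFun := fun s => ⟨(s.1.1, s.2.1), s.1.2.1, s.2.2.1, s.2.2.2⟩
      left_inv := fun p => rfl
      right_inv := fun s => rfl }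
  have hP : ∀ u : S, Nat.card (P u) * (Nat.card F * Nat.card F) = Nat.card V := by
    intro u
    obtain ⟨x₀, hx₀, hux⟩ := exists_pair hN u.2.1 u.2.2
    let f : (P u × F) × F ≃ V :=
      { toFun := fun p => p.1.1.1 + p.1.2 • u.1 + p.2 • x₀
        invFun := fun x =>
          let s := polar Q u.1 x - 1
          let y := x - s • x₀
          ((⟨y - Q y • u.1, by
            have hy : polar Q u.1 y = 1 := by
              simp [y, s, polar_sub_right, hux]
            constructor
            · rw [sub_eq_add_neg, ← neg_smul, form_add, form_smul, u.2.1, polar_smul_right,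
                polar_comm Q y, hy, smul_eq_mul]
              ring
            · rw [polar_sub_right, hy, polar_smul_right, polar_self_eq, u.2.1]; simp⟩, Q y), s)
        left_inv := fun p => by
          obtain ⟨⟨⟨v, hv, huv⟩, t⟩, s⟩ := p
          have h1 : polar Q u.1 (v + t • u.1 + s • x₀) - 1 = s := by
            simp [polar_add_right, huv, polar_self_eq, u.2.1, hux]
          have h2 : Q (v + t • u.1) = t := by
            simp [form_add, form_smul, hv, u.2.1, polar_comm Q v, huv]
          simp only [h1, add_sub_cancel_right, h2]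
        right_inv := fun x => by
          simp only
          module }
    rw [← mul_assoc, ← Nat.card_prod, ← Nat.card_prod, Nat.card_congr f]
  haveI := Fintype.ofFinite S
  rw [Nat.card_congr e, Nat.card_sigma, Finset.sum_mul, Finset.sum_congr rfl fun u _ => hP u,
    Finset.sum_const, smul_eq_mul, Finset.card_univ, ← card_nonzero_singular Q,
    ← Nat.card_eq_fintype_card]

end general

variable {F W W' : Type*} [Field F] [AddCommGroup W] [Module F W] [AddCommGroup W'] [Module F W']

/-- `Q` plus a hyperbolic plane: `((x,y),w) ↦ x y + Q w`. -/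
def hyp (Q : QuadraticForm F W) : QuadraticForm F ((F × F) × W) :=
  QuadraticMap.prod (QuadraticMap.linMulLin (LinearMap.fst F F F) (LinearMap.snd F F F)) Q

variable {Q : QuadraticForm F W}

@[simp] theorem hyp_apply (v : (F × F) × W) : hyp Q v = v.1.1 * v.1.2 + Q v.2 := rfl

theorem polar_hyp (v v' : (F × F) × W) :
    polar (hyp Q) v v' = v.1.1 * v'.1.2 + v'.1.1 * v.1.2 + polar Q v.2 v'.2 := by
  simp only [polar, hyp_apply, Prod.fst_add, Prod.snd_add]
  ring

/-- The standard singular vector. -/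
def eVec (F W : Type*) [Field F] [AddCommGroup W] : (F × F) × W := ((1, 0), 0)

/-- Its hyperbolic partner. -/
def fVec (F W : Type*) [Field F] [AddCommGroup W] : (F × F) × W := ((0, 1), 0)

@[simp] theorem hyp_eVec : hyp Q (eVec F W) = 0 := by simp [eVec]
@[simp] theorem hyp_fVec : hyp Q (fVec F W) = 0 := by simp [fVec]
@[simp] theorem polar_eVec_fVec : polar (hyp Q) (eVec F W) (fVec F W) = 1 := by
  simp [polar_hyp, eVec, fVec]

@[simp] theorem polar_eVec (v : (F × F) × W) : polar (hyp Q) (eVec F W) v = v.1.2 := by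
  simp [polar_hyp, eVec]

@[simp] theorem polar_fVec (v : (F × F) × W) : polar (hyp Q) (fVec F W) v = v.1.1 := by
  simp [polar_hyp, fVec]

theorem eVec_ne_zero : eVec F W ≠ 0 := by simp [eVec, Prod.ext_iff]

theorem PolarND.hyp (h : PolarND Q) : PolarND (hyp Q) := by
  rintro ⟨⟨x, y⟩, w⟩ hp
  have h1 := hp (eVec F W)
  have h2 := hp (fVec F W)
  simp [polar_hyp, eVec, fVec] at h1 h2
  have h3 : w = 0 := h w fun t => by simpa [polar_hyp, h1, h2] using hp ((0, 0), t)
  simp [h1, h2, h3]

theorem Nonsing.hyp (h : Nonsing Q) : Nonsing (hyp Q) := by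
  rintro ⟨⟨x, y⟩, w⟩ hs hp
  have h1 := hp (eVec F W)
  have h2 := hp (fVec F W)
  simp [polar_hyp, eVec, fVec] at h1 h2
  subst h1 h2
  have h3 : w = 0 := h w (by simpa using hs) fun t => by simpa [polar_hyp] using hp ((0, 0), t)
  simp [h3]

/-- Extension of isometries of `Q` by the identity on the hyperbolic plane. -/
def emb : orth Q →* orth (hyp Q) where
  toFun g := ⟨(LinearEquiv.refl F (F × F)).prodCongr g.1, fun x => by simp⟩
  map_one' := orth_ext fun _ => rfl
  map_mul' _ _ := orth_ext fun _ => rfl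

theorem emb_apply (g : orth Q) (v : (F × F) × W) : (emb g).1 v = (v.1, g.1 v.2) := rfl

theorem emb_injective : Function.Injective (emb (Q := Q)) := fun g h e =>
  orth_ext fun x => congrArg Prod.snd (DFunLike.congr_fun (congrArg Subtype.val e) ((0, 0), x))

theorem emb_rf (a : W) : emb (rf Q a) = rf (hyp Q) ((0, 0), a) := by
  refine orth_ext fun v => ?_
  simp [emb_apply, rf_apply, polar_hyp, Prod.ext_iff]

theorem emb_eich {u z : W} (hu : Q u = 0) (hz : polar Q u z = 0) :
    emb (eich Q u z) = eich (hyp Q) ((0, 0), u) ((0, 0), z) := by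
  refine orth_ext fun v => ?_
  rw [emb_apply, eich_apply hu hz, eich_apply (by simp [hu]) (by simp [polar_hyp, hz])]
  simp [polar_hyp, Prod.ext_iff]

/-- An isometry fixing the hyperbolic plane is in the image of `emb`. -/
theorem exists_emb_of_fix {g : orth (hyp Q)} (he : g.1 (eVec F W) = eVec F W)
    (hf : g.1 (fVec F W) = fVec F W) : ∃ h : orth Q, emb h = g := by
  have key : ∀ (k : orth (hyp Q)), k.1 (eVec F W) = eVec F W → k.1 (fVec F W) = fVec F W →
      ∀ w : W, k.1 ((0, 0), w) = ((0, 0), (k.1 ((0, 0), w)).2) := by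
    intro k he hf w
    have h1 := map_polar k (eVec F W) ((0, 0), w)
    have h2 := map_polar k (fVec F W) ((0, 0), w)
    rw [he, polar_eVec, polar_eVec] at h1
    rw [hf, polar_fVec, polar_fVec] at h2
    exact Prod.ext (Prod.ext h2 h1) rfl
  have hie : g⁻¹.1 (eVec F W) = eVec F W := by
    conv_lhs => rw [← he]
    exact coe_inv_apply_apply g _
  have hif : g⁻¹.1 (fVec F W) = fVec F W := by
    conv_lhs => rw [← hf]
    exact coe_inv_apply_apply g _
  let p := LinearMap.snd F (F × F) W
  let i := LinearMap.inr F (F × F) W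
  let h : W ≃ₗ[F] W :=
    { p ∘ₗ g.1.toLinearMap ∘ₗ i with
      invFun := p ∘ₗ g⁻¹.1.toLinearMap ∘ₗ i
      left_inv := fun w => by
        show (g⁻¹.1 ((0, 0), (g.1 ((0, 0), w)).2)).2 = w
        rw [← key g he hf w, coe_inv_apply_apply]
      right_inv := fun w => by
        show (g.1 ((0, 0), (g⁻¹.1 ((0, 0), w)).2)).2 = w
        rw [← key g⁻¹ hie hif w, coe_apply_inv_apply] }
  have hh : h ∈ orth Q := fun w => by
    show Q ((g.1 ((0, 0), w)).2) = Q w
    have := map_form g ((0, 0), w)
    rw [key g he hf w] at this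
    simpa using this
  refine ⟨⟨h, hh⟩, orth_ext fun v => ?_⟩
  obtain ⟨⟨x, y⟩, w⟩ := v
  have hv : (((x, y), w) : (F × F) × W) = x • eVec F W + y • fVec F W + ((0, 0), w) := by
    simp [eVec, fVec, Prod.ext_iff]
  have e3 : g.1 ((x, y), w) = ((x, y), (g.1 ((0, 0), w)).2) := by
    conv_lhs => rw [hv]
    rw [map_add, map_add, map_smul, map_smul, he, hf, key g he hf w]
    simp [eVec, fVec]
  rw [e3]
  rfl

/-- Generation by reflections and Eichler transformations passes to hyperbolic extensions. -/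
theorem elemGroup_hyp_eq_top (hN : Nonsing Q) (h : elemGroup Q = ⊤) :
    elemGroup (hyp Q) = ⊤ := by
  have hle : (elemGroup Q).map emb ≤ elemGroup (hyp Q) := by
    rw [elemGroup, Subgroup.map_sup]
    refine sup_le_sup ?_ ?_
    · rw [reflGroup, MonoidHom.map_closure, Subgroup.closure_le]
      rintro _ ⟨_, ⟨a, rfl⟩, rfl⟩
      rw [emb_rf]
      exact rf_mem_reflGroup _
    · rw [eichGroup, MonoidHom.map_closure, Subgroup.closure_le]
      rintro _ ⟨_, ⟨u, z, hu, hz, rfl⟩, rfl⟩
      rw [emb_eich hu hz]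
      exact eich_mem_eichGroup _ _
  rw [eq_top_iff]
  intro g _
  obtain ⟨s, hs, hse, hsf⟩ := exists_elem_map_pair hN.hyp hyp_eVec hyp_fVec polar_eVec_fVec
    (u' := g.1 (eVec F W)) (v' := g.1 (fVec F W)) (by simp [eVec]) (by simp [fVec])
    (by simp [eVec, fVec, polar_hyp])
  obtain ⟨k, hk⟩ := exists_emb_of_fix (g := s⁻¹ * g)
    (by rw [coe_mul_apply, ← hse, coe_inv_apply_apply])
    (by rw [coe_mul_apply, ← hsf, coe_inv_apply_apply])
  have : g = s * emb k := by rw [hk, mul_inv_cancel_left]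
  rw [this]
  exact mul_mem hs (hle (Subgroup.mem_map_of_mem _ (h ▸ Subgroup.mem_top k)))

variable [Finite F] [Finite W]

theorem card_orth_hyp_eq_pairs (hN : Nonsing Q) :
    Nat.card (orth (hyp Q)) = Nat.card (HypPair (hyp Q)) * Nat.card (orth Q) := by
  choose s hs using fun p : HypPair (hyp Q) => exists_elem_map_pair hN.hyp hyp_eVec hyp_fVec
    polar_eVec_fVec p.2.1 p.2.2.1 p.2.2.2
  rw [← Nat.card_prod]
  refine (Nat.card_congr (Equiv.ofBijective
    (fun p : HypPair (hyp Q) × orth Q => s p.1 * emb p.2) ⟨?_, ?_⟩)).symm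
  · rintro ⟨p, k⟩ ⟨p', k'⟩ h
    simp only at h
    have h1 := DFunLike.congr_fun (congrArg Subtype.val h) (eVec F W)
    have h2 := DFunLike.congr_fun (congrArg Subtype.val h) (fVec F W)
    simp only [coe_mul_apply, emb_apply, eVec, fVec, map_zero] at h1 h2
    have e1 := (hs p).2.1; have e2 := (hs p).2.2
    have e1' := (hs p').2.1; have e2' := (hs p').2.2
    simp only [eVec, fVec] at e1 e2 e1' e2'
    rw [e1, e1'] at h1
    rw [e2, e2'] at h2
    have hp : p = p' := Subtype.ext (Prod.ext h1 h2)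
    subst hp
    rw [emb_injective (mul_left_cancel h)]
  · intro g
    let p : HypPair (hyp Q) := ⟨(g.1 (eVec F W), g.1 (fVec F W)), by simp [eVec, fVec, polar_hyp]⟩
    obtain ⟨k, hk⟩ := exists_emb_of_fix (g := (s p)⁻¹ * g)
      (by rw [coe_mul_apply, show g.1 (eVec F W) = p.1.1 from rfl, ← (hs p).2.1,
        coe_inv_apply_apply])
      (by rw [coe_mul_apply, show g.1 (fVec F W) = p.1.2 from rfl, ← (hs p).2.2,
        coe_inv_apply_apply])
    exact ⟨(p, k), by simp [hk]⟩

/-- `|O(H ⊥ Q)| = (#nonzero singular vectors) * |W| * |O(Q)|`. -/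
theorem card_orth_hyp (hN : Nonsing Q) :
    Nat.card (orth (hyp Q)) = (level (hyp Q) 0 - 1) * Nat.card W * Nat.card (orth Q) := by
  have h := card_hypPair (Q := hyp Q) hN.hyp
  rw [Nat.card_prod, Nat.card_prod] at h
  have hq : 0 < Nat.card F * Nat.card F := Nat.mul_pos Nat.card_pos Nat.card_pos
  rw [card_orth_hyp_eq_pairs hN]
  congr 1
  refine Nat.eq_of_mul_eq_mul_right hq ?_
  rw [h]; ring

theorem card_mul_eq [DecidableEq F] (d : F) :
    Nat.card {p : F × F // p.1 * p.2 = d} =
      (Nat.card F - 1) + if d = 0 then Nat.card F else 0 := by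
  have h1 : Nat.card {p : {p : F × F // p.1 * p.2 = d} // p.1.1 ≠ 0} = Nat.card F - 1 := by
    let e : {p : {p : F × F // p.1 * p.2 = d} // p.1.1 ≠ 0} ≃ Fˣ :=
      { toFun := fun p => Units.mk0 p.1.1.1 p.2
        invFun := fun x => ⟨⟨(x, (x : F)⁻¹ * d), mul_inv_cancel_left₀ x.ne_zero d⟩, x.ne_zero⟩
        left_inv := fun p => by
          obtain ⟨⟨⟨x, y⟩, h⟩, hx⟩ := p
          simp only [Units.val_mk0]
          congr
          subst h
          exact inv_mul_cancel_left₀ hx y
        right_inv := fun x => by simp }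
    rw [Nat.card_congr e, Nat.card_units]
  rw [← Nat.card_congr (Equiv.sumCompl fun p : {p : F × F // p.1 * p.2 = d} => p.1.1 ≠ 0),
    Nat.card_sum, h1]
  congr 1
  split_ifs with hd
  · refine Nat.card_congr
      { toFun := fun p => p.1.1.2
        invFun := fun y => ⟨⟨(0, y), by simp [hd]⟩, by simp⟩
        left_inv := fun p => by
          obtain ⟨⟨⟨x, y⟩, h⟩, hx⟩ := p
          simp only [ne_eq, not_not] at hx
          subst hx; rfl
        right_inv := fun y => rfl }
  · rw [Nat.card_eq_zero]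
    left
    refine ⟨fun p => hd ?_⟩
    have := p.1.2
    rw [not_not.1 p.2, zero_mul] at this
    exact this.symm

/-- Level counts of a hyperbolic extension. -/
theorem level_hyp (c : F) :
    level (hyp Q) c = (Nat.card F - 1) * Nat.card W + Nat.card F * level Q c := by
  classical
  let e : {v : (F × F) × W // hyp Q v = c} ≃ Σ w : W, {p : F × F // p.1 * p.2 = c - Q w} :=
    { toFun := fun v => ⟨v.1.2, v.1.1, by have := v.2; rw [hyp_apply] at this; linear_combination this⟩
      invFun := fun s => ⟨(s.2.1, s.1), by rw [hyp_apply, s.2.2]; ring⟩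
      left_inv := fun v => rfl
      right_inv := fun s => rfl }
  haveI := Fintype.ofFinite W
  rw [level, Nat.card_congr e, Nat.card_sigma]
  simp only [card_mul_eq, sub_eq_zero, Finset.sum_add_distrib, Finset.sum_const, smul_eq_mul,
    Finset.card_univ, Finset.sum_ite, Finset.sum_const_zero, add_zero]
  rw [Nat.card_eq_fintype_card (α := W), level, Nat.card_eq_fintype_card (α := {v : W // Q v = c}),
    Fintype.card_subtype, mul_comm (Fintype.card W), mul_comm (Finset.card _) (Nat.card F)]
  simp only [eq_comm, mul_zero, add_zero]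

end Cfsg.Agent.UnitaryOrthogonal
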