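/-
Anisotropic binary quadratic forms: level sets and the orthogonal group.
-/
import Cfsg.Agent.Lib.UnitaryOrthogonal.Hyperbolic

set_option autoImplicit false

namespace Cfsg.Agent.UnitaryOrthogonal

open QuadraticMap

variable {F : Type*} [Field F]

/-- `(x, y) ↦ x² + a x y + b y²`. -/
def binForm (a b : F) : QuadraticForm F (F × F) :=
  QuadraticMap.linMulLin (LinearMap.fst F F F) (LinearMap.fst F F F)
    + a • QuadraticMap.linMulLin (LinearMap.fst F F F) (LinearMap.snd F F F)
    + b • QuadraticMap.linMulLin (LinearMap.snd F F F) (LinearMap.snd F F F)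

variable {a b : F}

theorem binForm_apply (v : F × F) :
    binForm a b v = v.1 ^ 2 + a * v.1 * v.2 + b * v.2 ^ 2 := by
  simp [binForm]; ring

theorem polar_binForm (v w : F × F) :
    polar (binForm a b) v w =
      2 * (v.1 * w.1) + a * (v.1 * w.2 + v.2 * w.1) + 2 * b * (v.2 * w.2) := by
  simp only [polar, binForm_apply, Prod.fst_add, Prod.snd_add]
  ring

/-- The binary form has no nontrivial zero. -/
def BinAniso (a b : F) : Prop := ∀ z₁ z₂ : F, z₁ ^ 2 + a * z₁ * z₂ + b * z₂ ^ 2 = 0 → z₁ = 0 ∧ z₂ = 0

theorem BinAniso.eq_zero (h : BinAniso a b) {v : F × F} (hv : binForm a b v = 0) : v = 0 := by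
  rw [binForm_apply] at hv
  exact Prod.ext (h _ _ hv).1 (h _ _ hv).2

theorem BinAniso.form_ne_zero (h : BinAniso a b) {v : F × F} (hv : v ≠ 0) :
    binForm a b v ≠ 0 := fun e => hv (h.eq_zero e)

theorem BinAniso.nonsing (h : BinAniso a b) : Nonsing (binForm a b) :=
  fun _ hu _ => h.eq_zero hu

theorem BinAniso.fact (h : BinAniso a b) : Fact (∀ r : F, r ^ 2 ≠ -b + a * r) := ⟨fun r hr => by
  have := (h r (-1) (by linear_combination hr)).2
  simp at this⟩

theorem BinAniso.a_ne_zero [Finite F] (h : BinAniso a b) (h2 : (2 : F) = 0) : a ≠ 0 := by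
  rintro rfl
  have hc : ringChar F = 2 := by
    have : CharP F 2 := CharTwo.of_one_ne_zero_of_two_eq_zero one_ne_zero h2
    exact ringChar.eq F 2
  obtain ⟨r, hr⟩ := FiniteField.isSquare_of_char_two hc b
  have := (h r 1 (by linear_combination -hr + b * h2)).2
  simp at this

/-- The polar determinant `4b - a²` is nonzero. -/
theorem BinAniso.disc_ne_zero [Finite F] (h : BinAniso a b) : 4 * b - a ^ 2 ≠ 0 := by
  intro e
  by_cases h2 : (2 : F) = 0
  · have ha := h.a_ne_zero h2
    exact pow_ne_zero 2 ha (by linear_combination -e + 2 * b * h2)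
  · have := (h (-a) 2 (by linear_combination e)).2
    exact h2 this

theorem BinAniso.polarND [Finite F] (h : BinAniso a b) : PolarND (binForm a b) := by
  rintro ⟨x, y⟩ hp
  have h1 := hp (1, 0)
  have h2 := hp (0, 1)
  simp [polar_binForm] at h1 h2
  have hy : (4 * b - a ^ 2) * y = 0 := by linear_combination 2 * h2 - a * h1
  have hy0 : y = 0 := (mul_eq_zero.1 hy).resolve_left h.disc_ne_zero
  subst hy0
  have hx : (4 * b - a ^ 2) * x = 0 := by linear_combination 2 * b * h1 - a * h2
  rw [(mul_eq_zero.1 hx).resolve_left h.disc_ne_zero]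
  rfl

/-- Multiplication in the quadratic algebra attached to the form. -/
def binMul (a b : F) (z : F × F) : (F × F) →ₗ[F] F × F where
  toFun v := (z.1 * v.1 - b * z.2 * v.2, z.1 * v.2 + z.2 * v.1 + a * z.2 * v.2)
  map_add' v w := by simp only [Prod.fst_add, Prod.snd_add, Prod.mk_add_mk]; ext <;> ring
  map_smul' c v := by
    simp only [Prod.smul_fst, Prod.smul_snd, smul_eq_mul, RingHom.id_apply, Prod.smul_mk]
    ext <;> ring

theorem binForm_binMul (z v : F × F) :
    binForm a b (binMul a b z v) = binForm a b z * binForm a b v := by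
  simp only [binForm_apply, binMul, LinearMap.coe_mk, AddHom.coe_mk]
  ring

variable [Finite F]

theorem BinAniso.exists_form_eq (h : BinAniso a b) (c : F) : ∃ v, binForm a b v = c := by
  by_cases h2 : (2 : F) = 0
  · have : CharP F 2 := CharTwo.of_one_ne_zero_of_two_eq_zero one_ne_zero h2
    obtain ⟨r, hr⟩ := FiniteField.isSquare_of_char_two (ringChar.eq F 2) c
    exact ⟨(r, 0), by rw [binForm_apply, hr]; ring⟩
  · cases nonempty_fintype F
    classical
    have hne : ringChar F ≠ 2 := fun hc => h2 (by
      haveI : CharP F 2 := hc ▸ inferInstance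
      exact CharTwo.two_eq_zero)
    have hodd : Fintype.card F % 2 = 1 := FiniteField.odd_card_of_char_ne_two hne
    obtain ⟨s, t, hst⟩ := FiniteField.exists_root_sum_quadratic
      (f := Polynomial.X ^ 2 - Polynomial.C c)
      (g := Polynomial.C ((4 * b - a ^ 2) / 4) * Polynomial.X ^ 2)
      (Polynomial.degree_X_pow_sub_C (by norm_num) _)
      (Polynomial.degree_C_mul_X_pow 2 (div_ne_zero h.disc_ne_zero (by
        intro h4
        exact h2 (mul_self_eq_zero.1 (by linear_combination h4))))) hodd
    simp at hst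
    refine ⟨(s - a * t / 2, t), ?_⟩
    rw [binForm_apply]
    have h4 : (4 : F) ≠ 0 := fun h4 => h2 (mul_self_eq_zero.1 (by linear_combination h4))
    field_simp at hst ⊢
    linear_combination hst

theorem BinAniso.level_zero (h : BinAniso a b) : level (binForm a b) 0 = 1 := by
  rw [level, Nat.card_eq_one_iff_unique]
  exact ⟨⟨fun v w => Subtype.ext ((h.eq_zero v.2).trans (h.eq_zero w.2).symm)⟩,
    ⟨⟨0, QuadraticMap.map_zero _⟩⟩⟩

theorem BinAniso.level_eq (h : BinAniso a b) {c : F} (hc : c ≠ 0) :
    level (binForm a b) c = Nat.card F + 1 := by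
  classical
  cases nonempty_fintype F
  have hsame : ∀ d : F, d ≠ 0 → level (binForm a b) d = level (binForm a b) 1 := by
    intro d hd
    obtain ⟨z, hz⟩ := h.exists_form_eq d
    have hinj : Function.Injective (binMul a b z) := by
      rw [← LinearMap.ker_eq_bot, LinearMap.ker_eq_bot']
      intro v hv
      have := binForm_binMul (a := a) (b := b) z v
      rw [hv, QuadraticMap.map_zero, hz, eq_comm] at this
      exact h.eq_zero ((mul_eq_zero.1 this).resolve_left hd)
    refine (Nat.card_congr (Equiv.subtypeEquiv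
      (Equiv.ofBijective _ ⟨hinj, LinearMap.surjective_of_injective hinj⟩) fun v => ?_)).symm
    show binForm a b v = 1 ↔ binForm a b (binMul a b z v) = d
    rw [binForm_binMul, hz, mul_eq_left₀ hd]
  have htot : Nat.card (F × F) = ∑ d : F, level (binForm a b) d := by
    rw [← Nat.card_congr (Equiv.sigmaFiberEquiv (binForm a b)), Nat.card_sigma]
    rfl
  rw [← Finset.add_sum_erase Finset.univ _ (Finset.mem_univ (0 : F)), h.level_zero,
    Finset.sum_congr rfl (fun d hd => hsame d (Finset.ne_of_mem_erase hd)),
    Finset.sum_const, Finset.card_erase_of_mem (Finset.mem_univ _), Finset.card_univ,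
    Nat.card_prod, ← Nat.card_eq_fintype_card, smul_eq_mul] at htot
  rw [hsame c hc]
  obtain ⟨k, hk⟩ : ∃ k, Nat.card F = k + 2 := ⟨Nat.card F - 2, by
    have := Finite.one_lt_card (α := F); omega⟩
  rw [hk] at htot ⊢
  simp only [Nat.add_succ_sub_one, add_tsub_cancel_right] at htot
  nlinarith

/-- The isometries fixing `(1,0)`: the identity and one reflection. -/
theorem BinAniso.exists_stab (h : BinAniso a b) :
    ∃ s ∈ reflGroup (binForm a b), s ≠ 1 ∧ s.1 (1, 0) = (1, 0) ∧
      ∀ g : orth (binForm a b), g.1 (1, 0) = (1, 0) → g = 1 ∨ g = s := by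
  set p : F × F := (-a, 2) with hp
  have hp0 : p ≠ 0 := by
    intro e
    rw [hp, Prod.ext_iff] at e
    exact h.a_ne_zero e.2 (neg_eq_zero.1 e.1)
  have hfix : (rf (binForm a b) p).1 (1, 0) = (1, 0) := by
    refine rf_apply_of_polar ?_
    simp [hp, polar_binForm]; ring
  have hne : rf (binForm a b) p ≠ 1 := by
    intro e
    have e2 : p = 0 ∨ ((binForm a b p)⁻¹ * polar (binForm a b) p (0, 1)) = 0 := by
      have := DFunLike.congr_fun (congrArg Subtype.val e) ((0, 1) : F × F)
      rw [rf_apply, coe_one_apply, sub_eq_self, smul_eq_zero] at this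
      exact this.symm
    have e3 := e2.resolve_left hp0
    refine h.disc_ne_zero ?_
    have e4 := (mul_eq_zero.1 e3).resolve_left (inv_ne_zero (h.form_ne_zero hp0))
    rw [hp, polar_binForm] at e4
    linear_combination e4
  refine ⟨rf _ p, rf_mem_reflGroup _, hne, hfix, fun g hg => ?_⟩
  refine or_iff_not_imp_left.2 fun hg1 => ?_
  refine orth_ext fun v => ?_
  have hv : v = v.1 • ((1, 0) : F × F) + v.2 • ((0, 1) : F × F) := by simp [Prod.ext_iff]
  suffices g.1 (0, 1) = (rf (binForm a b) p).1 (0, 1) by
    rw [hv, map_add, map_add, map_smul, map_smul, map_smul, map_smul, hg, hfix, this]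
  -- the image `(s,t)` of `(0,1)` satisfies two equations with exactly two solutions
  obtain ⟨s, t, hst⟩ : ∃ s t, g.1 (0, 1) = (s, t) := ⟨_, _, rfl⟩
  have hts : ¬ (s = 0 ∧ t = 1) := by
    rintro ⟨rfl, rfl⟩
    refine hg1 (orth_ext fun w => ?_)
    have hw : w = w.1 • ((1, 0) : F × F) + w.2 • ((0, 1) : F × F) := by simp [Prod.ext_iff]
    rw [coe_one_apply, hw, map_add, map_smul, map_smul, hg, hst]
  have q1 := map_form g ((0, 1) : F × F)
  have q2 := map_polar g ((1, 0) : F × F) ((0, 1) : F × F)
  rw [hst, binForm_apply, binForm_apply] at q1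
  rw [hg, hst, polar_binForm, polar_binForm] at q2
  simp at q1 q2
  have hD := h.disc_ne_zero
  have e1 : (4 * b - a ^ 2) * ((t - 1) * (t + 1)) = 0 := by
    linear_combination 4 * q1 - (2 * s + a * t + a) * q2
  have hform : binForm a b p = 4 * b - a ^ 2 := by rw [hp, binForm_apply]; ring
  have hpol : polar (binForm a b) p (0, 1) = 4 * b - a ^ 2 := by
    rw [hp, polar_binForm]; ring
  rw [hst, rf_apply, hform, hpol, inv_mul_cancel₀ hD, one_smul, hp]
  rcases mul_eq_zero.1 ((mul_eq_zero.1 e1).resolve_left hD) with et | et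
  · have et' : t = 1 := by linear_combination et
    subst et'
    have hs : s * (s + a) = 0 := by linear_combination q1
    rcases mul_eq_zero.1 hs with hs | hs
    · exact absurd ⟨hs, rfl⟩ hts
    · have h2 : (2 : F) = 0 := by
        have : (2 : F) * a = 0 := by linear_combination 2 * hs - q2
        rcases mul_eq_zero.1 this with h2 | ha
        · exact h2
        · exact absurd ⟨by linear_combination hs - ha, rfl⟩ hts
      ext
      · simp; linear_combination hs - a * h2
      · simp; linear_combination h2
  · by_cases h2 : (2 : F) = 0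
    · have et' : t = 1 := by linear_combination et - h2
      subst et'
      have hs : s * (s + a) = 0 := by linear_combination q1
      rcases mul_eq_zero.1 hs with hs | hs
      · exact absurd ⟨hs, rfl⟩ hts
      · ext
        · simp; linear_combination hs - a * h2
        · simp; linear_combination h2
    · have et' : t = -1 := by linear_combination et
      subst et'
      have : 2 * (s - a) = 0 := by linear_combination q2
      have hs := (mul_eq_zero.1 this).resolve_left h2
      ext
      · simp; linear_combination hs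
      · simp; ring

theorem BinAniso.exists_refl_map (h : BinAniso a b) {u u' : F × F}
    (he : binForm a b u = binForm a b u') : ∃ g ∈ reflGroup (binForm a b), g.1 u = u' := by
  by_cases hu : u = u'
  · exact ⟨1, one_mem _, by simpa using hu⟩
  · exact ⟨_, rf_mem_reflGroup _, rf_sub_apply he (h.form_ne_zero (sub_ne_zero.2 hu))⟩

theorem BinAniso.reflGroup_eq_top (h : BinAniso a b) : reflGroup (binForm a b) = ⊤ := by
  rw [eq_top_iff]
  intro g _
  obtain ⟨k, hk, hk'⟩ := h.exists_refl_map (u := (1, 0)) (u' := g.1 (1, 0)) (by rw [map_form])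
  obtain ⟨s, hs, -, -, hall⟩ := h.exists_stab
  have h' : g = k * (k⁻¹ * g) := (mul_inv_cancel_left k g).symm
  rw [h']
  rcases hall (k⁻¹ * g) (by rw [coe_mul_apply, ← hk', coe_inv_apply_apply]) with e | e <;> rw [e]
  · exact mul_mem hk (one_mem _)
  · exact mul_mem hk hs

theorem BinAniso.card_orth (h : BinAniso a b) :
    Nat.card (orth (binForm a b)) = 2 * (Nat.card F + 1) := by
  obtain ⟨s, -, hs1, hsfix, hall⟩ := h.exists_stab
  let L := {v : F × F // binForm a b v = 1}
  choose k hk hk' using fun v : L => h.exists_refl_map (u := ((1, 0) : F × F)) (u' := v.1)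
    (by rw [v.2, binForm_apply]; simp)
  let f : L × Bool → orth (binForm a b) := fun p => k p.1 * cond p.2 s 1
  have hb : ∀ x : Bool, (cond x s (1 : orth (binForm a b))).1 (1, 0) = (1, 0) := by
    intro x; cases x
    · rfl
    · exact hsfix
  have hinj : Function.Injective f := by
    rintro ⟨v, x⟩ ⟨w, y⟩ e
    have := DFunLike.congr_fun (congrArg Subtype.val e) ((1, 0) : F × F)
    simp only [f, coe_mul_apply, hb, hk'] at this
    obtain rfl : v = w := Subtype.ext this
    have := mul_left_cancel e
    cases x <;> cases y <;> simp_all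
  have hsurj : Function.Surjective f := by
    intro g
    let v : L := ⟨g.1 (1, 0), by rw [map_form, binForm_apply]; simp⟩
    rcases hall ((k v)⁻¹ * g) (by
      rw [coe_mul_apply, show g.1 (1, 0) = v.1 from rfl, ← hk' v, coe_inv_apply_apply]) with e | e
    · exact ⟨(v, false), by simp [f, ← e]⟩
    · exact ⟨(v, true), by simp [f, ← e]⟩
  rw [← Nat.card_congr (Equiv.ofBijective f ⟨hinj, hsurj⟩), Nat.card_prod]
  show level (binForm a b) 1 * Nat.card Bool = _
  rw [h.level_eq one_ne_zero, Nat.card_eq_fintype_card (α := Bool), Fintype.card_bool, mul_comm]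

end Cfsg.Agent.UnitaryOrthogonal
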