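/-
The standard forms `H^m ⊥ Q₀`, their correspondence with `Cfsg.quadFormOdd/Plus/Minus`,
level counts and orders.
-/
import Cfsg.Agent.Lib.UnitaryOrthogonal.Binary

set_option autoImplicit false

namespace Cfsg.Agent.UnitaryOrthogonal

open QuadraticMap

section hypSum

variable {F W : Type*} [Field F] [AddCommGroup W] [Module F W]

/-- `((x, y), w) ↦ ∑ x_i y_i + Q w`. -/
def hypSum (m : ℕ) (Q : QuadraticForm F W) :
    QuadraticForm F (((Fin m → F) × (Fin m → F)) × W) :=
  QuadraticMap.prod (∑ i : Fin m, QuadraticMap.linMulLin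
    ((LinearMap.proj i).comp (LinearMap.fst F (Fin m → F) (Fin m → F)))
    ((LinearMap.proj i).comp (LinearMap.snd F (Fin m → F) (Fin m → F)))) Q

variable {Q : QuadraticForm F W} {m : ℕ}

@[simp] theorem hypSum_apply (v : ((Fin m → F) × (Fin m → F)) × W) :
    hypSum m Q v = ∑ i, v.1.1 i * v.1.2 i + Q v.2 := by
  simp [hypSum]

variable (Q)

/-- `H^0 ⊥ Q ≅ Q`. -/
def hypSumZero : (hypSum 0 Q).IsometryEquiv Q where
  toFun v := v.2
  invFun w := (0, w)
  map_add' _ _ := rfl
  map_smul' _ _ := rfl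
  left_inv v := Prod.ext (Subsingleton.elim _ _) rfl
  right_inv _ := rfl
  map_app' v := by simp

/-- `H^(m+1) ⊥ Q ≅ H ⊥ (H^m ⊥ Q)`. -/
def hypSumSucc (m : ℕ) : (hypSum (m + 1) Q).IsometryEquiv (hyp (hypSum m Q)) where
  toFun v := ((v.1.1 0, v.1.2 0), ((Fin.tail v.1.1, Fin.tail v.1.2), v.2))
  invFun v := ((Fin.cons v.1.1 v.2.1.1, Fin.cons v.1.2 v.2.1.2), v.2.2)
  map_add' _ _ := rfl
  map_smul' _ _ := rfl
  left_inv v := by simp
  right_inv v := by simp
  map_app' v := by simp [Fin.sum_univ_succ, Fin.tail, add_assoc]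

end hypSum

section congr

variable {F V V' : Type*} [Field F] [AddCommGroup V] [Module F V] [AddCommGroup V'] [Module F V']
  {Q : QuadraticForm F V} {Q' : QuadraticForm F V'}

theorem PolarND.congr (e : Q.IsometryEquiv Q') (h : PolarND Q) : PolarND Q' := fun u hp => by
  obtain ⟨y, rfl⟩ := e.toLinearEquiv.surjective u
  have hy : y = 0 := h y fun x => by
    have := hp (e x)
    simp only [polar] at this ⊢
    rwa [show e.toLinearEquiv y = e y from rfl,
      show e y + e x = e (y + x) from (map_add e.toLinearEquiv y x).symm, e.map_app, e.map_app,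
      e.map_app] at this
  rw [hy, map_zero]

theorem level_congr (e : Q.IsometryEquiv Q') (c : F) : level Q c = level Q' c :=
  Nat.card_congr (Equiv.subtypeEquiv e.toLinearEquiv.toEquiv fun v => by
    show Q v = c ↔ Q' (e v) = c
    rw [e.map_app])

theorem card_orth_congr (e : Q.IsometryEquiv Q') : Nat.card (orth Q) = Nat.card (orth Q') :=
  Nat.card_congr (orthCongr e).toEquiv

theorem polar_isometryEquiv (e : Q.IsometryEquiv Q') (x y : V) :
    polar Q' (e x) (e y) = polar Q x y := by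
  simp only [polar]
  rw [show e x + e y = e (x + y) from (map_add e.toLinearEquiv x y).symm, e.map_app, e.map_app,
    e.map_app]

theorem orthCongr_eich (e : Q.IsometryEquiv Q') (u z : V) :
    orthCongr e (eich Q u z) = eich Q' (e u) (e z) := by
  by_cases h : Q u = 0 ∧ polar Q u z = 0
  · refine orth_ext fun x => ?_
    obtain ⟨y, rfl⟩ := e.toLinearEquiv.surjective x
    rw [show e.toLinearEquiv y = e y from rfl, orthCongr_apply, eich_apply h.1 h.2,
      eich_apply (by rw [e.map_app]; exact h.1) (by rw [polar_isometryEquiv]; exact h.2)]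
    simp only [polar_isometryEquiv, e.map_app]
    show e.toLinearEquiv _ = _
    simp only [map_sub, map_add, map_smul]
    rfl
  · rw [eich, dif_neg h, eich, dif_neg (by simpa [polar_isometryEquiv] using h), map_one]

theorem reflGroup_congr (e : Q.IsometryEquiv Q') (h : reflGroup Q = ⊤) : reflGroup Q' = ⊤ := by
  rw [eq_top_iff, ← MonoidHom.range_eq_top_of_surjective (orthCongr e).toMonoidHom
    (orthCongr e).surjective, MonoidHom.range_eq_map, ← h, reflGroup, MonoidHom.map_closure,
    Subgroup.closure_le]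
  rintro _ ⟨_, ⟨a, rfl⟩, rfl⟩
  show orthCongr e (rf Q a) ∈ _
  rw [orthCongr_rf]
  exact rf_mem_reflGroup _

theorem elemGroup_congr (e : Q.IsometryEquiv Q') (h : elemGroup Q = ⊤) : elemGroup Q' = ⊤ := by
  rw [eq_top_iff, ← MonoidHom.range_eq_top_of_surjective (orthCongr e).toMonoidHom
    (orthCongr e).surjective, MonoidHom.range_eq_map, ← h, elemGroup, Subgroup.map_sup]
  refine sup_le_sup ?_ ?_
  · rw [reflGroup, MonoidHom.map_closure, Subgroup.closure_le]
    rintro _ ⟨_, ⟨a, rfl⟩, rfl⟩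
    show orthCongr e (rf Q a) ∈ _
    rw [orthCongr_rf]
    exact rf_mem_reflGroup _
  · rw [eichGroup, MonoidHom.map_closure, Subgroup.closure_le]
    rintro _ ⟨_, ⟨u, z, -, -, rfl⟩, rfl⟩
    show orthCongr e (eich Q u z) ∈ _
    rw [orthCongr_eich]
    exact eich_mem_eichGroup _ _

end congr

section hypSum_induction

variable {F W : Type*} [Field F] [AddCommGroup W] [Module F W] {Q : QuadraticForm F W}

theorem Nonsing.hypSum (h : Nonsing Q) : ∀ m, Nonsing (hypSum m Q)
  | 0 => h.congr (hypSumZero Q).symm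
  | m + 1 => ((Nonsing.hypSum h m).hyp).congr (hypSumSucc Q m).symm

theorem PolarND.hypSum (h : PolarND Q) : ∀ m, PolarND (hypSum m Q)
  | 0 => h.congr (hypSumZero Q).symm
  | m + 1 => ((PolarND.hypSum h m).hyp).congr (hypSumSucc Q m).symm

theorem elemGroup_hypSum (hN : Nonsing Q) (h : elemGroup Q = ⊤) :
    ∀ m, elemGroup (hypSum m Q) = ⊤
  | 0 => elemGroup_congr (hypSumZero Q).symm h
  | m + 1 => elemGroup_congr (hypSumSucc Q m).symm
      (elemGroup_hyp_eq_top (hN.hypSum m) (elemGroup_hypSum hN h m))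

theorem elemGroup_of_refl (h : reflGroup Q = ⊤) : elemGroup Q = ⊤ :=
  top_unique (h ▸ le_sup_left)

variable [Finite F] [Finite W]

theorem card_hypSum_space (m : ℕ) :
    Nat.card (((Fin m → F) × (Fin m → F)) × W) = Nat.card F ^ (2 * m) * Nat.card W := by
  rw [Nat.card_prod, Nat.card_prod, Nat.card_fun, Nat.card_eq_fintype_card (α := Fin m),
    Fintype.card_fin, ← pow_add, two_mul]

theorem level_hypSum (c : F) : ∀ m,
    Nat.card F * level (hypSum m Q) c + Nat.card F ^ m * Nat.card W =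
      Nat.card F ^ (2 * m) * Nat.card W + Nat.card F ^ (m + 1) * level Q c
  | 0 => by rw [level_congr (hypSumZero Q) c]; ring
  | m + 1 => by
    have ih := level_hypSum c m
    rw [level_congr (hypSumSucc Q m) c, level_hyp, card_hypSum_space]
    obtain ⟨k, hk⟩ : ∃ k, Nat.card F = k + 1 := ⟨Nat.card F - 1, by
      have := Nat.card_pos (α := F); omega⟩
    rw [hk] at ih ⊢
    simp only [Nat.add_sub_cancel]
    calc
      (k + 1) * (k * ((k + 1) ^ (2 * m) * Nat.card W) + (k + 1) * level (hypSum m Q) c) +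
            (k + 1) ^ (m + 1) * Nat.card W =
          (k + 1) * (k * ((k + 1) ^ (2 * m) * Nat.card W)) + (k + 1) *
            ((k + 1) * level (hypSum m Q) c + (k + 1) ^ m * Nat.card W) := by ring
      _ = _ := by rw [ih]; ring

theorem card_orth_hypSum_succ (hN : Nonsing Q) (m : ℕ) :
    Nat.card (orth (hypSum (m + 1) Q)) = (level (hypSum (m + 1) Q) 0 - 1) *
      (Nat.card F ^ (2 * m) * Nat.card W) * Nat.card (orth (hypSum m Q)) := by
  rw [card_orth_congr (hypSumSucc Q m), card_orth_hyp (hN.hypSum m), card_hypSum_space,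
    level_congr (hypSumSucc Q m)]

end hypSum_induction

/-! ### The standard forms -/

variable (F : Type*) [Field F]

/-- The zero form on the zero space. -/
def zeroForm : QuadraticForm F (Fin 0 → F) := 0

/-- `x ↦ x²`. -/
def sqForm : QuadraticForm F F := QuadraticMap.linMulLin LinearMap.id LinearMap.id

variable {F}

@[simp] theorem sqForm_apply (x : F) : sqForm F x = x * x := rfl

theorem polar_sqForm (x y : F) : polar (sqForm F) x y = 2 * (x * y) := by
  simp [polar]; ring

theorem nonsing_zeroForm : Nonsing (zeroForm F) := fun _ _ _ => Subsingleton.elim _ _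

theorem polarND_zeroForm : PolarND (zeroForm F) := fun _ _ => Subsingleton.elim _ _

theorem nonsing_sqForm : Nonsing (sqForm F) := fun _ hu _ => mul_self_eq_zero.1 hu

theorem polarND_sqForm (h2 : (2 : F) ≠ 0) : PolarND (sqForm F) := fun u hp => by
  have := hp 1
  rw [polar_sqForm, mul_one] at this
  exact (mul_eq_zero.1 this).resolve_left h2

theorem orth_zeroForm_eq_one (g : orth (zeroForm F)) : g = 1 :=
  orth_ext fun _ => Subsingleton.elim _ _

theorem reflGroup_zeroForm : reflGroup (zeroForm F) = ⊤ :=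
  eq_top_iff.2 fun g _ => by rw [orth_zeroForm_eq_one g]; exact one_mem _

theorem orth_sqForm_cases (g : orth (sqForm F)) : g = 1 ∨ g = rf (sqForm F) 1 := by
  have h := map_form g (1 : F)
  simp only [sqForm_apply, mul_one] at h
  have hx : ∀ x, g.1 x = x * g.1 1 := fun x => by
    conv_lhs => rw [← mul_one x, ← smul_eq_mul x 1, map_smul, smul_eq_mul]
  have hr : ∀ x, (rf (sqForm F) 1).1 x = -x ∨ (2 : F) = 0 := fun x => by
    by_cases h2 : (2 : F) = 0
    · exact Or.inr h2
    · exact Or.inl (by simp [rf_apply, polar_sqForm]; ring)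
  rcases mul_self_eq_one_iff.1 h with e | e
  · exact Or.inl (orth_ext fun x => by rw [hx, e, mul_one]; rfl)
  · by_cases h2 : (2 : F) = 0
    · refine Or.inl (orth_ext fun x => ?_)
      rw [hx, e, coe_one_apply]
      linear_combination (-x) * h2
    · exact Or.inr (orth_ext fun x => by rw [hx, e, (hr x).resolve_right h2]; ring)

theorem reflGroup_sqForm : reflGroup (sqForm F) = ⊤ :=
  eq_top_iff.2 fun g _ => by
    rcases orth_sqForm_cases g with e | e <;> rw [e]
    · exact one_mem _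
    · exact rf_mem_reflGroup _

theorem card_orth_zeroForm : Nat.card (orth (zeroForm F)) = 1 :=
  Nat.card_eq_one_iff_unique.2 ⟨⟨fun g h => (orth_zeroForm_eq_one g).trans
    (orth_zeroForm_eq_one h).symm⟩, ⟨1⟩⟩

theorem card_orth_sqForm (h2 : (2 : F) ≠ 0) : Nat.card (orth (sqForm F)) = 2 := by
  classical
  have hne : rf (sqForm F) 1 ≠ 1 := fun e => by
    have := DFunLike.congr_fun (congrArg Subtype.val e) (1 : F)
    simp [rf_apply, polar_sqForm] at this
    exact h2 this
  rw [← Nat.card_congr (Equiv.ofBijective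
    (fun b : Bool => cond b (rf (sqForm F) 1) 1) ⟨?_, ?_⟩), Nat.card_eq_fintype_card,
    Fintype.card_bool]
  · intro x y
    cases x <;> cases y <;> simp [hne, hne.symm]
  · intro g
    rcases orth_sqForm_cases g with e | e
    · exact ⟨false, e.symm⟩
    · exact ⟨true, e.symm⟩

theorem level_zeroForm : level (zeroForm F) 0 = 1 :=
  Nat.card_eq_one_iff_unique.2 ⟨⟨fun v w => Subtype.ext (Subsingleton.elim _ _)⟩,
    ⟨⟨0, QuadraticMap.map_zero _⟩⟩⟩

theorem level_sqForm : level (sqForm F) 0 = 1 :=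
  Nat.card_eq_one_iff_unique.2 ⟨⟨fun v w => Subtype.ext
    ((mul_self_eq_zero.1 v.2).trans (mul_self_eq_zero.1 w.2).symm)⟩, ⟨⟨0, QuadraticMap.map_zero _⟩⟩⟩

/-- Coordinates for the plus form. -/
def plusCoord (m : ℕ) (F : Type*) [Field F] :
    (Fin m ⊕ Fin m → F) ≃ₗ[F] ((Fin m → F) × (Fin m → F)) × (Fin 0 → F) where
  toFun v := ((v ∘ Sum.inl, v ∘ Sum.inr), 0)
  invFun p := Sum.elim p.1.1 p.1.2
  map_add' _ _ := Prod.ext (Prod.ext rfl rfl) (Subsingleton.elim _ _)
  map_smul' _ _ := Prod.ext (Prod.ext rfl rfl) (Subsingleton.elim _ _)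
  left_inv v := funext fun x => by cases x <;> rfl
  right_inv p := Prod.ext (Prod.ext rfl rfl) (Subsingleton.elim _ _)

/-- Coordinates for the odd form. -/
def oddCoord (m : ℕ) (F : Type*) [Field F] :
    (Unit ⊕ (Fin m ⊕ Fin m) → F) ≃ₗ[F] ((Fin m → F) × (Fin m → F)) × F where
  toFun v := ((fun i => v (.inr (.inl i)), fun i => v (.inr (.inr i))), v (.inl ()))
  invFun p := Sum.elim (fun _ => p.2) (Sum.elim p.1.1 p.1.2)
  map_add' _ _ := rfl
  map_smul' _ _ := rfl
  left_inv v := funext fun x => by rcases x with _ | x | x <;> rfl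
  right_inv p := rfl

/-- Coordinates for the minus form. -/
def minusCoord (m : ℕ) (F : Type*) [Field F] :
    ((Fin m ⊕ Fin m) ⊕ Fin 2 → F) ≃ₗ[F] ((Fin m → F) × (Fin m → F)) × (F × F) where
  toFun v := ((fun i => v (.inl (.inl i)), fun i => v (.inl (.inr i))), (v (.inr 0), v (.inr 1)))
  invFun p := Sum.elim (Sum.elim p.1.1 p.1.2) ![p.2.1, p.2.2]
  map_add' _ _ := rfl
  map_smul' _ _ := rfl
  left_inv v := funext fun x => by
    rcases x with (x | x) | x
    · rfl
    · rfl
    · fin_cases x <;> rfl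
  right_inv p := rfl

/-- `quadFormPlus` as a quadratic form. -/
def qPlus (m : ℕ) (F : Type*) [Field F] : QuadraticForm F (Fin m ⊕ Fin m → F) :=
  (hypSum m (zeroForm F)).comp (plusCoord m F).toLinearMap

/-- `quadFormOdd` as a quadratic form. -/
def qOdd (m : ℕ) (F : Type*) [Field F] : QuadraticForm F (Unit ⊕ (Fin m ⊕ Fin m) → F) :=
  (hypSum m (sqForm F)).comp (oddCoord m F).toLinearMap

/-- `quadFormMinus` as a quadratic form. -/
def qMinus (m : ℕ) (F : Type*) [Field F] (a b : F) :
    QuadraticForm F ((Fin m ⊕ Fin m) ⊕ Fin 2 → F) :=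
  (hypSum m (binForm a b)).comp (minusCoord m F).toLinearMap

theorem qPlus_apply (m : ℕ) (v : Fin m ⊕ Fin m → F) : qPlus m F v = Cfsg.quadFormPlus m F v := by
  simp [qPlus, plusCoord, Cfsg.quadFormPlus, zeroForm]

theorem qOdd_apply (m : ℕ) (v : Unit ⊕ (Fin m ⊕ Fin m) → F) :
    qOdd m F v = Cfsg.quadFormOdd m F v := by
  simp [qOdd, oddCoord, Cfsg.quadFormOdd]; ring

theorem qMinus_apply (m : ℕ) (a b : F) (v : (Fin m ⊕ Fin m) ⊕ Fin 2 → F) :
    qMinus m F a b v = Cfsg.quadFormMinus m F a b v := by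
  simp [qMinus, minusCoord, Cfsg.quadFormMinus, binForm_apply]

/-- `qPlus ≅ H^m`. -/
def qPlusIso (m : ℕ) (F : Type*) [Field F] :
    (qPlus m F).IsometryEquiv (hypSum m (zeroForm F)) :=
  { plusCoord m F with map_app' := fun _ => rfl }

/-- `qOdd ≅ H^m ⊥ ⟨x²⟩`. -/
def qOddIso (m : ℕ) (F : Type*) [Field F] :
    (qOdd m F).IsometryEquiv (hypSum m (sqForm F)) :=
  { oddCoord m F with map_app' := fun _ => rfl }

/-- `qMinus ≅ H^m ⊥ N`. -/
def qMinusIso (m : ℕ) (F : Type*) [Field F] (a b : F) :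
    (qMinus m F a b).IsometryEquiv (hypSum m (binForm a b)) :=
  { minusCoord m F with map_app' := fun _ => rfl }

/-- `isometryGroup F (quadFormPlus m F) ≅ O(H^m)`. -/
noncomputable def plusEquiv (m : ℕ) (F : Type*) [Field F] :
    Cfsg.isometryGroup F (Cfsg.quadFormPlus m F) ≃* orth (hypSum m (zeroForm F)) :=
  (isometryGroupEquiv (qPlus m F) (qPlus_apply m)).trans (orthCongr (qPlusIso m F))

/-- `isometryGroup F (quadFormOdd m F) ≅ O(H^m ⊥ ⟨x²⟩)`. -/
noncomputable def oddEquiv (m : ℕ) (F : Type*) [Field F] :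
    Cfsg.isometryGroup F (Cfsg.quadFormOdd m F) ≃* orth (hypSum m (sqForm F)) :=
  (isometryGroupEquiv (qOdd m F) (qOdd_apply m)).trans (orthCongr (qOddIso m F))

/-- `isometryGroup F (quadFormMinus m F a b) ≅ O(H^m ⊥ N)`. -/
noncomputable def minusEquiv (m : ℕ) (F : Type*) [Field F] (a b : F) :
    Cfsg.isometryGroup F (Cfsg.quadFormMinus m F a b) ≃* orth (hypSum m (binForm a b)) :=
  (isometryGroupEquiv (qMinus m F a b) (qMinus_apply m a b)).trans (orthCongr (qMinusIso m F a b))

/-! ### Counts and orders -/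

variable [Finite F]

theorem level_odd (m : ℕ) : level (hypSum m (sqForm F)) 0 = Nat.card F ^ (2 * m) := by
  have h := level_hypSum (Q := sqForm F) 0 m
  rw [level_sqForm, mul_one, ← pow_succ, Nat.mul_comm (Nat.card F ^ (2 * m))] at h
  exact Nat.eq_of_mul_eq_mul_left Nat.card_pos (Nat.add_right_cancel h)

theorem level_plus (m : ℕ) :
    Nat.card F * level (hypSum m (zeroForm F)) 0 + Nat.card F ^ m =
      Nat.card F ^ (2 * m) + Nat.card F ^ (m + 1) := by
  have h := level_hypSum (Q := zeroForm F) 0 m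
  rwa [level_zeroForm, mul_one, Nat.card_eq_fintype_card (α := Fin 0 → F), Fintype.card_unique,
    mul_one, mul_one] at h

theorem level_minus {a b : F} (hab : BinAniso a b) (m : ℕ) :
    Nat.card F * level (hypSum m (binForm a b)) 0 + Nat.card F ^ (m + 2) =
      Nat.card F ^ (2 * m + 2) + Nat.card F ^ (m + 1) := by
  have h := level_hypSum (Q := binForm a b) 0 m
  rw [hab.level_zero, mul_one, Nat.card_prod] at h
  rw [pow_add (Nat.card F) m, pow_add (Nat.card F) (2 * m), pow_two]
  exact h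

theorem card_orth_odd (h2 : (2 : F) ≠ 0) : ∀ m : ℕ, Nat.card (orth (hypSum m (sqForm F))) =
    2 * Nat.card F ^ (m ^ 2) * ∏ i ∈ Finset.range m, (Nat.card F ^ (2 * (i + 1)) - 1)
  | 0 => by rw [card_orth_congr (hypSumZero _), card_orth_sqForm h2]; simp
  | m + 1 => by
    rw [card_orth_hypSum_succ nonsing_sqForm, card_orth_odd h2 m, level_odd,
      Finset.prod_range_succ]
    ring

theorem card_orth_plus : ∀ m : ℕ, Nat.card (orth (hypSum (m + 1) (zeroForm F))) =
    2 * Nat.card F ^ ((m + 1) * m) * (Nat.card F ^ (m + 1) - 1) *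
      ∏ i ∈ Finset.range m, (Nat.card F ^ (2 * (i + 1)) - 1)
  | 0 => by
    have hl := level_plus (F := F) 1
    have hq := Nat.card_pos (α := F)
    have hlev : level (hypSum 1 (zeroForm F)) 0 + 1 = 2 * Nat.card F := by
      refine Nat.eq_of_mul_eq_mul_left hq ?_
      rw [pow_one] at hl
      rw [mul_add, mul_one, hl]; ring
    rw [card_orth_hypSum_succ nonsing_zeroForm, card_orth_congr (hypSumZero _),
      card_orth_zeroForm, Nat.card_eq_fintype_card (α := Fin 0 → F), Fintype.card_unique]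
    simp only [zero_add, mul_zero, pow_zero, pow_one, mul_one, Finset.range_zero,
      Finset.prod_empty] at hlev ⊢
    show level (hypSum 1 (zeroForm F)) 0 - 1 = _
    omega
  | m + 1 => by
    have hl := level_plus (F := F) (m + 2)
    rw [card_orth_hypSum_succ nonsing_zeroForm, card_orth_plus m, Finset.prod_range_succ,
      Nat.card_eq_fintype_card (α := Fin 0 → F), Fintype.card_unique]
    obtain ⟨x, hx⟩ : ∃ x, Nat.card F ^ (m + 1) = x + 1 :=
      ⟨Nat.card F ^ (m + 1) - 1, (Nat.succ_pred (pow_ne_zero _ Nat.card_pos.ne')).symm⟩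
    obtain ⟨y, hy⟩ : ∃ y, Nat.card F ^ (m + 2) = y + 1 :=
      ⟨Nat.card F ^ (m + 2) - 1, (Nat.succ_pred (pow_ne_zero _ Nat.card_pos.ne')).symm⟩
    have hL : level (hypSum (m + 1 + 1) (zeroForm F)) 0 - 1 = y * (x + 2) := by
      refine Nat.sub_eq_of_eq_add (Nat.eq_of_mul_eq_mul_left (Nat.card_pos (α := F)) ?_)
      have e1 : Nat.card F ^ (2 * (m + 2)) = (y + 1) * (y + 1) := by
        rw [← hy, ← pow_add, two_mul]
      have e2 : y + 1 = Nat.card F * (x + 1) := by rw [← hx, ← hy, ← pow_succ']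
      rw [hy, e1, pow_succ (n := m + 2), hy] at hl
      show Nat.card F * level (hypSum (m + 2) (zeroForm F)) 0 = _
      nlinarith [e2, hl]
    have hP : Nat.card F ^ (2 * (m + 1)) - 1 = x * (x + 2) := by
      rw [two_mul, pow_add, hx]
      exact Nat.sub_eq_of_eq_add (by ring)
    rw [hL, hP, hx, Nat.add_sub_cancel, show Nat.card F ^ (m + 1 + 1) - 1 = y by
      rw [show m + 1 + 1 = m + 2 from rfl, hy, Nat.add_sub_cancel]]
    ring

theorem card_orth_minus {a b : F} (hab : BinAniso a b) : ∀ m : ℕ,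
    Nat.card (orth (hypSum m (binForm a b))) =
    2 * Nat.card F ^ ((m + 1) * m) * (Nat.card F ^ (m + 1) + 1) *
      ∏ i ∈ Finset.range m, (Nat.card F ^ (2 * (i + 1)) - 1)
  | 0 => by rw [card_orth_congr (hypSumZero _), hab.card_orth]; simp
  | m + 1 => by
    have hl := level_minus hab (m + 1)
    rw [card_orth_hypSum_succ hab.nonsing, card_orth_minus hab m, Finset.prod_range_succ,
      Nat.card_prod]
    obtain ⟨x, hx⟩ : ∃ x, Nat.card F ^ (m + 1) = x + 1 :=
      ⟨Nat.card F ^ (m + 1) - 1, (Nat.succ_pred (pow_ne_zero _ Nat.card_pos.ne')).symm⟩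
    obtain ⟨y, hy⟩ : ∃ y, Nat.card F ^ (m + 2) = y + 1 :=
      ⟨Nat.card F ^ (m + 2) - 1, (Nat.succ_pred (pow_ne_zero _ Nat.card_pos.ne')).symm⟩
    have hL : level (hypSum (m + 1) (binForm a b)) 0 - 1 = (y + 2) * x := by
      refine Nat.sub_eq_of_eq_add (Nat.eq_of_mul_eq_mul_left (Nat.card_pos (α := F)) ?_)
      have e1 : Nat.card F ^ (2 * (m + 1) + 2) = (y + 1) * (y + 1) := by
        rw [← hy, ← pow_add]; congr 1; ring
      have e2 : y + 1 = Nat.card F * (x + 1) := by rw [← hx, ← hy, ← pow_succ']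
      rw [e1, pow_succ' (n := m + 1 + 1), show Nat.card F ^ (m + 1 + 1) = y + 1 from hy] at hl
      nlinarith [e2, hl]
    have hP : Nat.card F ^ (2 * (m + 1)) - 1 = x * (x + 2) := by
      rw [two_mul, pow_add, hx]
      exact Nat.sub_eq_of_eq_add (by ring)
    rw [hL, hP, hx, show Nat.card F ^ (m + 1 + 1) = y + 1 from hy]
    ring

end Cfsg.Agent.UnitaryOrthogonal
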