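/-
Two characters of the orthogonal group: the parity of `rank (g - 1)` and the sign of the
permutation induced on a level set.
-/
import Cfsg.Agent.Lib.UnitaryOrthogonal.Standard

set_option autoImplicit false

namespace Cfsg.Agent.UnitaryOrthogonal

open QuadraticMap

section rank

variable {F V : Type*} [Field F] [AddCommGroup V] [Module F V] [FiniteDimensional F V]
  {Q : QuadraticForm F V}

/-- `rank (g - 1)`. -/
noncomputable def moved (g : orth Q) : ℕ :=
  Module.finrank F (LinearMap.range (g.1.toLinearMap - LinearMap.id))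

theorem moved_one : moved (1 : orth Q) = 0 := by
  rw [moved, show ((1 : orth Q).1.toLinearMap - LinearMap.id) = 0 from
    LinearMap.ext fun x => by simp, LinearMap.range_zero, finrank_bot]

/-- Multiplying by a reflection changes `rank (g - 1)` by exactly one. -/
theorem moved_rf_mul (hQ : PolarND Q) {a : V} (ha : Q a ≠ 0) (g : orth Q) :
    (moved (rf Q a * g) = moved g + 1) ∨ moved g = moved (rf Q a * g) + 1 := by
  set T := g.1.toLinearMap - LinearMap.id with hT
  have hTx : ∀ x, T x = g.1 x - x := fun x => rfl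
  set T' := (rf Q a * g).1.toLinearMap - LinearMap.id with hT'
  have hT'x : ∀ x, T' x = T x - ((Q a)⁻¹ * polar Q a (g.1 x)) • a := fun x => by
    simp [T', hTx, rf_apply]; abel
  have ha0 : a ≠ 0 := by rintro rfl; simp at ha
  by_cases hmem : a ∈ LinearMap.range T
  · right
    obtain ⟨b, hb⟩ := hmem
    let L : V →ₗ[F] V := LinearMap.id + ((Q a)⁻¹ • polarBilin Q b).smulRight a
    have hLx : ∀ z, L z = z + ((Q a)⁻¹ * polar Q b z) • a := fun z => rfl
    have hkey : ∀ x, polar Q a (g.1 x) = -polar Q b (T x) := fun x => by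
      rw [← hb, hTx, hTx, polar_sub_left, map_polar, polar_sub_right]; ring
    have hcomp : T' = L ∘ₗ T := LinearMap.ext fun x => by
      rw [hT'x, LinearMap.comp_apply, hLx, hkey]; module
    have hba : polar Q b a = -Q a := by
      rw [← hb, hTx, polar_sub_right, polar_self_eq, sub_eq_add_neg (g.1 b) b, form_add,
        QuadraticMap.map_neg, map_form, polar_neg_right, polar_comm Q (g.1 b) b]
      ring
    have hLa : L a = 0 := by
      rw [hLx, hba, mul_neg, inv_mul_cancel₀ ha]; simp
    let L' := L.domRestrict (LinearMap.range T)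
    have hker : Module.finrank F (LinearMap.ker L') = 1 := by
      refine finrank_eq_one ⟨⟨a, b, hb⟩, hLa⟩ (fun e => ha0 ?_) fun w => ?_
      · exact congrArg (fun v : LinearMap.ker L' => ((v.1 : LinearMap.range T) : V)) e
      · refine ⟨-((Q a)⁻¹ * polar Q b w.1.1), Subtype.ext (Subtype.ext ?_)⟩
        have : L w.1.1 = 0 := w.2
        rw [hLx, add_eq_zero_iff_eq_neg] at this
        show -((Q a)⁻¹ * polar Q b w.1.1) • a = w.1.1
        rw [neg_smul]
        exact this.symm
    have := L'.finrank_range_add_finrank_ker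
    rw [hker, LinearMap.range_domRestrict] at this
    rw [moved, moved, ← hT, ← hT', hcomp, LinearMap.range_comp]
    exact this.symm
  · left
    obtain ⟨φ, hφa, hφR⟩ := Submodule.exists_dual_map_eq_bot_of_notMem hmem inferInstance
    have hinj : Function.Injective (polarBilin Q) := by
      rw [← LinearMap.ker_eq_bot, LinearMap.ker_eq_bot']
      exact fun u hu => hQ u fun x => LinearMap.congr_fun hu x
    obtain ⟨y, hy⟩ := (LinearMap.injective_iff_surjective_of_finrank_eq_finrank
      Subspace.dual_finrank_eq.symm).1 hinj φ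
    have hyx : ∀ x, polar Q y x = φ x := fun x => LinearMap.congr_fun hy x
    have hfix : g.1 y = y := by
      refine sub_eq_zero.1 (hQ _ fun x => ?_)
      obtain ⟨x, rfl⟩ := g.1.surjective x
      have h0 : φ (T x) = 0 := by
        have : φ (T x) ∈ (LinearMap.range T).map φ := ⟨T x, ⟨x, rfl⟩, rfl⟩
        rwa [hφR] at this
      rw [← hyx, hTx, polar_sub_right] at h0
      rw [polar_sub_left, map_polar]
      linear_combination -h0
    have hTy : T y = 0 := by rw [hTx, hfix, sub_self]
    have ha' : a ∈ LinearMap.range T' := by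
      refine ⟨(-(Q a / φ a)) • y, ?_⟩
      rw [map_smul, hT'x, hTy, hfix, polar_comm, hyx, zero_sub, smul_neg, smul_smul, ← neg_smul]
      conv_rhs => rw [← one_smul F a]
      congr 1
      field_simp
    have hsup : LinearMap.range T' = LinearMap.range T ⊔ Submodule.span F {a} := by
      refine le_antisymm ?_ (sup_le ?_ ((Submodule.span_singleton_le_iff_mem _ _).2 ha'))
      · rintro _ ⟨x, rfl⟩
        rw [hT'x]
        exact sub_mem (Submodule.mem_sup_left ⟨x, rfl⟩)
          (Submodule.mem_sup_right (Submodule.smul_mem _ _ (Submodule.mem_span_singleton_self a)))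
      · rintro _ ⟨x, rfl⟩
        have : T x = T' x + ((Q a)⁻¹ * polar Q a (g.1 x)) • a := by rw [hT'x]; abel
        rw [this]
        exact add_mem ⟨x, rfl⟩ (Submodule.smul_mem _ _ ha')
    have hdisj : LinearMap.range T ⊓ Submodule.span F {a} = ⊥ :=
      disjoint_iff.1 ((Submodule.disjoint_span_singleton' ha0).2 hmem)
    have := Submodule.finrank_sup_add_finrank_inf_eq (LinearMap.range T) (Submodule.span F {a})
    rw [hdisj, finrank_bot, add_zero, finrank_span_singleton ha0, ← hsup] at this
    exact this

/-- The parity of `rank (g - 1)` as a homomorphism, when reflections generate. -/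
noncomputable def dickson (hQ : PolarND Q) (hgen : reflGroup Q = ⊤) :
    orth Q →* Multiplicative (ZMod 2) where
  toFun g := Multiplicative.ofAdd (moved g : ZMod 2)
  map_one' := by rw [moved_one]; simp
  map_mul' g h := by
    suffices ∀ k : orth Q, ∀ h : orth Q,
        ((moved (k * h) : ℕ) : ZMod 2) = (moved k : ZMod 2) + (moved h : ZMod 2) by
      rw [← ofAdd_add, this]
    intro k
    have hk : k ∈ reflGroup Q := hgen ▸ Subgroup.mem_top k
    unfold reflGroup at hk
    induction hk using Subgroup.closure_induction with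
    | mem x hx =>
        obtain ⟨a, rfl⟩ := hx
        intro h
        by_cases ha : Q a = 0
        · have : rf Q a = 1 := orth_ext fun x => by simp [rf_apply, ha]
          rw [this, one_mul, moved_one]; simp
        · have h1 : moved (rf Q a) = 1 := by
            rcases moved_rf_mul hQ ha 1 with e | e
            · rwa [mul_one, moved_one, zero_add] at e
            · rw [moved_one] at e; omega
          have two : (2 : ZMod 2) = 0 := rfl
          rcases moved_rf_mul hQ ha h with e | e
          · rw [e, h1]; push_cast; ring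
          · rw [h1, e]; push_cast
            linear_combination (-1 : ZMod 2) * two
    | one => intro h; rw [one_mul, moved_one]; simp
    | mul x y _ _ hx hy => intro h; rw [mul_assoc, hx, hy, hx]; ring
    | inv x _ hx =>
        intro h
        have h0 := hx x⁻¹
        have h1 := hx (x⁻¹ * h)
        rw [mul_inv_cancel, moved_one, Nat.cast_zero] at h0
        rw [mul_inv_cancel_left] at h1
        linear_combination -h1 + h0

theorem dickson_apply (hQ : PolarND Q) (hgen : reflGroup Q = ⊤) (g : orth Q) :
    dickson hQ hgen g = Multiplicative.ofAdd ((moved g : ℕ) : ZMod 2) := rfl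

theorem moved_rf (hQ : PolarND Q) {a : V} (ha : Q a ≠ 0) : moved (rf Q a) = 1 := by
  rcases moved_rf_mul hQ ha 1 with e | e
  · rwa [mul_one, moved_one, zero_add] at e
  · rw [moved_one] at e; omega

theorem dickson_rf (hQ : PolarND Q) (hgen : reflGroup Q = ⊤) {a : V} (ha : Q a ≠ 0) :
    dickson hQ hgen (rf Q a) = Multiplicative.ofAdd 1 := by
  rw [dickson_apply, moved_rf hQ ha]; simp

theorem moved_neg_one (h2 : (2 : F) ≠ 0) {g : orth Q} (hg : ∀ v, g.1 v = -v) :
    moved g = Module.finrank F V := by
  rw [moved, show LinearMap.range (g.1.toLinearMap - LinearMap.id) = ⊤ from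
    LinearMap.range_eq_top.2 fun x => ⟨(-(2 : F)⁻¹) • x, by
      simp only [LinearMap.sub_apply, LinearMap.id_apply, LinearEquiv.coe_coe, hg]
      match_scalars
      field_simp
      ring⟩, finrank_top]

end rank

section sign

variable {F V : Type*} [Field F] [AddCommGroup V] [Module F V] [Finite V]

open scoped Classical in
/-- The sign of the permutation induced on `{v | Q v = 1}`. -/
noncomputable def levelSign (Q : QuadraticForm F V) : orth Q →* ℤˣ :=
  haveI : Fintype {v : V // Q v = 1} := Fintype.ofFinite _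
  Equiv.Perm.sign.comp
    { toFun := fun g => (g.1.toEquiv.subtypeEquiv fun v => by simp :
        Equiv.Perm {v : V // Q v = 1})
      map_one' := Equiv.ext fun _ => rfl
      map_mul' := fun _ _ => Equiv.ext fun _ => rfl }

variable {Q : QuadraticForm F V}

theorem levelSign_of_sq {g : orth Q} (h : g * g = 1) :
    levelSign Q g = (-1) ^ ((level Q 1 - Nat.card {v : V // Q v = 1 ∧ g.1 v = v}) / 2) := by
  classical
  letI : Fintype {v : V // Q v = 1} := Fintype.ofFinite _
  rw [levelSign, MonoidHom.comp_apply, Equiv.Perm.sign_of_pow_two_eq_one (Equiv.ext fun v => by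
    rw [pow_two]
    exact Subtype.ext (DFunLike.congr_fun (congrArg Subtype.val h) v.1))]
  congr 3
  · rw [level, Nat.card_eq_fintype_card]
    -- levels agree
  · rw [← Nat.card_eq_fintype_card]
    exact Nat.card_congr
      { toFun := fun v => ⟨v.1.1, v.1.2, congrArg Subtype.val v.2⟩
        invFun := fun v => ⟨⟨v.1, v.2.1⟩, Subtype.ext v.2.2⟩
        left_inv := fun v => rfl
        right_inv := fun v => rfl }

theorem two_dvd_level_sub {g : orth Q} (h : g * g = 1) :
    2 ∣ level Q 1 - Nat.card {v : V // Q v = 1 ∧ g.1 v = v} := by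
  classical
  haveI : Fintype {v : V // Q v = 1} := Fintype.ofFinite _
  let σ : Equiv.Perm {v : V // Q v = 1} := g.1.toEquiv.subtypeEquiv fun v => by simp
  have hσ : σ ^ 2 ^ 1 = 1 := Equiv.ext fun v => by
    rw [pow_one, pow_two]
    exact Subtype.ext (DFunLike.congr_fun (congrArg Subtype.val h) v.1)
  haveI : Fact (Nat.Prime 2) := ⟨Nat.prime_two⟩
  have hc : Nat.card {v : V // Q v = 1 ∧ g.1 v = v} = σ.supportᶜ.card := by
    rw [← Fintype.card_coe, ← Nat.card_eq_fintype_card]
    exact Nat.card_congr
      { toFun := fun v => ⟨⟨v.1, v.2.1⟩, by simp [σ, Subtype.ext_iff, v.2.2]⟩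
        invFun := fun v => ⟨v.1.1, v.1.2, by
          exact congrArg Subtype.val (Equiv.Perm.notMem_support.1 (Finset.mem_compl.1 v.2))⟩
        left_inv := fun v => rfl
        right_inv := fun v => rfl }
  rw [hc, level, Nat.card_eq_fintype_card]
  exact (Nat.modEq_iff_dvd' (Finset.card_le_univ _)).1 (Equiv.Perm.card_compl_support_modEq hσ)

theorem levelSign_neg_one (h2 : (2 : F) ≠ 0) {g : orth Q} (hg : ∀ v, g.1 v = -v) :
    levelSign Q g = (-1) ^ (level Q 1 / 2) := by
  rw [levelSign_of_sq (orth_ext fun v => by simp [hg])]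
  have : IsEmpty {v : V // Q v = 1 ∧ g.1 v = v} := ⟨fun ⟨v, hv, hgv⟩ => by
    rw [hg, neg_eq_iff_add_eq_zero, ← two_smul F, smul_eq_zero] at hgv
    rw [hgv.resolve_left h2, QuadraticMap.map_zero] at hv
    exact zero_ne_one hv⟩
  rw [Nat.card_of_isEmpty, Nat.sub_zero]

/-- Two reflections have different sign when their fixed-point counts differ by `2 mod 4`. -/
theorem levelSign_rf_ne {a b : V} (ha : Q a ≠ 0) (hb : Q b ≠ 0)
    (h : ((Nat.card {v : V // Q v = 1 ∧ polar Q a v = 0} : ℤ) -
      Nat.card {v : V // Q v = 1 ∧ polar Q b v = 0}) % 4 = 2) :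
    levelSign Q (rf Q a) ≠ levelSign Q (rf Q b) := by
  have key : ∀ a, Q a ≠ 0 → Nat.card {v : V // Q v = 1 ∧ (rf Q a).1 v = v} =
      Nat.card {v : V // Q v = 1 ∧ polar Q a v = 0} := fun a ha => by
    refine Nat.card_congr (Equiv.subtypeEquivRight fun v => and_congr_right fun _ => ?_)
    rw [rf_apply, sub_eq_self, smul_eq_zero, mul_eq_zero, inv_eq_zero]
    have ha0 : a ≠ 0 := by rintro rfl; simp at ha
    simp [ha, ha0]
  rw [levelSign_of_sq (rf_mul_self a), levelSign_of_sq (rf_mul_self b)]
  have d1 := two_dvd_level_sub (rf_mul_self (Q := Q) a)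
  have d2 := two_dvd_level_sub (rf_mul_self (Q := Q) b)
  rw [key a ha] at d1 ⊢
  rw [key b hb] at d2 ⊢
  have le : ∀ p : V → Prop, Nat.card {v : V // Q v = 1 ∧ p v} ≤ level Q 1 := fun p =>
    Nat.card_le_card_of_injective (fun v => ⟨v.1, v.2.1⟩) fun v w e =>
      Subtype.ext (congrArg (fun u : {v : V // Q v = 1} => u.1) e)
  have l1 := le fun v => polar Q a v = 0
  have l2 := le fun v => polar Q b v = 0
  rw [Int.units_pow_eq_pow_mod_two, Int.units_pow_eq_pow_mod_two _
    ((_ - Nat.card {v : V // Q v = 1 ∧ polar Q b v = 0}) / 2)]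
  intro e
  have : ((level Q 1 - Nat.card {v : V // Q v = 1 ∧ polar Q a v = 0}) / 2) % 2 =
      ((level Q 1 - Nat.card {v : V // Q v = 1 ∧ polar Q b v = 0}) / 2) % 2 := by
    rcases Nat.mod_two_eq_zero_or_one
      ((level Q 1 - Nat.card {v : V // Q v = 1 ∧ polar Q a v = 0}) / 2) with h₁ | h₁ <;>
    rcases Nat.mod_two_eq_zero_or_one
      ((level Q 1 - Nat.card {v : V // Q v = 1 ∧ polar Q b v = 0}) / 2) with h₂ | h₂ <;>
    rw [h₁, h₂] at e ⊢ <;> simp at e
  omega

end sign

section fixedPoints

variable {F W : Type*} [Field F] [AddCommGroup W] [Module F W]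

/-- Number of `(x, w)` with `P w = 1 + c x²`. -/
noncomputable def mixedCount (P : QuadraticForm F W) (c : F) : ℕ :=
  Nat.card {p : F × W // P p.2 = 1 + c * p.1 ^ 2}

theorem card_level_perp (P : QuadraticForm F W) (c : F) :
    Nat.card {v : (F × F) × W // hyp P v = 1 ∧ polar (hyp P) ((1, c), 0) v = 0} =
      mixedCount P c :=
  Nat.card_congr
    { toFun := fun v => ⟨(v.1.1.1, v.1.2), by
        obtain ⟨⟨⟨x, y⟩, w⟩, h1, h2⟩ := v
        simp [polar_hyp] at h1 h2
        simp only
        linear_combination h1 - x * h2⟩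
      invFun := fun p => ⟨((p.1.1, -(c * p.1.1)), p.1.2), by
        obtain ⟨⟨x, w⟩, h⟩ := p
        simp only at h
        constructor
        · rw [hyp_apply, h]; ring
        · simp [polar_hyp]; ring⟩
      left_inv := fun v => by
        obtain ⟨⟨⟨x, y⟩, w⟩, h1, h2⟩ := v
        simp [polar_hyp] at h2
        refine Subtype.ext (Prod.ext (Prod.ext rfl ?_) rfl)
        linear_combination -h2
      right_inv := fun p => rfl }

variable [Finite F] [Finite W]

theorem mixedCount_eq_sum [Fintype F] (P : QuadraticForm F W) (c : F) :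
    mixedCount P c = ∑ x : F, level P (1 + c * x ^ 2) := by
  rw [mixedCount, Nat.card_congr
    ({ toFun := fun p => ⟨p.1.1, p.1.2, p.2⟩
       invFun := fun s => ⟨(s.1, s.2.1), s.2.2⟩
       left_inv := fun p => rfl
       right_inv := fun s => rfl } :
      {p : F × W // P p.2 = 1 + c * p.1 ^ 2} ≃ Σ x : F, {w : W // P w = 1 + c * x ^ 2}),
    Nat.card_sigma]
  rfl

theorem mixedCount_hyp (P : QuadraticForm F W) (c : F) :
    mixedCount (hyp P) c =
      Nat.card F * ((Nat.card F - 1) * Nat.card W) + Nat.card F * mixedCount P c := by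
  cases nonempty_fintype F
  rw [mixedCount_eq_sum, mixedCount_eq_sum]
  simp only [level_hyp, Finset.sum_add_distrib, Finset.sum_const, Finset.card_univ, smul_eq_mul,
    Nat.card_eq_fintype_card (α := F), Finset.mul_sum]

theorem mixedCount_congr {W' : Type*} [AddCommGroup W'] [Module F W'] {P : QuadraticForm F W}
    {P' : QuadraticForm F W'} (e : P.IsometryEquiv P') (c : F) :
    mixedCount P c = mixedCount P' c :=
  Nat.card_congr (Equiv.subtypeEquiv ((Equiv.refl F).prodCongr e.toLinearEquiv.toEquiv) fun p => by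
    show P p.2 = _ ↔ P' (e p.2) = _
    rw [e.map_app]; rfl)

theorem mixedCount_hypSum (P : QuadraticForm F W) (c d : F) : ∀ m : ℕ,
    (mixedCount (hypSum m P) c : ℤ) - mixedCount (hypSum m P) d =
      (Nat.card F : ℤ) ^ m * ((mixedCount P c : ℤ) - mixedCount P d)
  | 0 => by rw [mixedCount_congr (hypSumZero P), mixedCount_congr (hypSumZero P)]; simp
  | m + 1 => by
    have ih := mixedCount_hypSum P c d m
    rw [mixedCount_congr (hypSumSucc P m), mixedCount_congr (hypSumSucc P m), mixedCount_hyp,
      mixedCount_hyp, pow_succ]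
    push_cast
    linear_combination (Nat.card F : ℤ) * ih

variable [Fintype F]

open scoped Classical in
theorem card_root_one_add (h2 : (2 : F) ≠ 0) {c : F} (hc : c ≠ 0) :
    (Finset.univ.filter fun x : F => 1 + c * x ^ 2 = 0).card = if IsSquare (-c) then 2 else 0 := by
  split_ifs with h
  · obtain ⟨r, hr⟩ := h
    have hr0 : r ≠ 0 := by
      rintro rfl
      simp [hc] at hr
    rw [Finset.card_eq_two]
    refine ⟨r⁻¹, -r⁻¹, fun e => ?_, ?_⟩
    · rw [eq_neg_iff_add_eq_zero, ← two_mul, mul_eq_zero] at e
      exact inv_ne_zero hr0 (e.resolve_left h2)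
    · ext x
      simp only [Finset.mem_filter, Finset.mem_univ, true_and, Finset.mem_insert,
        Finset.mem_singleton]
      constructor
      · intro hx
        have : (r * x - 1) * (r * x + 1) = 0 := by linear_combination -hx - x ^ 2 * hr
        rcases mul_eq_zero.1 this with e | e
        · left; field_simp; linear_combination e
        · right; field_simp; linear_combination e
      · intro hx
        have hx2 : x ^ 2 = (r⁻¹) ^ 2 := by rcases hx with rfl | rfl <;> ring
        rw [hx2]; field_simp; linear_combination -hr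
  · rw [Finset.card_eq_zero, Finset.filter_eq_empty_iff]
    intro x _ hx
    refine h ⟨x⁻¹, ?_⟩
    have hx0 : x ≠ 0 := by rintro rfl; simp at hx
    field_simp
    linear_combination -hx

theorem exists_nonsquare_neg (h2 : (2 : F) ≠ 0) :
    ∃ c : F, c ≠ 0 ∧ ¬IsSquare c ∧ (IsSquare (-c) ↔ ¬IsSquare (-1 : F)) := by
  obtain ⟨c, hc⟩ := FiniteField.exists_nonsquare (F := F) fun hch => h2 (by
    haveI : CharP F 2 := hch ▸ inferInstance
    exact CharTwo.two_eq_zero)
  have hc0 : c ≠ 0 := by rintro rfl; exact hc ⟨0, (mul_zero 0).symm⟩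
  refine ⟨c, hc0, hc, ?_⟩
  classical
  rw [← quadraticChar_one_iff_isSquare (neg_ne_zero.2 hc0), ← quadraticChar_one_iff_isSquare
    (neg_ne_zero.2 (one_ne_zero (α := F))), show -c = -1 * c by ring, map_mul]
  have hcq := quadraticChar_neg_one_iff_not_isSquare.2 hc
  rw [hcq]
  rcases quadraticChar_dichotomy (neg_ne_zero.2 (one_ne_zero (α := F))) with e | e <;>
    rw [e] <;> decide

open scoped Classical in
theorem mixedCount_zeroForm {c : F} (hc : c ≠ 0) (h2 : (2 : F) ≠ 0) :
    mixedCount (zeroForm F) c = if IsSquare (-c) then 2 else 0 := by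
  rw [← card_root_one_add h2 hc, ← Fintype.card_subtype, ← Nat.card_eq_fintype_card]
  exact Nat.card_congr
    { toFun := fun p => ⟨p.1.1, by have := p.2; simp [zeroForm] at this; exact this.symm⟩
      invFun := fun x => ⟨(x.1, 0), by simp [zeroForm, x.2]⟩
      left_inv := fun p => Subtype.ext (Prod.ext rfl (Subsingleton.elim _ _))
      right_inv := fun x => rfl }

theorem mixedCount_sqForm_one (h2 : (2 : F) ≠ 0) :
    mixedCount (sqForm F) 1 = Nat.card F - 1 := by
  classical
  have : Nat.card {p : F × F // p.1 * p.2 = (1 : F)} = Nat.card F - 1 := by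
    rw [card_mul_eq, if_neg one_ne_zero, add_zero]
  rw [← this]
  refine Nat.card_congr
    { toFun := fun p => ⟨(p.1.2 - p.1.1, p.1.2 + p.1.1), by
        have := p.2; simp at this ⊢; linear_combination this⟩
      invFun := fun p => ⟨((p.1.2 - p.1.1) / 2, (p.1.2 + p.1.1) / 2), by
        have := p.2; simp; field_simp; linear_combination 4 * this⟩
      left_inv := fun p => by ext <;> simp <;> field_simp <;> ring
      right_inv := fun p => by ext <;> simp <;> field_simp <;> ring }

theorem binAniso_of_not_isSquare {c : F} (hc : ¬IsSquare c) : BinAniso 0 (-c) := by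
  intro z₁ z₂ h
  by_cases hz : z₂ = 0
  · subst hz
    simp at h
    exact ⟨h, rfl⟩
  · exfalso
    refine hc ⟨z₁ / z₂, ?_⟩
    field_simp
    linear_combination -h

theorem mixedCount_sqForm_nonsquare {c : F} (hc : ¬IsSquare c) :
    mixedCount (sqForm F) c = Nat.card F + 1 := by
  rw [← (binAniso_of_not_isSquare hc).level_eq (c := 1) one_ne_zero]
  exact Nat.card_congr
    { toFun := fun p => ⟨(p.1.2, p.1.1), by
        have := p.2; simp [binForm_apply] at this ⊢; linear_combination this⟩
      invFun := fun v => ⟨(v.1.2, v.1.1), by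
        have := v.2; simp [binForm_apply] at this ⊢; linear_combination this⟩
      left_inv := fun p => rfl
      right_inv := fun v => rfl }

open scoped Classical in
theorem mixedCount_binForm {a b c : F} (hab : BinAniso a b) (hc : c ≠ 0) (h2 : (2 : F) ≠ 0) :
    mixedCount (binForm a b) c + Nat.card F * (if IsSquare (-c) then 2 else 0) =
      Nat.card F * (Nat.card F + 1) := by
  rw [mixedCount_eq_sum, ← card_root_one_add h2 hc, Finset.card_filter, Finset.mul_sum,
    ← Finset.sum_add_distrib, Finset.sum_congr rfl (g := fun _ => Nat.card F + 1) fun x _ => ?_,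
    Finset.sum_const, Finset.card_univ, smul_eq_mul, Nat.card_eq_fintype_card]
  split_ifs with hx
  · rw [hx, hab.level_zero]; ring
  · rw [hab.level_eq hx]; ring

end fixedPoints

end Cfsg.Agent.UnitaryOrthogonal
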