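/-
The group generated by Eichler transformations in Witt index at least two: transitivity,
perfectness, generation by reflections, and simplicity modulo scalars.
-/
import Cfsg.Agent.Lib.UnitaryOrthogonal.Standard

set_option autoImplicit false

namespace Cfsg.Agent.UnitaryOrthogonal

open QuadraticMap
open scoped commutatorElement

section maps

variable {F V : Type*} [Field F] [AddCommGroup V] [Module F V] {Q : QuadraticForm F V}

/-- Vectors of equal value and equal nonzero product with the singular `u` are related by an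
Eichler transformation at `u`. -/
theorem exists_eich_map_of_polar_eq {u a b : V} (hu : Q u = 0) (h : polar Q u a = polar Q u b)
    (h0 : polar Q u a ≠ 0) (hab : Q a = Q b) : ∃ g ∈ eichGroup Q, g.1 a = b := by
  obtain ⟨l, hl⟩ : ∃ l, polar Q u a = l := ⟨_, rfl⟩
  rw [hl] at h h0
  have hz : polar Q u (l⁻¹ • (b - a)) = 0 := by simp [polar_sub_right, hl, ← h]
  have e1 : polar Q (l⁻¹ • (b - a)) a = l⁻¹ * (polar Q b a - 2 * Q a) := by
    rw [polar_smul_left, polar_sub_left, polar_self_eq, smul_eq_mul]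
  have e2 : Q (l⁻¹ • (b - a)) = l⁻¹ * l⁻¹ * (2 * Q a - polar Q b a) := by
    rw [form_smul, sub_eq_add_neg b a, form_add, QuadraticMap.map_neg, polar_neg_right, ← hab]
    ring
  refine ⟨_, eich_mem_eichGroup u (l⁻¹ • (b - a)), ?_⟩
  rw [eich_apply hu hz, hl, e1, e2]
  match_scalars <;> field_simp <;> ring

/-- Singular `s ⊥ u` independent of `u`: functionals `f(u,·)`, `f(s,·)` are independent. -/
theorem exists_polar_eq_pair (hQ : PolarND Q) {u s : V} (hu : Q u = 0) (hu0 : u ≠ 0)
    (hs : ∀ c : F, s ≠ c • u) (l m : F) : ∃ x, polar Q u x = l ∧ polar Q s x = m := by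
  obtain ⟨v, -, huv⟩ := exists_pair hQ.nonsing hu hu0
  obtain ⟨y, hy⟩ : ∃ y, polar Q s (y - polar Q u y • v) ≠ 0 := by
    by_contra h
    simp only [ne_eq, not_exists, not_not] at h
    refine hs (polar Q s v) (sub_eq_zero.1 (hQ _ fun x => ?_))
    have := h x
    rw [polar_sub_right, polar_smul_right, smul_eq_mul] at this
    rw [polar_sub_left, polar_smul_left, smul_eq_mul]
    linear_combination this
  obtain ⟨z, hz⟩ : ∃ z, z = y - polar Q u y • v := ⟨_, rfl⟩
  rw [← hz] at hy
  have huz : polar Q u z = 0 := by simp [hz, polar_sub_right, huv]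
  refine ⟨l • v + ((m - l * polar Q s v) * (polar Q s z)⁻¹) • z, ?_, ?_⟩
  · simp [polar_add_right, huv, huz]
  · simp [polar_add_right, hy]

theorem exists_form_eq_of_singular (hQ : PolarND Q) {u : V} (hu : Q u = 0) (hu0 : u ≠ 0) (c : F) :
    ∃ x, polar Q u x = 1 ∧ Q x = c := by
  obtain ⟨v, hv, huv⟩ := exists_pair hQ.nonsing hu hu0
  refine ⟨v + c • u, by simp [polar_add_right, huv, polar_self_eq, hu], ?_⟩
  simp [form_add, form_smul, hu, hv, polar_comm Q v u, huv]

theorem exists_eich_map_link (hQ : PolarND Q) {u s a d : V} (hu : Q u = 0) (hs : Q s = 0)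
    (hus : polar Q u s = 0) (hu0 : u ≠ 0) (hind : ∀ c : F, s ≠ c • u) (ha : polar Q u a ≠ 0)
    (hd : polar Q s d ≠ 0) (h : Q a = Q d) : ∃ g ∈ eichGroup Q, g.1 a = d := by
  obtain ⟨x, hx1, hx2⟩ := exists_polar_eq_pair hQ hu hu0 hind (polar Q u a) (polar Q s d)
  obtain ⟨t, ht⟩ : ∃ t, t = (Q a - Q x) / polar Q u a := ⟨_, rfl⟩
  have hb : Q (x + t • u) = Q a := by
    rw [form_add, form_smul, hu, polar_smul_right, polar_comm Q x u, hx1, smul_eq_mul, ht]
    field_simp
    ring
  have hb1 : polar Q u (x + t • u) = polar Q u a := by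
    simp [polar_add_right, polar_self_eq, hu, hx1]
  have hb2 : polar Q s (x + t • u) = polar Q s d := by
    simp [polar_add_right, polar_comm Q s u, hus, hx2]
  obtain ⟨g₁, hg₁, e₁⟩ := exists_eich_map_of_polar_eq hu hb1.symm ha hb.symm
  obtain ⟨g₂, hg₂, e₂⟩ := exists_eich_map_of_polar_eq hs hb2 (hb2 ▸ hd) (hb.trans h)
  exact ⟨g₂ * g₁, mul_mem hg₂ hg₁, by rw [coe_mul_apply, e₁, e₂]⟩

/-- `g` fixes every singular point. -/
def FixesPoints (g : orth Q) : Prop := ∀ v, Q v = 0 → ∃ c : F, g.1 v = c • v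

end maps

variable {F U : Type*} [Field F] [AddCommGroup U] [Module F U] {M : QuadraticForm F U}

/-- The embedding of the orthogonal complement of the first hyperbolic plane. -/
def inW {W : Type*} [AddCommGroup W] [Module F W] : W →ₗ[F] (F × F) × W :=
  LinearMap.inr F (F × F) W

theorem inW_apply {W : Type*} [AddCommGroup W] [Module F W] (w : W) :
    inW (F := F) w = ((0, 0), w) := rfl

section plane

variable {W : Type*} [AddCommGroup W] [Module F W] {P : QuadraticForm F W}

@[simp high] theorem hyp_inW (w : W) : hyp P (inW w) = P w := by simp [inW_apply]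

@[simp] theorem polar_hyp_inW (w w' : W) : polar (hyp P) (inW w) (inW w') = polar P w w' := by
  simp [inW_apply, polar_hyp]

@[simp] theorem polar_eVec_inW (w : W) : polar (hyp P) (eVec F W) (inW w) = 0 := by
  rw [polar_eVec]; rfl

@[simp] theorem polar_fVec_inW (w : W) : polar (hyp P) (fVec F W) (inW w) = 0 := by
  rw [polar_fVec]; rfl

theorem decomp (v : (F × F) × W) :
    v = v.1.1 • eVec F W + v.1.2 • fVec F W + inW v.2 := by
  simp [eVec, fVec, inW_apply, Prod.ext_iff]

/-- Every vector is a sum of singular vectors. -/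
theorem closure_singular_eq_top :
    AddSubgroup.closure {v : (F × F) × W | hyp P v = 0} = ⊤ := by
  rw [eq_top_iff]
  intro v _
  have hs : ∀ v : (F × F) × W, hyp P v = 0 →
      v ∈ AddSubgroup.closure {v : (F × F) × W | hyp P v = 0} :=
    fun v h => AddSubgroup.subset_closure h
  have : v = ((v.1.1 - 1, 0), 0) + ((0, v.1.2 + P v.2), 0) + ((1, -P v.2), v.2) := by
    simp [Prod.ext_iff]
  rw [this]
  exact add_mem (add_mem (hs _ (by simp)) (hs _ (by simp))) (hs _ (by simp))

end plane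

section index2

variable (hM : PolarND M) (hex : ∃ a, M a ≠ 0)
include hM

/-- `eichGroup` is transitive on each set of nonzero vectors of given value. -/
theorem exists_eich_map {a d : (F × F) × ((F × F) × U)} (ha : a ≠ 0) (hd : d ≠ 0)
    (h : hyp (hyp M) a = hyp (hyp M) d) :
    ∃ g ∈ eichGroup (hyp (hyp M)), g.1 a = d := by
  have hQ : PolarND (hyp (hyp M)) := hM.hyp.hyp
  have hsing : ∀ a : (F × F) × ((F × F) × U), a ≠ 0 →
      ∃ u, hyp (hyp M) u = 0 ∧ u ≠ 0 ∧ polar (hyp (hyp M)) u a ≠ 0 := by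
    intro a ha
    by_contra hc
    refine ha (hQ a fun x => ?_)
    have key : ∀ x, x ∈ AddSubgroup.closure {v | hyp (hyp M) v = 0} →
        polar (hyp (hyp M)) a x = 0 := by
      intro x hx
      induction hx using AddSubgroup.closure_induction with
      | mem v hv =>
          by_contra hne
          refine hc ⟨v, hv, ?_, by rwa [polar_comm]⟩
          rintro rfl
          simp at hne
      | zero => simp
      | add x y _ _ h1 h2 => rw [polar_add_right, h1, h2, add_zero]
      | neg x _ h1 => rw [polar_neg_right, h1, neg_zero]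
    exact key x (closure_singular_eq_top (P := hyp M) ▸ AddSubgroup.mem_top x)
  obtain ⟨u, hu, hu0, hua⟩ := hsing a ha
  obtain ⟨s, hs, hs0, hsd⟩ := hsing d hd
  by_cases hgood : polar (hyp (hyp M)) u s = 0 ∧ ∀ c : F, s ≠ c • u
  · exact exists_eich_map_link hQ hu hs hgood.1 hu0 hgood.2 hua hsd h
  · -- an auxiliary singular vector orthogonal to both
    obtain ⟨r, hr, hur, hrs, hri, hri'⟩ : ∃ r, hyp (hyp M) r = 0 ∧
        polar (hyp (hyp M)) u r = 0 ∧ polar (hyp (hyp M)) r s = 0 ∧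
        (∀ c : F, r ≠ c • u) ∧ ∀ c : F, s ≠ c • r := by
      obtain ⟨v, hv, huv, hsv⟩ : ∃ v, hyp (hyp M) v = 0 ∧ polar (hyp (hyp M)) u v = 1 ∧
          ((∃ c : F, s = c • u) ∨ ∃ c : F, s = c • v) := by
        by_cases hp : polar (hyp (hyp M)) u s = 0
        · obtain ⟨v, hv, huv⟩ := exists_pair hQ.nonsing hu hu0
          exact ⟨v, hv, huv, Or.inl (by_contra fun hne => hgood ⟨hp, fun c e => hne ⟨c, e⟩⟩)⟩
        · refine ⟨(polar (hyp (hyp M)) u s)⁻¹ • s, by rw [form_smul, hs, mul_zero],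
            by rw [polar_smul_right, smul_eq_mul, inv_mul_cancel₀ hp],
            Or.inr ⟨polar (hyp (hyp M)) u s, by rw [smul_smul, mul_inv_cancel₀ hp, one_smul]⟩⟩
      obtain ⟨g, -, hge, hgf⟩ := exists_elem_map_pair hQ.nonsing (hyp_eVec (Q := hyp M))
        (hyp_fVec (Q := hyp M)) polar_eVec_fVec hu hv huv
      have hne : ∀ c : F, inW (eVec F U) ≠ c • eVec F ((F × F) × U) ∧
          inW (eVec F U) ≠ c • fVec F ((F × F) × U) := fun c => by
        constructor <;> intro e <;> simp [eVec, fVec, inW_apply, Prod.ext_iff] at e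
      refine ⟨g.1 (inW (eVec F U)), by rw [map_form, hyp_inW, hyp_eVec],
        by rw [← hge, map_polar, polar_eVec_inW], ?_, ?_, ?_⟩
      · rcases hsv with ⟨c, rfl⟩ | ⟨c, rfl⟩
        · rw [polar_smul_right, ← hge, map_polar, polar_comm, polar_eVec_inW, smul_zero]
        · rw [polar_smul_right, ← hgf, map_polar, polar_comm, polar_fVec_inW, smul_zero]
      · intro c e
        rw [← hge, ← map_smul] at e
        exact (hne c).1 (g.1.injective e)
      · intro c e
        have key : ∀ (x : (F × F) × ((F × F) × U)) (k : F), k ≠ 0 →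
            k • x = c • inW (eVec F U) → inW (eVec F U) = (c⁻¹ * k) • x ∨ x = 0 := by
          intro x k hk e'
          rcases eq_or_ne c 0 with rfl | hc
          · rw [zero_smul, smul_eq_zero] at e'
            exact Or.inr (e'.resolve_left hk)
          · exact Or.inl (by rw [mul_smul, e', smul_smul, inv_mul_cancel₀ hc, one_smul])
        have hk : ∀ k : F, ∀ w, s = k • w → k ≠ 0 := fun k w e' hk => by
          rw [hk, zero_smul] at e'; exact hs0 e'
        rcases hsv with ⟨k, hk'⟩ | ⟨k, hk'⟩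
        · have hk0 := hk k u hk'
          rw [hk', ← hge, ← map_smul, ← map_smul] at e
          rcases key _ k hk0 (g.1.injective e) with e1 | e1
          · exact (hne _).1 e1
          · exact eVec_ne_zero e1
        · have hk0 := hk k v hk'
          rw [hk', ← hgf, ← map_smul, ← map_smul] at e
          rcases key _ k hk0 (g.1.injective e) with e1 | e1
          · exact (hne _).2 e1
          · simp [fVec, Prod.ext_iff] at e1
    have hr0 : r ≠ 0 := fun e => hri 0 (by rw [e, zero_smul])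
    obtain ⟨m, hrm, hm⟩ := exists_form_eq_of_singular hQ hr hr0 (hyp (hyp M) a)
    obtain ⟨g₁, hg₁, e₁⟩ := exists_eich_map_link hQ hu hr hur hu0 hri hua
      (hrm ▸ one_ne_zero) hm.symm
    obtain ⟨g₂, hg₂, e₂⟩ := exists_eich_map_link hQ hr hs hrs hr0 hri'
      (hrm ▸ one_ne_zero) hsd (hm.trans h)
    exact ⟨g₂ * g₁, mul_mem hg₂ hg₁, by rw [coe_mul_apply, e₁, e₂]⟩

/-- Every Eichler transformation is conjugate in `eichGroup` to one at `e`. -/
theorem eich_eq_conj {u z : (F × F) × ((F × F) × U)} (hu : hyp (hyp M) u = 0) (hu0 : u ≠ 0)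
    (hz : polar (hyp (hyp M)) u z = 0) :
    ∃ g ∈ eichGroup (hyp (hyp M)), ∃ w, eich (hyp (hyp M)) u z =
      g * eich (hyp (hyp M)) (eVec F ((F × F) × U)) (inW w) * g⁻¹ := by
  obtain ⟨g, hg, hge⟩ := exists_eich_map hM (eVec_ne_zero (W := (F × F) × U)) hu0
    (by rw [hyp_eVec, hu])
  refine ⟨g, hg, (g⁻¹.1 z).2, ?_⟩
  obtain ⟨y, hy⟩ : ∃ y, y = g⁻¹.1 z := ⟨_, rfl⟩
  have hgy : g.1 y = z := by rw [hy, coe_apply_inv_apply]
  have hy2 : y.1.2 = 0 := by
    rw [← hgy, ← hge, map_polar, polar_eVec] at hz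
    exact hz
  have hd : y = inW y.2 + y.1.1 • eVec F ((F × F) × U) := by
    conv_lhs => rw [decomp y, hy2]
    simp [add_comm]
  rw [← hy, conj_eich, hge]
  conv_lhs => rw [← hgy, hd, map_add, map_smul, hge]
  rw [eich_add_smul hu]
  rw [← hge, map_polar, polar_eVec_inW]

theorem eichGroup_le_of_eVec {H : Subgroup (orth (hyp (hyp M)))}
    (hconj : ∀ g ∈ eichGroup (hyp (hyp M)), ∀ x ∈ H, g * x * g⁻¹ ∈ H)
    (h : ∀ w, eich (hyp (hyp M)) (eVec F ((F × F) × U)) (inW w) ∈ H) :
    eichGroup (hyp (hyp M)) ≤ H := by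
  rw [eichGroup, Subgroup.closure_le]
  rintro _ ⟨u, z, hu, hz, rfl⟩
  by_cases hu0 : u = 0
  · have : eich (hyp (hyp M)) u z = 1 := orth_ext fun x => by
      rw [eich_apply hu hz, hu0]; simp
    rw [this]; exact one_mem H
  · obtain ⟨g, hg, w, e⟩ := eich_eq_conj hM hu hu0 hz
    rw [e]
    exact hconj g hg _ (h w)

include hex

/-- Each singular vector of `hyp M` has an orthogonal pair of vectors in general position. -/
theorem exists_perp_data {w : (F × F) × U} (hw : hyp M w = 0) :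
    ∃ z x, polar (hyp M) w z = 0 ∧ polar (hyp M) w x = 0 ∧ polar (hyp M) z x = -1 ∧
      hyp M z ≠ 0 := by
  obtain ⟨a, ha⟩ := hex
  obtain ⟨y₀, hy₀⟩ : ∃ y, polar M a y ≠ 0 := by
    by_contra hc
    simp only [ne_eq, not_exists, not_not] at hc
    have := hM a hc
    rw [this, QuadraticMap.map_zero] at ha
    exact ha rfl
  obtain ⟨y, hy⟩ : ∃ y, polar M a y = -1 :=
    ⟨(-(polar M a y₀)⁻¹) • y₀, by
      rw [polar_smul_right, smul_eq_mul, neg_mul, inv_mul_cancel₀ hy₀]⟩
  by_cases hw0 : w = 0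
  · exact ⟨inW a, inW y, by simp [hw0], by simp [hw0], by simpa using hy, by simpa using ha⟩
  · obtain ⟨g, -, hg⟩ := exists_refl_map_singular hM.hyp.nonsing (hyp_eVec (Q := M))
      eVec_ne_zero hw hw0
    exact ⟨g.1 (inW a), g.1 (inW y), by rw [← hg, map_polar, polar_eVec_inW],
      by rw [← hg, map_polar, polar_eVec_inW], by rw [map_polar, polar_hyp_inW, hy],
      by rwa [map_form, hyp_inW]⟩

omit hM hex in
theorem eich_eVec_add (w w' : (F × F) × U) :
    eich (hyp (hyp M)) (eVec F _) (inW w) * eich (hyp (hyp M)) (eVec F _) (inW w') =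
      eich (hyp (hyp M)) (eVec F _) (inW (w + w')) := by
  rw [eich_mul hyp_eVec (polar_eVec_inW w) (polar_eVec_inW w'), map_add]

omit hM hex in
/-- Conditions to check membership of all Eichler transformations at `e` on singular parameters. -/
theorem eVec_mem_of_singular {H : Subgroup (orth (hyp (hyp M)))}
    (h : ∀ w, hyp M w = 0 → eich (hyp (hyp M)) (eVec F ((F × F) × U)) (inW w) ∈ H) (w : (F × F) × U) :
    eich (hyp (hyp M)) (eVec F _) (inW w) ∈ H := by
  have hw : w ∈ AddSubgroup.closure {v : (F × F) × U | hyp M v = 0} :=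
    closure_singular_eq_top (P := M) ▸ AddSubgroup.mem_top w
  induction hw using AddSubgroup.closure_induction with
  | mem v hv => exact h v hv
  | zero => rw [map_zero, eich_zero]; exact one_mem H
  | add x y _ _ hx hy => rw [← eich_eVec_add]; exact mul_mem hx hy
  | neg x _ hx =>
      rw [map_neg, ← eich_inv hyp_eVec (polar_eVec_inW x)]
      exact inv_mem hx

/-- `eichGroup` is perfect. -/
theorem eichGroup_perfect :
    ⁅eichGroup (hyp (hyp M)), eichGroup (hyp (hyp M))⁆ = eichGroup (hyp (hyp M)) := by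
  refine le_antisymm (Subgroup.commutator_le_self _) ?_
  refine eichGroup_le_of_eVec hM (fun g _ x hx => ?_) (eVec_mem_of_singular fun w hw => ?_)
  · exact (Subgroup.commutator_normal _ _).conj_mem x hx g
  · obtain ⟨z, x, hwz, hwx, hzx, -⟩ := exists_perp_data hM hex hw
    obtain ⟨k, hk⟩ : ∃ k, k = eich (hyp (hyp M)) (inW w) (inW z) := ⟨_, rfl⟩
    have hk1 : k.1 (eVec F ((F × F) × U)) = eVec F _ := by
      rw [hk, eich_apply (by simpa using hw) (by simpa using hwz),
        polar_comm _ (inW z) (eVec F _), polar_eVec_inW, polar_comm _ (inW w) (eVec F _),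
        polar_eVec_inW]
      simp
    have hk2 : k.1 (inW x) = inW x + inW w := by
      rw [hk, eich_apply (by simpa using hw) (by simpa using hwz)]
      simp [hwx, hzx]
    have hc : eich (hyp (hyp M)) (eVec F _) (inW w) =
        ⁅k, eich (hyp (hyp M)) (eVec F ((F × F) × U)) (inW x)⁆ := by
      rw [commutatorElement_def, conj_eich, hk1, hk2, ← map_add,
        eich_inv hyp_eVec (polar_eVec_inW x), ← map_neg, eich_eVec_add]
      congr 2
      abel
    rw [hc]
    exact Subgroup.commutator_mem_commutator (hk ▸ eich_mem_eichGroup _ _)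
      (eich_mem_eichGroup _ _)

theorem eichGroup_le_reflGroup : eichGroup (hyp (hyp M)) ≤ reflGroup (hyp (hyp M)) := by
  refine eichGroup_le_of_eVec hM (fun g _ x hx => reflGroup_normal.conj_mem x hx g)
    (eVec_mem_of_singular fun w hw => ?_)
  obtain ⟨z, -, hwz, -, -, hz⟩ := exists_perp_data hM hex hw
  have e : inW (F := F) w = inW z + inW (w - z) := by rw [← map_add]; congr 1; abel
  have hq : hyp M (w - z) ≠ 0 := by
    rw [sub_eq_add_neg, form_add, QuadraticMap.map_neg, hw, polar_neg_right, hwz]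
    simpa using hz
  rw [e, ← eich_mul hyp_eVec (polar_eVec_inW z) (polar_eVec_inW (w - z))]
  refine mul_mem ?_ ?_
  · rw [eich_eq_rf_mul_rf hyp_eVec (polar_eVec_inW z) (by simpa using hz)]
    exact mul_mem (rf_mem_reflGroup _) (rf_mem_reflGroup _)
  · rw [eich_eq_rf_mul_rf hyp_eVec (polar_eVec_inW _) (by rw [hyp_inW]; exact hq)]
    exact mul_mem (rf_mem_reflGroup _) (rf_mem_reflGroup _)

theorem reflGroup_eq_top_of_elem (h : elemGroup (hyp (hyp M)) = ⊤) :
    reflGroup (hyp (hyp M)) = ⊤ := by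
  rwa [elemGroup, sup_of_le_left (eichGroup_le_reflGroup hM hex)] at h

/-- A subgroup of `eichGroup` normalised by it either fixes all singular points or is everything. -/
theorem eq_eichGroup_of_normal {N : Subgroup (orth (hyp (hyp M)))}
    (hle : N ≤ eichGroup (hyp (hyp M)))
    (hnorm : ∀ g ∈ eichGroup (hyp (hyp M)), ∀ x ∈ N, g * x * g⁻¹ ∈ N)
    (hmove : ∃ n ∈ N, ¬ FixesPoints n) : N = eichGroup (hyp (hyp M)) := by
  let rel : (F × F) × ((F × F) × U) → (F × F) × ((F × F) × U) → Prop :=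
    fun v v' => ∃ n ∈ N, ∃ c : F, c ≠ 0 ∧ n.1 v = c • v'
  have hsymm : ∀ {v v'}, rel v v' → rel v' v := by
    rintro v v' ⟨n, hn, c, hc, e⟩
    refine ⟨n⁻¹, inv_mem hn, c⁻¹, inv_ne_zero hc, ?_⟩
    have := congrArg n⁻¹.1 e
    rw [coe_inv_apply_apply, map_smul] at this
    rw [this, smul_smul, inv_mul_cancel₀ hc, one_smul]
  have htrans : ∀ {v v' v''}, rel v v' → rel v' v'' → rel v v'' := by
    rintro v v' v'' ⟨n, hn, c, hc, e⟩ ⟨n', hn', c', hc', e'⟩
    exact ⟨n' * n, mul_mem hn' hn, c * c', mul_ne_zero hc hc',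
      by rw [coe_mul_apply, e, map_smul, e', smul_smul]⟩
  have hinv : ∀ {g v v'}, g ∈ eichGroup (hyp (hyp M)) → rel v v' → rel (g.1 v) (g.1 v') := by
    rintro g v v' hg ⟨n, hn, c, hc, e⟩
    exact ⟨g * n * g⁻¹, hnorm g hg n hn, c, hc, by
      rw [coe_mul_apply, coe_mul_apply, coe_inv_apply_apply, e, map_smul]⟩
  have hsmul : ∀ {v v'} {t : F}, t ≠ 0 → rel v v' → rel v (t • v') := by
    rintro v v' t ht ⟨n, hn, c, hc, e⟩
    exact ⟨n, hn, c * t⁻¹, mul_ne_zero hc (inv_ne_zero ht),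
      by rw [e, smul_smul, mul_assoc, inv_mul_cancel₀ ht, mul_one]⟩
  obtain ⟨e₁, he₁⟩ : ∃ e₁, e₁ = eVec F ((F × F) × U) := ⟨_, rfl⟩
  have he : hyp (hyp M) e₁ = 0 := by rw [he₁]; exact hyp_eVec
  have he0 : e₁ ≠ 0 := by rw [he₁]; exact eVec_ne_zero
  obtain ⟨n₀, hn₀, v₀, hv₀, hne₀⟩ : ∃ n ∈ N, ∃ v, hyp (hyp M) v = 0 ∧
      ∀ c : F, n.1 v ≠ c • v := by
    obtain ⟨n, hn, hf⟩ := hmove
    unfold FixesPoints at hf
    push Not at hf
    exact ⟨n, hn, hf⟩
  have hv₀0 : v₀ ≠ 0 := fun e => hne₀ 0 (by simp [e])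
  obtain ⟨g, hg, hgv⟩ := exists_eich_map hM hv₀0 he0 (by rw [hv₀, he])
  have hrel0 : rel e₁ (g.1 (n₀.1 v₀)) :=
    hgv ▸ hinv hg ⟨n₀, hn₀, 1, one_ne_zero, (one_smul F _).symm⟩
  have hdata : ∀ c : F, g.1 (n₀.1 v₀) ≠ c • e₁ := fun c e => hne₀ c <| g.1.injective <| by
    rw [e, map_smul, hgv]
  -- there is a related non-orthogonal point
  obtain ⟨d, hd, hed, hrd⟩ : ∃ d, hyp (hyp M) d = 0 ∧ polar (hyp (hyp M)) e₁ d ≠ 0 ∧
      rel e₁ d := by
    obtain ⟨v₁, hv₁⟩ : ∃ v₁, v₁ = g.1 (n₀.1 v₀) := ⟨_, rfl⟩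
    rw [← hv₁] at hrel0 hdata
    have hq : hyp (hyp M) v₁ = 0 := by rw [hv₁, map_form, map_form, hv₀]
    by_cases hp : polar (hyp (hyp M)) e₁ v₁ = 0
    · have hy : v₁.1.2 = 0 := by rw [he₁, polar_eVec] at hp; exact hp
      have hd₁ : v₁ = v₁.1.1 • e₁ + inW v₁.2 := by
        conv_lhs => rw [decomp v₁, hy, zero_smul, add_zero]
        rw [he₁]
      have hw0 : v₁.2 ≠ 0 := fun e => hdata v₁.1.1 <| by
        conv_lhs => rw [hd₁, e, map_zero, add_zero]
      have hw : hyp M v₁.2 = 0 := by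
        have := hq
        rw [hyp_apply, hy, mul_zero, zero_add] at this
        exact this
      -- move `v₁` into `W`
      obtain ⟨z, hz⟩ : ∃ z, polar (hyp M) z v₁.2 = v₁.1.1 := by
        obtain ⟨t, -, ht⟩ := exists_pair hM.hyp.nonsing hw hw0
        exact ⟨v₁.1.1 • t, by rw [polar_smul_left, polar_comm, ht]; simp⟩
      have hA : (eich (hyp (hyp M)) e₁ (inW z)).1 e₁ = e₁ := by
        rw [he₁, eich_apply hyp_eVec (polar_eVec_inW z), polar_comm _ (inW z) (eVec F _),
          polar_eVec_inW, polar_self_eq, hyp_eVec]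
        simp
      have hA' : (eich (hyp (hyp M)) e₁ (inW z)).1 v₁ = inW v₁.2 := by
        rw [he₁, eich_apply hyp_eVec (polar_eVec_inW z)]
        rw [he₁] at hp hd₁
        have hzv : polar (hyp (hyp M)) (inW z) v₁ = v₁.1.1 := by
          conv_lhs => rw [hd₁]
          rw [polar_add_right, polar_smul_right, polar_comm _ (inW z) (eVec F _), polar_eVec_inW,
            polar_hyp_inW, hz, smul_zero, zero_add]
        rw [hp, hzv]
        conv_lhs => rw [hd₁]
        simp [eVec, inW_apply, Prod.ext_iff]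
      have hr1 : rel e₁ (inW v₁.2) := by
        have := hinv (eich_mem_eichGroup e₁ (inW z)) hrel0
        rwa [hA, hA'] at this
      obtain ⟨z', -, hwz, -, -, hz'⟩ := exists_perp_data hM hex hw
      obtain ⟨k, hk⟩ : ∃ k, k = eich (hyp (hyp M)) (fVec F ((F × F) × U)) (inW z') := ⟨_, rfl⟩
      have hk1 : k.1 (inW v₁.2) = inW v₁.2 := by
        rw [hk, eich_apply hyp_fVec (polar_fVec_inW z'), polar_fVec_inW, polar_hyp_inW,
          polar_comm (hyp M) z' v₁.2, hwz]
        simp
      have hk2 : polar (hyp (hyp M)) e₁ (k.1 e₁) = -hyp M z' := by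
        rw [he₁, hk, eich_apply hyp_fVec (polar_fVec_inW z'),
          polar_comm _ (fVec F _) (eVec F _), polar_eVec_fVec,
          polar_comm _ (inW z') (eVec F _), polar_eVec_inW]
        simp [eVec, fVec, inW_apply, polar_hyp]
      refine ⟨k.1 e₁, by rw [map_form, he], by rw [hk2]; exact neg_ne_zero.2 hz', ?_⟩
      have := hinv (hk ▸ eich_mem_eichGroup _ _) hr1
      rw [hk1] at this
      exact htrans hr1 (hsymm this)
    · exact ⟨v₁, hq, hp, hrel0⟩
  -- all non-orthogonal points are related to `e`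
  have hnp : ∀ v, hyp (hyp M) v = 0 → polar (hyp (hyp M)) e₁ v ≠ 0 → rel e₁ v := by
    intro v hv hev
    obtain ⟨l, hl⟩ : ∃ l, l = polar (hyp (hyp M)) e₁ d / polar (hyp (hyp M)) e₁ v := ⟨_, rfl⟩
    have hl0 : l ≠ 0 := by rw [hl]; exact div_ne_zero hed hev
    have h1 : polar (hyp (hyp M)) e₁ d = polar (hyp (hyp M)) e₁ (l • v) := by
      rw [polar_smul_right, smul_eq_mul, hl]; field_simp
    obtain ⟨z, hz⟩ : ∃ z, z = (polar (hyp (hyp M)) e₁ d)⁻¹ • (l • v - d) := ⟨_, rfl⟩
    have hzp : polar (hyp (hyp M)) e₁ z = 0 := by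
      rw [hz, polar_smul_right, polar_sub_right, ← h1, sub_self, smul_zero]
    have e1 : (eich (hyp (hyp M)) e₁ z).1 e₁ = e₁ := by
      rw [eich_apply he hzp, polar_comm _ z e₁, hzp, polar_self_eq, he]; simp
    obtain ⟨k, hk, hk1, hk2⟩ : ∃ k ∈ eichGroup (hyp (hyp M)), k.1 e₁ = e₁ ∧ k.1 d = l • v := by
      refine ⟨eich (hyp (hyp M)) e₁ z, eich_mem_eichGroup _ _, e1, ?_⟩
      rw [eich_apply he hzp, hz, polar_smul_left, polar_sub_left, polar_self_eq, hd,
        form_smul, sub_eq_add_neg (l • v) d, form_add, form_smul, hv, QuadraticMap.map_neg, hd,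
        polar_neg_right, smul_eq_mul]
      match_scalars <;> field_simp <;> ring
    have := hinv hk hrd
    rw [hk1, hk2] at this
    have h2 := hsmul (inv_ne_zero hl0) this
    rwa [smul_smul, inv_mul_cancel₀ hl0, one_smul] at h2
  have hall : ∀ v, hyp (hyp M) v = 0 → v ≠ 0 → rel e₁ v := by
    intro v hv hv0
    by_cases hp : polar (hyp (hyp M)) e₁ v = 0
    · obtain ⟨r, hr, hr1, hr2⟩ :=
        exists_singular_polar_ne_zero₂ hM.hyp.hyp.nonsing he he0 hv hv0 hp
      have hr0 : r ≠ 0 := by rintro rfl; simp at hr1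
      obtain ⟨k, hk, hkr⟩ := exists_eich_map hM he0 hr0 (by rw [he, hr])
      have h1 : rel r v := by
        have := hinv hk (hnp (k⁻¹.1 v) (by rw [map_form, hv]) (by
          rw [← map_polar k, coe_apply_inv_apply, hkr, polar_comm]; exact hr2))
        rwa [hkr, coe_apply_inv_apply] at this
      exact htrans (hnp r hr hr1) h1
    · exact hnp v hv hp
  -- hence `eichGroup / N` is commutative
  let A : Subgroup (orth (hyp (hyp M))) := Subgroup.closure
    (Set.range fun w => eich (hyp (hyp M)) e₁ (inW w))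
  have hAle : A ≤ eichGroup (hyp (hyp M)) := by
    rw [Subgroup.closure_le]
    rintro _ ⟨w, rfl⟩
    exact eich_mem_eichGroup _ _
  have hNA : A ≤ Subgroup.normalizer (N : Set (orth (hyp (hyp M)))) := fun a ha =>
    Subgroup.mem_normalizer_iff.2 fun x => ⟨fun hx => hnorm a (hAle ha) x hx, fun hx => by
      simpa [mul_assoc] using hnorm a⁻¹ (inv_mem (hAle ha)) _ hx⟩
  have hsup : eichGroup (hyp (hyp M)) ≤ A ⊔ N := by
    rw [eichGroup, Subgroup.closure_le]
    rintro _ ⟨u, z, hu, hz, rfl⟩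
    by_cases hu0 : u = 0
    · rw [show eich (hyp (hyp M)) u z = 1 from orth_ext fun x => by
        rw [eich_apply hu hz, hu0]; simp]
      exact one_mem _
    · obtain ⟨n, hn, c, hc, hne⟩ := hall u hu hu0
      obtain ⟨y, hy⟩ : ∃ y, y = n⁻¹.1 z := ⟨_, rfl⟩
      have hny : n.1 y = z := by rw [hy, coe_apply_inv_apply]
      have hu' : u = n.1 (c⁻¹ • e₁) := by
        rw [map_smul, hne, smul_smul, inv_mul_cancel₀ hc, one_smul]
      have hy2 : polar (hyp (hyp M)) e₁ y = 0 := by
        rw [hu', ← hny, map_polar, polar_smul_left, smul_eq_mul, mul_eq_zero] at hz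
        exact hz.resolve_left (inv_ne_zero hc)
      rw [hu', ← hny, ← conj_eich, eich_smul_left he hy2]
      have hd₂ : c⁻¹ • y = inW (c⁻¹ • y.2) + (c⁻¹ * y.1.1) • e₁ := by
        rw [he₁, polar_eVec] at hy2
        conv_lhs => rw [decomp y, hy2, zero_smul, add_zero, smul_add, smul_smul]
        rw [he₁, map_smul, add_comm]
      rw [hd₂, eich_add_smul he (by rw [he₁]; exact polar_eVec_inW _)]
      exact mul_mem (mul_mem (Subgroup.mem_sup_right hn)
        (Subgroup.mem_sup_left (Subgroup.subset_closure ⟨_, rfl⟩)))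
        (Subgroup.mem_sup_right (inv_mem hn))
  refine le_antisymm hle ?_
  rw [← eichGroup_perfect hM hex, Subgroup.commutator_le]
  intro x hx y hy
  have hx' : x ∈ (↑(A ⊔ N) : Set (orth (hyp (hyp M)))) := hsup hx
  have hy' : y ∈ (↑(A ⊔ N) : Set (orth (hyp (hyp M)))) := hsup hy
  rw [Subgroup.coe_mul_of_left_le_normalizer_right A N hNA] at hx' hy'
  obtain ⟨a, ha, n, hn, rfl⟩ := hx'
  obtain ⟨b, hb, n', hn', rfl⟩ := hy'
  have hcomm : a * b = b * a := by
    have hA : IsMulCommutative A := by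
      refine Subgroup.isMulCommutative_closure ?_
      rintro _ ⟨w, rfl⟩ _ ⟨w', rfl⟩
      simp only [he₁, eich_eVec_add, add_comm w w']
    exact congrArg Subtype.val (hA.is_comm.comm ⟨a, ha⟩ ⟨b, hb⟩)
  have hconjA : ∀ g ∈ A, ∀ k ∈ N, g * k * g⁻¹ ∈ N := fun g hg => hnorm g (hAle hg)
  -- `[a n, b n'] ∈ N` since `[a, b] = 1`
  have key : ⁅a * n, b * n'⁆ =
      (a * n * a⁻¹) * ((a * b) * n' * n⁻¹ * (a * b)⁻¹) * (b * n'⁻¹ * b⁻¹) := by
    have hc : a⁻¹ * b⁻¹ = b⁻¹ * a⁻¹ := by rw [← mul_inv_rev, ← mul_inv_rev, hcomm]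
    rw [commutatorElement_def, mul_inv_rev, mul_inv_rev, mul_inv_rev]
    calc a * n * (b * n') * (n⁻¹ * a⁻¹) * (n'⁻¹ * b⁻¹)
        = a * n * b * n' * n⁻¹ * (a⁻¹ * b⁻¹) * b * n'⁻¹ * b⁻¹ := by group
      _ = a * n * b * n' * n⁻¹ * (b⁻¹ * a⁻¹) * b * n'⁻¹ * b⁻¹ := by rw [hc]
      _ = _ := by group
  rw [key]
  exact mul_mem (mul_mem (hconjA a ha n hn)
    (hconjA (a * b) (mul_mem ha hb) _ (mul_mem hn' (inv_mem hn))))
    (hconjA b hb _ (inv_mem hn'))

omit hM hex in
/-- An isometry fixing all singular points is `±1`. -/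
theorem eq_smul_of_fixesPoints {g : orth (hyp (hyp M))} (h : FixesPoints g) :
    ∃ c : F, c * c = 1 ∧ ∀ v, g.1 v = c • v := by
  obtain ⟨e, hee⟩ : ∃ e, e = eVec F ((F × F) × U) := ⟨_, rfl⟩
  obtain ⟨f, hff⟩ : ∃ f, f = fVec F ((F × F) × U) := ⟨_, rfl⟩
  have hqe : hyp (hyp M) e = 0 := by rw [hee]; exact hyp_eVec
  have hqf : hyp (hyp M) f = 0 := by rw [hff]; exact hyp_fVec
  obtain ⟨c, hc⟩ := h e hqe
  obtain ⟨c', hc'⟩ := h f hqf
  have hw : ∀ w : (F × F) × U, hyp M w = 0 →
      g.1 (inW w) = c • inW w ∧ g.1 (inW w) = c' • inW w := by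
    intro w hw
    by_cases hw0 : w = 0
    · simp [hw0]
    obtain ⟨t, ht⟩ := h (inW w) (by simpa using hw)
    obtain ⟨t₁, ht₁⟩ := h (e + inW w) (by
      rw [form_add, hqe, hyp_inW, hw, hee, polar_eVec_inW]; simp)
    obtain ⟨t₂, ht₂⟩ := h (f + inW w) (by
      rw [form_add, hqf, hyp_inW, hw, hff, polar_fVec_inW]; simp)
    rw [map_add, hc, ht] at ht₁
    rw [map_add, hc', ht] at ht₂
    have a1 := congrArg (fun v : (F × F) × ((F × F) × U) => v.1.1) ht₁
    have a2 := congrArg (fun v : (F × F) × ((F × F) × U) => v.2) ht₁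
    have b1 := congrArg (fun v : (F × F) × ((F × F) × U) => v.1.2) ht₂
    have b2 := congrArg (fun v : (F × F) × ((F × F) × U) => v.2) ht₂
    simp [hee, hff, eVec, fVec, inW_apply] at a1 a2 b1 b2
    rw [← a1] at a2
    rw [← b1] at b2
    obtain rfl : t = c := smul_left_injective F hw0 a2
    obtain rfl : t = c' := smul_left_injective F hw0 b2
    exact ⟨ht, ht⟩
  have hcc : c = c' := by
    obtain ⟨h1, h2⟩ := hw (eVec F U) hyp_eVec
    rw [h1] at h2
    have := congrArg (fun v : (F × F) × ((F × F) × U) => v.2.1.1) h2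
    simpa [eVec, inW_apply] using this
  subst hcc
  refine ⟨c, ?_, fun v => ?_⟩
  · have := map_polar g e f
    rw [hc, hc', hee, hff, polar_smul_left, polar_smul_right, polar_eVec_fVec] at this
    simpa using this
  · have hW : ∀ w : (F × F) × U, g.1 (inW w) = c • inW w := by
      intro w
      have hm : w ∈ AddSubgroup.closure {v : (F × F) × U | hyp M v = 0} :=
        closure_singular_eq_top (P := M) ▸ AddSubgroup.mem_top w
      induction hm using AddSubgroup.closure_induction with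
      | mem v hv => exact (hw v hv).1
      | zero => simp
      | add x y _ _ hx hy => rw [map_add, map_add, hx, hy, smul_add]
      | neg x _ hx => rw [map_neg, map_neg, hx, smul_neg]
    conv_lhs => rw [decomp v, ← hee, ← hff, map_add, map_add, map_smul, map_smul, hc, hc', hW,
      smul_comm v.1.1, smul_comm v.1.2, ← smul_add, ← smul_add, hee, hff, ← decomp v]

/-- Some element of `eichGroup` moves a singular point. -/
theorem exists_not_fixesPoints :
    ∃ g ∈ eichGroup (hyp (hyp M)), ¬ FixesPoints g := by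
  obtain ⟨z, -, -, -, -, hz⟩ := exists_perp_data hM hex (QuadraticMap.map_zero (hyp M))
  refine ⟨eich _ (eVec F _) (inW z), eich_mem_eichGroup _ _, fun hf => hz ?_⟩
  obtain ⟨c, -, hc⟩ := eq_smul_of_fixesPoints hf
  have := congrArg (fun v : (F × F) × ((F × F) × U) => v.1.1) (hc (fVec F _))
  rw [eich_apply hyp_eVec (polar_eVec_inW z), polar_eVec_fVec,
    polar_comm _ (inW z) (fVec F _), polar_fVec_inW] at this
  simp [eVec, fVec, inW_apply] at this
  simp only [hyp_apply]
  linear_combination -this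

end index2

end Cfsg.Agent.UnitaryOrthogonal
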