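/-
`Ω` in Witt index at least two: it is the group generated by Eichler transformations, of index
four (odd characteristic) or two (even characteristic), and simple modulo its centre.
-/
import Cfsg.Agent.Lib.UnitaryOrthogonal.Eichler
import Cfsg.Agent.Lib.UnitaryOrthogonal.Characters

set_option autoImplicit false

namespace Cfsg.Agent.UnitaryOrthogonal

open QuadraticMap
open scoped commutatorElement

section negOne

variable {F V : Type*} [Field F] [AddCommGroup V] [Module F V]

/-- `-1` as an isometry. -/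
def negOne (Q : QuadraticForm F V) : orth Q := ⟨LinearEquiv.neg F, fun x => Q.map_neg x⟩

@[simp] theorem negOne_apply (Q : QuadraticForm F V) (x : V) : (negOne Q).1 x = -x := rfl

theorem orthCongr_negOne {V' : Type*} [AddCommGroup V'] [Module F V'] {Q : QuadraticForm F V}
    {Q' : QuadraticForm F V'} (e : Q.IsometryEquiv Q') : orthCongr e (negOne Q) = negOne Q' := by
  refine orth_ext fun x => ?_
  obtain ⟨y, rfl⟩ := e.toLinearEquiv.surjective x
  rw [show e.toLinearEquiv y = e y from rfl, orthCongr_apply, negOne_apply, negOne_apply]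
  exact map_neg e.toLinearEquiv y

end negOne

section congr

variable {F W W' : Type*} [Field F] [AddCommGroup W] [Module F W] [AddCommGroup W'] [Module F W']
  {Q : QuadraticForm F W} {Q' : QuadraticForm F W'}

/-- Isometries extend to hyperbolic extensions. -/
def hypCongr (e : Q.IsometryEquiv Q') : (hyp Q).IsometryEquiv (hyp Q') where
  toLinearEquiv := (LinearEquiv.refl F (F × F)).prodCongr e.toLinearEquiv
  map_app' v := by
    show hyp Q' (v.1, e v.2) = hyp Q v
    rw [hyp_apply, hyp_apply, e.map_app]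

end congr

/-- `H ⊥ H ⊥ (H^k ⊥ Q) ≅ H^(k+2) ⊥ Q`. -/
def hypSumTwo {F W : Type*} [Field F] [AddCommGroup W] [Module F W] (Q : QuadraticForm F W)
    (k : ℕ) : (hypSum (k + 2) Q).IsometryEquiv (hyp (hyp (hypSum k Q))) :=
  (hypSumSucc Q (k + 1)).trans (hypCongr (hypSumSucc Q k))

/-- `G ⧸ Z` is simple when every normal subgroup of `G` not inside `Z` is everything. -/
theorem isSimpleGroup_quotient_of_forall {G : Type*} [Group G] (Z : Subgroup G) [Z.Normal]
    [Nontrivial (G ⧸ Z)] (h : ∀ N : Subgroup G, N.Normal → ¬N ≤ Z → N = ⊤) :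
    IsSimpleGroup (G ⧸ Z) := by
  refine ⟨fun N hN => ?_⟩
  by_cases hle : N.comap (QuotientGroup.mk' Z) ≤ Z
  · left
    rw [← Subgroup.map_comap_eq_self_of_surjective (QuotientGroup.mk'_surjective Z) N, eq_bot_iff]
    rintro _ ⟨x, hx, rfl⟩
    exact Subgroup.mem_bot.2 ((QuotientGroup.eq_one_iff x).2 (hle hx))
  · right
    rw [← Subgroup.map_comap_eq_self_of_surjective (QuotientGroup.mk'_surjective Z) N,
      h _ (hN.comap _) hle, Subgroup.map_top_of_surjective _ (QuotientGroup.mk'_surjective Z)]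

section main

variable {F U : Type*} [Field F] [AddCommGroup U] [Module F U] {M : QuadraticForm F U}
variable (hM : PolarND M) (hex : ∃ a, M a ≠ 0)
include hM

/-- Reflections in vectors of the same nonzero value agree modulo `eichGroup`. -/
theorem rf_inv_mul_rf_mem {a b : (F × F) × ((F × F) × U)} (ha : hyp (hyp M) a ≠ 0)
    (h : hyp (hyp M) a = hyp (hyp M) b) :
    rf (hyp (hyp M)) a * rf (hyp (hyp M)) b ∈ eichGroup (hyp (hyp M)) := by
  have ha0 : a ≠ 0 := fun e => ha (by rw [e, QuadraticMap.map_zero])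
  have hb0 : b ≠ 0 := fun e => ha (by rw [h, e, QuadraticMap.map_zero])
  obtain ⟨g, hg, hgb⟩ := exists_eich_map hM hb0 ha0 h.symm
  rw [← hgb, ← conj_rf]
  have : g * rf (hyp (hyp M)) b * g⁻¹ * rf (hyp (hyp M)) b =
      g * (rf (hyp (hyp M)) b * g⁻¹ * (rf (hyp (hyp M)) b)⁻¹) := by
    rw [rf_inv]; simp [mul_assoc]
  rw [this]
  exact mul_mem hg (eichGroup_normal.conj_mem _ (inv_mem hg) _)

theorem mk_rf_eq {a b : (F × F) × ((F × F) × U)} (ha : hyp (hyp M) a ≠ 0) {t : F} (ht : t ≠ 0)
    (h : hyp (hyp M) a = t * t * hyp (hyp M) b) :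
    (QuotientGroup.mk (rf (hyp (hyp M)) a) : orth (hyp (hyp M)) ⧸ eichGroup (hyp (hyp M))) =
      QuotientGroup.mk (rf (hyp (hyp M)) b) := by
  rw [QuotientGroup.eq, rf_inv, ← rf_smul ht b]
  exact rf_inv_mul_rf_mem hM ha (by rw [form_smul, h])

variable (hgen : elemGroup (hyp (hyp M)) = ⊤)
include hex hgen

theorem quotient_eq_closure :
    (⊤ : Subgroup (orth (hyp (hyp M)) ⧸ eichGroup (hyp (hyp M)))) =
      Subgroup.closure (QuotientGroup.mk '' Set.range (rf (hyp (hyp M)))) := by
  have := reflGroup_eq_top_of_elem hM hex hgen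
  rw [reflGroup] at this
  rw [← Subgroup.map_top_of_surjective (QuotientGroup.mk' (eichGroup (hyp (hyp M))))
    (QuotientGroup.mk'_surjective _), ← this, MonoidHom.map_closure]
  rfl

theorem commutator_eq_eichGroup :
    commutator (orth (hyp (hyp M))) = eichGroup (hyp (hyp M)) := by
  refine le_antisymm ?_ ?_
  · rw [commutator_def, Subgroup.commutator_le]
    have hc : IsMulCommutative
        (Subgroup.closure (QuotientGroup.mk '' Set.range (rf (hyp (hyp M)))) :
          Subgroup (orth (hyp (hyp M)) ⧸ eichGroup (hyp (hyp M)))) := by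
      refine Subgroup.isMulCommutative_closure ?_
      rintro _ ⟨_, ⟨a, rfl⟩, rfl⟩ _ ⟨_, ⟨b, rfl⟩, rfl⟩
      by_cases ha : hyp (hyp M) a = 0
      · have : rf (hyp (hyp M)) a = 1 := orth_ext fun x => by simp [rf_apply, ha]
        simp [this]
      by_cases hb : hyp (hyp M) b = 0
      · have : rf (hyp (hyp M)) b = 1 := orth_ext fun x => by simp [rf_apply, hb]
        simp [this]
      rw [← QuotientGroup.mk_mul, ← QuotientGroup.mk_mul]
      have e : rf (hyp (hyp M)) a * rf (hyp (hyp M)) b =
          rf (hyp (hyp M)) ((rf (hyp (hyp M)) a).1 b) * rf (hyp (hyp M)) a := by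
        rw [← conj_rf, inv_mul_cancel_right]
      rw [e, QuotientGroup.mk_mul, QuotientGroup.mk_mul,
        mk_rf_eq hM (b := b) (by rwa [map_form]) one_ne_zero (by rw [map_form]; ring)]
    intro x _ y _
    rw [← QuotientGroup.eq_one_iff, ← QuotientGroup.mk'_apply, map_commutatorElement,
      commutatorElement_eq_one_iff_mul_comm]
    have hx := quotient_eq_closure hM hex hgen ▸ Subgroup.mem_top
      (QuotientGroup.mk' (eichGroup (hyp (hyp M))) x)
    have hy := quotient_eq_closure hM hex hgen ▸ Subgroup.mem_top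
      (QuotientGroup.mk' (eichGroup (hyp (hyp M))) y)
    exact congrArg Subtype.val (hc.is_comm.comm ⟨_, hx⟩ ⟨_, hy⟩)
  · rw [← eichGroup_perfect hM hex, commutator_def]
    exact Subgroup.commutator_mono le_top le_top

omit hgen in
theorem hom_eq_one_of_mem_eichGroup {A : Type*} [CommGroup A] (φ : orth (hyp (hyp M)) →* A)
    {g : orth (hyp (hyp M))} (hg : g ∈ eichGroup (hyp (hyp M))) : φ g = 1 :=
  Abelianization.commutator_subset_ker φ (by
    have := eichGroup_perfect hM hex
    rw [← this] at hg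
    rw [commutator_def]
    exact Subgroup.commutator_mono le_top le_top hg)

variable [Finite F] [Finite U]

/-- Index two in characteristic two, detected by the parity of `rank (g - 1)`. -/
theorem eichGroup_eq_ker_of_two (h2 : (2 : F) = 0) :
    eichGroup (hyp (hyp M)) = (dickson hM.hyp.hyp (reflGroup_eq_top_of_elem hM hex hgen)).ker ∧
      (eichGroup (hyp (hyp M))).index = 2 := by
  cases nonempty_fintype F
  haveI : CharP F 2 := CharTwo.of_one_ne_zero_of_two_eq_zero one_ne_zero h2
  let D := dickson hM.hyp.hyp (reflGroup_eq_top_of_elem hM hex hgen)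
  have hle : eichGroup (hyp (hyp M)) ≤ D.ker := fun g hg =>
    hom_eq_one_of_mem_eichGroup hM hex D hg
  let r : orth (hyp (hyp M)) := rf _ ((1, 1), 0)
  have hr : hyp (hyp M) ((1, 1), 0) ≠ 0 := by simp
  have hrD : D r ≠ 1 := by
    rw [dickson_rf _ _ hr]
    decide
  have hsplit : ∀ g, g ∈ eichGroup (hyp (hyp M)) ∨ r * g ∈ eichGroup (hyp (hyp M)) := by
    intro g
    have hsub : Subgroup.closure (QuotientGroup.mk '' Set.range (rf (hyp (hyp M)))) ≤
        (Subgroup.zpowers (QuotientGroup.mk r) :
          Subgroup (orth (hyp (hyp M)) ⧸ eichGroup (hyp (hyp M)))) := by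
      rw [Subgroup.closure_le]
      rintro _ ⟨_, ⟨a, rfl⟩, rfl⟩
      by_cases ha : hyp (hyp M) a = 0
      · rw [show rf (hyp (hyp M)) a = 1 from orth_ext fun x => by simp [rf_apply, ha]]
        exact one_mem _
      · obtain ⟨t, ht⟩ := FiniteField.isSquare_of_char_two (ringChar.eq F 2) (hyp (hyp M) a)
        rw [mk_rf_eq hM (b := ((1, 1), 0)) ha (t := t) (by rintro rfl; simp at ht; exact ha (by simpa using ht))
          (by rw [ht]; simp)]
        exact Subgroup.mem_zpowers _
    have hg := hsub (quotient_eq_closure hM hex hgen ▸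
      Subgroup.mem_top (QuotientGroup.mk g))
    obtain ⟨n, hn⟩ := hg
    simp only [← QuotientGroup.mk_zpow] at hn
    rw [QuotientGroup.eq] at hn
    have hr2 : r ^ n = 1 ∨ r ^ n = r := by
      have h2' : r ^ (2 : ℤ) = 1 := by rw [zpow_two]; exact rf_mul_self _
      rcases Int.even_or_odd' n with ⟨k, rfl | rfl⟩
      · left; rw [zpow_mul, h2', one_zpow]
      · right; rw [zpow_add_one, zpow_mul, h2', one_zpow, one_mul]
    rcases hr2 with e | e <;> rw [e] at hn
    · left; simpa using hn
    · right; rwa [show r⁻¹ = r from rf_inv _] at hn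
  have hker : eichGroup (hyp (hyp M)) = D.ker := by
    refine le_antisymm hle fun g hg => (hsplit g).resolve_right fun h => ?_
    have := hle h
    rw [MonoidHom.mem_ker, map_mul, MonoidHom.mem_ker.1 hg, mul_one] at this
    exact hrD this
  refine ⟨hker, ?_⟩
  rw [hker, Subgroup.index_ker, MonoidHom.range_eq_top.2, Subgroup.card_top,
    Nat.card_eq_fintype_card]
  · rfl
  · intro x
    rw [dickson_rf _ _ hr] at hrD
    have hx : x = 1 ∨ x = Multiplicative.ofAdd (1 : ZMod 2) := by revert x; decide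
    rcases hx with rfl | rfl
    · exact ⟨1, map_one _⟩
    · exact ⟨r, dickson_rf _ _ hr⟩

/-- Index four in odd characteristic, with the two characters. -/
theorem eichGroup_eq_ker_of_odd (h2 : (2 : F) ≠ 0)
    (hsep : ∀ c : F, ¬IsSquare c →
      ((mixedCount (hyp M) 1 : ℤ) - mixedCount (hyp M) c) % 4 = 2) :
    eichGroup (hyp (hyp M)) = ((dickson hM.hyp.hyp (reflGroup_eq_top_of_elem hM hex hgen)).prod
      (levelSign (hyp (hyp M)))).ker ∧ (eichGroup (hyp (hyp M))).index = 4 := by
  cases nonempty_fintype F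
  obtain ⟨ν, hν0, hν, -⟩ := exists_nonsquare_neg (F := F) h2
  let Φ := (dickson hM.hyp.hyp (reflGroup_eq_top_of_elem hM hex hgen)).prod
    (levelSign (hyp (hyp M)))
  let r : orth (hyp (hyp M)) := rf _ ((1, 1), 0)
  let s : orth (hyp (hyp M)) := rf _ ((1, ν), 0)
  have hr : hyp (hyp M) ((1, 1), 0) ≠ 0 := by simp
  have hs : hyp (hyp M) ((1, ν), 0) ≠ 0 := by simpa using hν0
  have hne : levelSign (hyp (hyp M)) r ≠ levelSign (hyp (hyp M)) s :=
    levelSign_rf_ne hr hs (by rw [card_level_perp, card_level_perp]; exact hsep ν hν)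
  have hle : eichGroup (hyp (hyp M)) ≤ Φ.ker := fun g hg =>
    hom_eq_one_of_mem_eichGroup hM hex Φ hg
  have hΦr : Φ r = (Multiplicative.ofAdd 1, levelSign (hyp (hyp M)) r) :=
    Prod.ext (dickson_rf _ _ hr) rfl
  have hΦs : Φ s = (Multiplicative.ofAdd 1, levelSign (hyp (hyp M)) s) :=
    Prod.ext (dickson_rf _ _ hs) rfl
  let π := QuotientGroup.mk' (eichGroup (hyp (hyp M)))
  have hcomm : ∀ x y, Commute (π x) (π y) := fun x y => by
    rw [← commutatorElement_eq_one_iff_commute, ← map_commutatorElement, ← MonoidHom.mem_ker,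
      QuotientGroup.ker_mk', ← commutator_eq_eichGroup hM hex hgen, commutator_def]
    exact Subgroup.commutator_mem_commutator (Subgroup.mem_top _) (Subgroup.mem_top _)
  let S : Set (orth (hyp (hyp M))) := {1, r, s, r * s}
  have hsplit : ∀ g, ∃ x ∈ S, π g = π x := by
    intro g
    have hg : g ∈ Subgroup.closure (Set.range (rf (hyp (hyp M)))) := by
      have := reflGroup_eq_top_of_elem hM hex hgen
      rw [reflGroup] at this
      rw [this]; trivial
    have hrr : π r * π r = 1 := by rw [← map_mul, rf_mul_self, map_one]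
    have hss : π s * π s = 1 := by rw [← map_mul, rf_mul_self, map_one]
    have hstep : ∀ a x, x ∈ S → ∃ x' ∈ S, π (rf (hyp (hyp M)) a) * π x = π x' := by
      intro a x hx
      have ha' : π (rf (hyp (hyp M)) a) = 1 ∨ π (rf (hyp (hyp M)) a) = π r ∨
          π (rf (hyp (hyp M)) a) = π s := by
        by_cases ha : hyp (hyp M) a = 0
        · left
          rw [show rf (hyp (hyp M)) a = 1 from orth_ext fun x => by simp [rf_apply, ha], map_one]
        right
        by_cases hsq : IsSquare (hyp (hyp M) a)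
        · obtain ⟨t, ht⟩ := hsq
          exact Or.inl (mk_rf_eq hM (t := t) ha (fun e => ha (by rw [ht, e, mul_zero]))
            (by rw [ht]; simp))
        · have : IsSquare (hyp (hyp M) a / ν) := by
            classical
            rw [← quadraticChar_one_iff_isSquare (div_ne_zero ha hν0), div_eq_mul_inv, map_mul,
              quadraticChar_neg_one_iff_not_isSquare.2 hsq,
              quadraticChar_neg_one_iff_not_isSquare.2 (fun h => hν (isSquare_inv.1 h))]
            norm_num
          obtain ⟨t, ht⟩ := this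
          exact Or.inr (mk_rf_eq hM (t := t) ha
            (fun e => by rw [e, mul_zero, div_eq_zero_iff] at ht; tauto)
            (by rw [← ht]; simp; field_simp))
      rcases ha' with e | e | e <;> rw [e]
      · exact ⟨x, hx, one_mul _⟩
      · rcases hx with rfl | rfl | rfl | rfl
        · exact ⟨r, by simp [S], by rw [map_one, mul_one]⟩
        · exact ⟨1, by simp [S], by rw [hrr, map_one]⟩
        · exact ⟨r * s, by simp [S], (map_mul π r s).symm⟩
        · exact ⟨s, by simp [S], by rw [map_mul, ← mul_assoc, hrr, one_mul]⟩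
      · rcases hx with rfl | rfl | rfl | rfl
        · exact ⟨s, by simp [S], by rw [map_one, mul_one]⟩
        · exact ⟨r * s, by simp [S], by rw [map_mul]; exact hcomm s r⟩
        · exact ⟨1, by simp [S], by rw [hss, map_one]⟩
        · exact ⟨r, by simp [S], by rw [map_mul, (hcomm r s).eq, ← mul_assoc, hss, one_mul]⟩
    suffices h : ∀ x ∈ S, ∃ x' ∈ S, π g * π x = π x' by
      obtain ⟨x', hx', e⟩ := h 1 (by simp [S])
      exact ⟨x', hx', by rwa [map_one, mul_one] at e⟩
    induction hg using Subgroup.closure_induction'' with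
    | mem y hy => obtain ⟨a, rfl⟩ := hy; exact hstep a
    | inv_mem y hy => obtain ⟨a, rfl⟩ := hy; rw [rf_inv]; exact hstep a
    | one => intro x hx; exact ⟨x, hx, by rw [map_one, one_mul]⟩
    | mul y z _ _ hy hz =>
        intro x hx
        obtain ⟨x', hx', e'⟩ := hz x hx
        obtain ⟨x'', hx'', e''⟩ := hy x' hx'
        exact ⟨x'', hx'', by rw [map_mul, mul_assoc, e', e'']⟩
  have h11 : (Multiplicative.ofAdd (1 : ZMod 2), (1 : ℤˣ)) ≠ 1 ∧
      ∀ u v : ℤˣ, u ≠ v → ((Multiplicative.ofAdd (1 : ZMod 2), u) *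
        (Multiplicative.ofAdd (1 : ZMod 2), v)) = (1, (-1 : ℤˣ)) := by
    constructor
    · decide
    · intro u v huv
      rcases Int.units_eq_one_or u with rfl | rfl <;> rcases Int.units_eq_one_or v with rfl | rfl
      all_goals first | exact absurd rfl huv | decide
  have hker : eichGroup (hyp (hyp M)) = Φ.ker := by
    refine le_antisymm hle fun g hg => ?_
    obtain ⟨x, hx, e⟩ := hsplit g
    have hgx : x⁻¹ * g ∈ eichGroup (hyp (hyp M)) := QuotientGroup.eq.1 e.symm
    have hx1 : Φ x = 1 := by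
      have := hle hgx
      rw [MonoidHom.mem_ker, map_mul, map_inv, MonoidHom.mem_ker.1 hg, mul_one, inv_eq_one] at this
      exact this
    have h1 : ∀ u : ℤˣ, (Multiplicative.ofAdd (1 : ZMod 2), u) ≠ 1 := fun u h =>
      absurd (congrArg Prod.fst h) (by decide : Multiplicative.ofAdd (1 : ZMod 2) ≠ 1)
    rcases hx with rfl | rfl | rfl | rfl
    · simpa using hgx
    · exact absurd (hΦr ▸ hx1) (h1 _)
    · exact absurd (hΦs ▸ hx1) (h1 _)
    · rw [map_mul, hΦr, hΦs, h11.2 _ _ hne] at hx1
      exact absurd (congrArg Prod.snd hx1) (by decide)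
  refine ⟨hker, ?_⟩
  rw [hker, Subgroup.index_ker, MonoidHom.range_eq_top.2, Subgroup.card_top,
    Nat.card_eq_fintype_card]
  · rfl
  · rintro ⟨x, y⟩
    have hx : x = 1 ∨ x = Multiplicative.ofAdd (1 : ZMod 2) := by revert x; decide
    have hcases : ∀ y : ℤˣ, y = levelSign (hyp (hyp M)) r ∨ y = levelSign (hyp (hyp M)) s := by
      intro y
      rcases Int.units_eq_one_or y with rfl | rfl <;>
        rcases Int.units_eq_one_or (levelSign (hyp (hyp M)) r) with e | e <;>
        rcases Int.units_eq_one_or (levelSign (hyp (hyp M)) s) with e' | e' <;>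
        simp [e, e'] at hne ⊢
    rcases hx with rfl | rfl
    · rcases Int.units_eq_one_or y with rfl | rfl
      · exact ⟨1, map_one _⟩
      · exact ⟨r * s, by rw [map_mul, hΦr, hΦs, h11.2 _ _ hne]⟩
    · rcases hcases y with rfl | rfl
      · exact ⟨r, hΦr⟩
      · exact ⟨s, hΦs⟩

omit hgen [Finite F] [Finite U] in
theorem mem_center_eichGroup {g : eichGroup (hyp (hyp M))} :
    g ∈ Subgroup.center (eichGroup (hyp (hyp M))) ↔ FixesPoints g.1 := by
  constructor
  · intro hg
    by_contra hf
    have hN : (Subgroup.center (eichGroup (hyp (hyp M)))).map (Subgroup.subtype _) =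
        eichGroup (hyp (hyp M)) := by
      refine eq_eichGroup_of_normal hM hex (Subgroup.map_subtype_le _) ?_ ⟨g.1, ⟨g, hg, rfl⟩, hf⟩
      rintro k hk _ ⟨x, hx, rfl⟩
      exact ⟨⟨k, hk⟩ * x * ⟨k, hk⟩⁻¹,
        (inferInstance : (Subgroup.center (eichGroup (hyp (hyp M)))).Normal).conj_mem x hx _, rfl⟩
    obtain ⟨k, hk, hkf⟩ := exists_not_fixesPoints hM hex
    have hbot : ⁅eichGroup (hyp (hyp M)), eichGroup (hyp (hyp M))⁆ = ⊥ := by
      rw [eq_bot_iff, Subgroup.commutator_le]
      intro x hx y hy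
      rw [← hN] at hx
      obtain ⟨x, hx', rfl⟩ := hx
      rw [Subgroup.mem_bot, commutatorElement_eq_one_iff_mul_comm]
      exact congrArg Subtype.val ((Subgroup.mem_center_iff.1 hx') ⟨y, hy⟩).symm
    rw [eichGroup_perfect hM hex] at hbot
    rw [hbot, Subgroup.mem_bot] at hk
    exact hkf (fun v _ => ⟨1, by rw [hk]; simp⟩)
  · intro hf
    obtain ⟨c, -, hc⟩ := eq_smul_of_fixesPoints hf
    refine Subgroup.mem_center_iff.2 fun k => Subtype.ext (orth_ext fun v => ?_)
    show k.1.1 (g.1.1 v) = g.1.1 (k.1.1 v)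
    rw [hc, hc, map_smul]

omit hgen [Finite F] [Finite U] in
theorem isSimpleGroup_eichGroup :
    IsSimpleGroup (eichGroup (hyp (hyp M)) ⧸ Subgroup.center (eichGroup (hyp (hyp M)))) := by
  obtain ⟨k, hk, hkf⟩ := exists_not_fixesPoints hM hex
  haveI : Nontrivial (eichGroup (hyp (hyp M)) ⧸ Subgroup.center (eichGroup (hyp (hyp M)))) :=
    ⟨QuotientGroup.mk ⟨k, hk⟩, 1, fun h => hkf
      ((mem_center_eichGroup hM hex).1 ((QuotientGroup.eq_one_iff _).1 h))⟩
  refine isSimpleGroup_quotient_of_forall _ fun N hN hne => ?_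
  obtain ⟨g, hg, hgc⟩ : ∃ g ∈ N, g ∉ Subgroup.center (eichGroup (hyp (hyp M))) :=
    SetLike.not_le_iff_exists.1 hne
  have hN₀ : N.map (Subgroup.subtype (eichGroup (hyp (hyp M)))) = eichGroup (hyp (hyp M)) := by
    refine eq_eichGroup_of_normal hM hex (Subgroup.map_subtype_le _) ?_
      ⟨g.1, ⟨g, hg, rfl⟩, fun hf => hgc ((mem_center_eichGroup hM hex).2 hf)⟩
    rintro k hk _ ⟨x, hx, rfl⟩
    exact ⟨⟨k, hk⟩ * x * ⟨k, hk⟩⁻¹, hN.conj_mem x hx _, rfl⟩
  refine Subgroup.map_injective (Subgroup.subtype_injective _) ?_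
  rw [hN₀, ← MonoidHom.range_eq_map, Subgroup.range_subtype]

omit hgen [Finite F] [Finite U] in
theorem card_center_eichGroup :
    ((2 : F) ≠ 0 ∧ negOne (hyp (hyp M)) ∈ eichGroup (hyp (hyp M)) →
      Nat.card (Subgroup.center (eichGroup (hyp (hyp M)))) = 2) ∧
    (¬((2 : F) ≠ 0 ∧ negOne (hyp (hyp M)) ∈ eichGroup (hyp (hyp M))) →
      Nat.card (Subgroup.center (eichGroup (hyp (hyp M)))) = 1) := by
  have hcases : ∀ g : Subgroup.center (eichGroup (hyp (hyp M))),
      g.1.1 = 1 ∨ g.1.1 = negOne (hyp (hyp M)) := by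
    intro g
    obtain ⟨c, hc2, hc⟩ := eq_smul_of_fixesPoints ((mem_center_eichGroup hM hex).1 g.2)
    rcases mul_self_eq_one_iff.1 hc2 with rfl | rfl
    · exact Or.inl (orth_ext fun v => by rw [hc]; simp)
    · exact Or.inr (orth_ext fun v => by rw [hc]; simp)
  constructor
  · rintro ⟨h2, hmem⟩
    have hne : negOne (hyp (hyp M)) ≠ 1 := fun e => h2 (by
      have := congrArg (fun v : (F × F) × ((F × F) × U) => v.1.1)
        (DFunLike.congr_fun (congrArg Subtype.val e) ((1, 0), 0))
      simp at this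
      linear_combination -this)
    rw [Nat.card_eq_two_iff]
    refine ⟨1, ⟨⟨_, hmem⟩, (mem_center_eichGroup hM hex).2
      fun v _ => ⟨-1, by simp⟩⟩, fun e => hne (congrArg (fun x : Subgroup.center _ => x.1.1) e).symm, ?_⟩
    refine Set.eq_univ_of_forall fun g => ?_
    rcases hcases g with e | e
    · exact Or.inl (Subtype.ext (Subtype.ext e))
    · exact Or.inr (Subtype.ext (Subtype.ext e))
  · intro hno
    rw [Nat.card_eq_one_iff_unique]
    have h1 : ∀ g : Subgroup.center (eichGroup (hyp (hyp M))), g = 1 := fun g => by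
      rcases hcases g with e | e
      · exact Subtype.ext (Subtype.ext e)
      · have h2 : (2 : F) = 0 := by_contra fun h2 => hno ⟨h2, e ▸ g.1.2⟩
        refine Subtype.ext (Subtype.ext (e.trans (orth_ext fun v => ?_)))
        show -v = v
        rw [neg_eq_iff_add_eq_zero, ← two_smul F, h2, zero_smul]
    exact ⟨⟨fun g k => (h1 g).trans (h1 k).symm⟩, inferInstance⟩

end main

section transport

/-- Isomorphic groups have isomorphic derived groups modulo their centres. -/
theorem nonempty_commutator_quotient_congr {G H : Type*} [Group G] [Group H] (φ : G ≃* H)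
    {E : Subgroup H} (hE : commutator H = E) :
    Nonempty (↥(commutator G) ⧸ Subgroup.center ↥(commutator G) ≃* ↥E ⧸ Subgroup.center ↥E) := by
  subst hE
  have hmap : (commutator G).map φ.toMonoidHom = commutator H := by
    rw [commutator_def, Subgroup.map_commutator, Subgroup.map_top_of_surjective _ φ.surjective,
      commutator_def]
  let e : ↥(commutator G) ≃* ↥(commutator H) :=
    (φ.subgroupMap (commutator G)).trans (MulEquiv.subgroupCongr hmap)
  refine ⟨QuotientGroup.congr _ _ e (le_antisymm ?_ ?_)⟩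
  · rintro _ ⟨x, hx, rfl⟩
    refine Subgroup.mem_center_iff.2 fun y => ?_
    have := congrArg e (Subgroup.mem_center_iff.1 hx (e.symm y))
    rw [map_mul, map_mul, e.apply_symm_apply] at this
    exact this
  · intro y hy
    refine ⟨e.symm y, Subgroup.mem_center_iff.2 fun x => e.injective ?_, e.apply_symm_apply y⟩
    rw [map_mul, map_mul, e.apply_symm_apply]
    exact Subgroup.mem_center_iff.1 hy (e x)

end transport

end Cfsg.Agent.UnitaryOrthogonal
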