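/-
`PΩ` of the standard forms: orders, simplicity, and when `-1 ∈ Ω`.
-/
import Cfsg.Agent.Lib.UnitaryOrthogonal.Omega

set_option autoImplicit false

namespace Cfsg.Agent.UnitaryOrthogonal

open QuadraticMap

theorem int_mul_emod_four {a d : ℤ} (ha : a % 2 = 1) (hd : d % 4 = 2) : (a * d) % 4 = 2 := by
  rw [Int.mul_emod, hd]
  omega

section general

variable {F W : Type*} [Field F] [AddCommGroup W] [Module F W] {Q : QuadraticForm F W}

theorem exists_hypSum_ne_zero (k : ℕ) (h : 1 ≤ k ∨ ∃ a, Q a ≠ 0) :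
    ∃ a, hypSum k Q a ≠ 0 := by
  rcases h with h | ⟨a, ha⟩
  · refine ⟨((fun i => if i = ⟨0, h⟩ then 1 else 0, fun i => if i = ⟨0, h⟩ then 1 else 0), 0), ?_⟩
    simp
  · exact ⟨(0, a), by simpa using ha⟩

theorem elemGroup_hypHyp (hQ : PolarND Q) (hr : reflGroup Q = ⊤) (k : ℕ) :
    elemGroup (hyp (hyp (hypSum k Q))) = ⊤ :=
  elemGroup_congr (hypSumTwo Q k) (elemGroup_hypSum hQ.nonsing (elemGroup_of_refl hr) (k + 2))

variable [Finite F] [Finite W]

theorem odd_natCard (h2 : (2 : F) ≠ 0) : (Nat.card F : ℤ) % 2 = 1 := by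
  cases nonempty_fintype F
  have := FiniteField.odd_card_of_char_ne_two (F := F) fun hch => h2 (by
    haveI : CharP F 2 := hch ▸ inferInstance
    exact CharTwo.two_eq_zero)
  rw [Nat.card_eq_fintype_card]
  omega

omit [Finite W] in
theorem isSquare_neg_iff_of_nonsquare [Fintype F] {c : F} (hc : ¬IsSquare c) :
    IsSquare (-c) ↔ ¬IsSquare (-1 : F) := by
  classical
  have hc0 : c ≠ 0 := by rintro rfl; exact hc ⟨0, (mul_zero 0).symm⟩
  rw [← quadraticChar_one_iff_isSquare (neg_ne_zero.2 hc0), ← quadraticChar_one_iff_isSquare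
    (neg_ne_zero.2 (one_ne_zero (α := F))), show -c = -1 * c by ring, map_mul,
    quadraticChar_neg_one_iff_not_isSquare.2 hc]
  rcases quadraticChar_dichotomy (neg_ne_zero.2 (one_ne_zero (α := F))) with e | e <;>
    rw [e] <;> decide

theorem hsep_of_base (h2 : (2 : F) ≠ 0)
    (hbase : ∀ c : F, ¬IsSquare c → ((mixedCount Q 1 : ℤ) - mixedCount Q c) % 4 = 2) (k : ℕ)
    (c : F) (hc : ¬IsSquare c) :
    ((mixedCount (hyp (hypSum k Q)) 1 : ℤ) - mixedCount (hyp (hypSum k Q)) c) % 4 = 2 := by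
  rw [← mixedCount_congr (hypSumSucc Q k), ← mixedCount_congr (hypSumSucc Q k), mixedCount_hypSum]
  refine int_mul_emod_four ?_ (hbase c hc)
  have := odd_natCard h2
  rw [← Int.odd_iff] at this ⊢
  exact this.pow

omit [Finite W] in
theorem hbase_zeroForm (h2 : (2 : F) ≠ 0) (c : F) (hc : ¬IsSquare c) :
    ((mixedCount (zeroForm F) 1 : ℤ) - mixedCount (zeroForm F) c) % 4 = 2 := by
  cases nonempty_fintype F
  classical
  have hc0 : c ≠ 0 := by rintro rfl; exact hc ⟨0, (mul_zero 0).symm⟩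
  rw [mixedCount_zeroForm one_ne_zero h2, mixedCount_zeroForm hc0 h2,
    if_congr (isSquare_neg_iff_of_nonsquare hc) rfl rfl]
  by_cases h : IsSquare (-1 : F) <;> simp [h]

omit [Finite W] in
theorem hbase_sqForm (h2 : (2 : F) ≠ 0) (c : F) (hc : ¬IsSquare c) :
    ((mixedCount (sqForm F) 1 : ℤ) - mixedCount (sqForm F) c) % 4 = 2 := by
  cases nonempty_fintype F
  rw [mixedCount_sqForm_one h2, mixedCount_sqForm_nonsquare hc]
  have := Nat.card_pos (α := F)
  omega

omit [Finite W] in
theorem hbase_binForm {a b : F} (hab : BinAniso a b) (h2 : (2 : F) ≠ 0) (c : F)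
    (hc : ¬IsSquare c) :
    ((mixedCount (binForm a b) 1 : ℤ) - mixedCount (binForm a b) c) % 4 = 2 := by
  cases nonempty_fintype F
  classical
  have hc0 : c ≠ 0 := by rintro rfl; exact hc ⟨0, (mul_zero 0).symm⟩
  have e1 := mixedCount_binForm hab one_ne_zero h2
  have e2 := mixedCount_binForm hab hc0 h2
  rw [if_congr (isSquare_neg_iff_of_nonsquare hc) rfl rfl] at e2
  have := odd_natCard h2
  generalize hY : Nat.card F * (Nat.card F + 1) = Y at e1 e2
  by_cases h : IsSquare (-1 : F)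
  · rw [if_pos h] at e1
    rw [if_neg (not_not_intro h)] at e2
    omega
  · rw [if_neg h] at e1
    rw [if_pos h] at e2
    omega

/-- `|Ω|` is a quarter (odd `q`) or half (even `q`) of `|O|`; `PΩ` is simple, and `-1` is in `Ω`
exactly as the two characters say. -/
theorem omega_package (hQ : PolarND Q) (hr : reflGroup Q = ⊤) (k : ℕ)
    (hex : 1 ≤ k ∨ ∃ a, Q a ≠ 0) {G : Type*} [Group G]
    (φ : G ≃* orth (hypSum (k + 2) Q)) :
    IsSimpleGroup (↥(commutator G) ⧸ Subgroup.center ↥(commutator G)) ∧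
    ((2 : F) = 0 → 2 * Nat.card (↥(commutator G) ⧸ Subgroup.center ↥(commutator G)) =
      Nat.card (orth (hypSum (k + 2) Q))) ∧
    ((2 : F) ≠ 0 →
      (∀ c : F, ¬IsSquare c → ((mixedCount Q 1 : ℤ) - mixedCount Q c) % 4 = 2) →
      (if Even (Module.finrank F W) ∧ Even (level (hypSum (k + 2) Q) 1 / 2) then 8 else 4) *
        Nat.card (↥(commutator G) ⧸ Subgroup.center ↥(commutator G)) =
          Nat.card (orth (hypSum (k + 2) Q))) := by
  have hM : PolarND (hypSum k Q) := hQ.hypSum k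
  have hexM := exists_hypSum_ne_zero k hex
  have hgen := elemGroup_hypHyp hQ hr k
  let ψ : G ≃* orth (hyp (hyp (hypSum k Q))) := φ.trans (orthCongr (hypSumTwo Q k))
  obtain ⟨e⟩ := nonempty_commutator_quotient_congr ψ (commutator_eq_eichGroup hM hexM hgen)
  haveI := isSimpleGroup_eichGroup hM hexM
  obtain ⟨E, hE⟩ : ∃ E, E = eichGroup (hyp (hyp (hypSum k Q))) := ⟨_, rfl⟩
  have hcardO : Nat.card (orth (hypSum (k + 2) Q)) =
      Nat.card (orth (hyp (hyp (hypSum k Q)))) := card_orth_congr (hypSumTwo Q k)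
  have hsplit : (eichGroup (hyp (hyp (hypSum k Q)))).index *
      (Nat.card (↥(commutator G) ⧸ Subgroup.center ↥(commutator G)) *
        Nat.card (Subgroup.center (eichGroup (hyp (hyp (hypSum k Q)))))) =
      Nat.card (orth (hypSum (k + 2) Q)) := by
    rw [Nat.card_congr e.toEquiv, ← Subgroup.card_eq_card_quotient_mul_card_subgroup, hcardO,
      Subgroup.index_mul_card]
  obtain ⟨hZ2, hZ1⟩ := card_center_eichGroup hM hexM
  refine ⟨?_, fun h2 => ?_, fun h2 hbase => ?_⟩
  · haveI : Nontrivial (↥(commutator G) ⧸ Subgroup.center ↥(commutator G)) :=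
      e.toEquiv.nontrivial
    exact IsSimpleGroup.isSimpleGroup_of_surjective e.symm.toMonoidHom e.symm.surjective
  · rw [← hsplit, (eichGroup_eq_ker_of_two hM hexM hgen h2).2, hZ1 (fun h => h.1 h2), mul_one]
  · obtain ⟨hker, hidx⟩ := eichGroup_eq_ker_of_odd hM hexM hgen h2
      (hsep_of_base h2 hbase k)
    have hfin : Module.finrank F ((F × F) × ((F × F) ×
        (((Fin k → F) × (Fin k → F)) × W))) = 2 * (k + 2) + Module.finrank F W := by
      haveI : Module.Finite F W := Module.Finite.of_finite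
      simp only [Module.finrank_prod, Module.finrank_self, Module.finrank_fin_fun]
      ring
    haveI : Module.Finite F W := Module.Finite.of_finite
    have hmem : negOne (hyp (hyp (hypSum k Q))) ∈ eichGroup (hyp (hyp (hypSum k Q))) ↔
        Even (Module.finrank F W) ∧ Even (level (hypSum (k + 2) Q) 1 / 2) := by
      rw [hker, MonoidHom.mem_ker, MonoidHom.prod_apply, Prod.ext_iff, dickson_apply,
        moved_neg_one h2 (fun v => rfl), levelSign_neg_one h2 (fun v => rfl),
        ← level_congr (hypSumTwo Q k)]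
      refine and_congr ?_ ?_
      · show Multiplicative.ofAdd _ = 1 ↔ _
        rw [ofAdd_eq_one, ZMod.natCast_eq_zero_iff_even, hfin, Nat.even_add]
        simp
      · show (-1 : ℤˣ) ^ _ = 1 ↔ _
        exact neg_one_pow_eq_one_iff_even (by decide)
    rw [← hsplit, hidx]
    split_ifs with h
    · rw [hZ2 ⟨h2, hmem.2 h⟩]; ring
    · rw [hZ1 fun h' => h (hmem.1 h'.2), mul_one]

end general

section families

variable {F : Type*} [Field F] [Finite F]

theorem exists_binForm_ne_zero (a b : F) : ∃ v, binForm a b v ≠ 0 :=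
  ⟨(1, 0), by simp [binForm_apply]⟩

theorem pomega_odd (h2 : (2 : F) ≠ 0) (k : ℕ) :
    IsSimpleGroup (Cfsg.POmega F (Cfsg.quadFormOdd (k + 2) F)) ∧
    4 * Nat.card (Cfsg.POmega F (Cfsg.quadFormOdd (k + 2) F)) =
      Nat.card (orth (hypSum (k + 2) (sqForm F))) := by
  obtain ⟨hs, -, hc⟩ := omega_package (polarND_sqForm h2) reflGroup_sqForm k
    (Or.inr ⟨(1 : F), by simp⟩) (oddEquiv (k + 2) F)
  refine ⟨hs, ?_⟩
  have := hc h2 (hbase_sqForm h2)
  rwa [if_neg (by simp [Module.finrank_self])] at this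

theorem pomega_plus (k : ℕ) (hk : 1 ≤ k) :
    IsSimpleGroup (Cfsg.POmega F (Cfsg.quadFormPlus (k + 2) F)) ∧
    2 * Nat.gcd 4 (Nat.card F ^ (k + 2) - 1) *
        Nat.card (Cfsg.POmega F (Cfsg.quadFormPlus (k + 2) F)) =
      Nat.card (orth (hypSum (k + 2) (zeroForm F))) := by
  obtain ⟨hs, htwo, hc⟩ := omega_package (polarND_zeroForm (F := F)) reflGroup_zeroForm k
    (Or.inl hk) (plusEquiv (k + 2) F)
  refine ⟨hs, ?_⟩
  cases nonempty_fintype F
  have hX : 0 < Nat.card F ^ (k + 2) := Nat.pow_pos Nat.card_pos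
  by_cases h2 : (2 : F) = 0
  · have heven : Nat.card F % 2 = 0 := by
      haveI : CharP F 2 := CharTwo.of_one_ne_zero_of_two_eq_zero one_ne_zero h2
      rw [Nat.card_eq_fintype_card]
      exact FiniteField.even_card_of_char_two (ringChar.eq F 2)
    have : Nat.gcd 4 (Nat.card F ^ (k + 2) - 1) = 1 := by
      have hodd : ¬ 2 ∣ Nat.card F ^ (k + 2) - 1 := by
        have : 2 ∣ Nat.card F ^ (k + 2) :=
          dvd_pow (Nat.dvd_of_mod_eq_zero heven) (by omega)
        omega
      exact (Nat.Coprime.pow_left 2 (Nat.prime_two.coprime_iff_not_dvd.2 hodd) :)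
    rw [this, mul_one]
    exact htwo h2
  · have hodd := odd_natCard (F := F) h2
    have hoddq : Odd (Nat.card F) := Nat.odd_iff.2 (by omega)
    have hl := level_hypSum (Q := zeroForm F) 1 (k + 2)
    have h0 : level (zeroForm F) (1 : F) = 0 := by
      rw [level, Nat.card_eq_zero]
      exact Or.inl ⟨fun v => by have := v.2; simp [zeroForm] at this⟩
    rw [h0, Nat.card_eq_fintype_card (α := Fin 0 → F), Fintype.card_unique, mul_one, mul_one,
      mul_zero, add_zero] at hl
    obtain ⟨X, hX'⟩ : ∃ X, Nat.card F ^ (k + 2) = X + 1 := ⟨_, (Nat.succ_pred hX.ne').symm⟩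
    have hL : level (hypSum (k + 2) (zeroForm F)) 1 = Nat.card F ^ (k + 1) * X := by
      refine Nat.eq_of_mul_eq_mul_left (Nat.card_pos (α := F)) ?_
      have e : Nat.card F ^ (2 * (k + 2)) = (X + 1) * (X + 1) := by rw [← hX', ← pow_add, two_mul]
      have e' : Nat.card F * Nat.card F ^ (k + 1) = X + 1 := by rw [← hX', ← pow_succ']
      rw [e, hX'] at hl
      rw [← mul_assoc, e']
      nlinarith [hl]
    have hX2 : 2 ∣ X := by
      obtain ⟨t, ht⟩ := (hoddq.pow : Odd (Nat.card F ^ (k + 2)))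
      omega
    obtain ⟨r, rfl⟩ := hX2
    have heven : Even (level (hypSum (k + 2) (zeroForm F)) 1 / 2) ↔ Even r := by
      rw [hL, Nat.mul_div_assoc _ (dvd_mul_right 2 r), Nat.mul_div_cancel_left _ two_pos,
        Nat.even_mul, or_iff_right (Nat.not_even_iff_odd.2 hoddq.pow)]
    have hg : Nat.gcd 4 (Nat.card F ^ (k + 2) - 1) = if Even r then 4 else 2 := by
      rw [hX', Nat.add_sub_cancel, show (4 : ℕ) = 2 * 2 from rfl, Nat.gcd_mul_left]
      split_ifs with hr
      · rw [Nat.gcd_eq_left (even_iff_two_dvd.1 hr)]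
      · rw [Nat.prime_two.coprime_iff_not_dvd.2 (fun h => hr (even_iff_two_dvd.2 h)) |>.gcd_eq_one]
    rw [← hc h2 (hbase_zeroForm h2), hg]
    simp only [Module.finrank_zero_of_subsingleton (M := Fin 0 → F), Even.zero, true_and, heven]
    split_ifs <;> rfl

theorem pomega_minus {a b : F} (hab : BinAniso a b) (k : ℕ) :
    IsSimpleGroup (Cfsg.POmega F (Cfsg.quadFormMinus (k + 2) F a b)) ∧
    2 * Nat.gcd 4 (Nat.card F ^ (k + 3) + 1) *
        Nat.card (Cfsg.POmega F (Cfsg.quadFormMinus (k + 2) F a b)) =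
      Nat.card (orth (hypSum (k + 2) (binForm a b))) := by
  obtain ⟨hs, htwo, hc⟩ := omega_package hab.polarND hab.reflGroup_eq_top k
    (Or.inr (exists_binForm_ne_zero a b)) (minusEquiv (k + 2) F a b)
  refine ⟨hs, ?_⟩
  cases nonempty_fintype F
  by_cases h2 : (2 : F) = 0
  · have heven : Nat.card F % 2 = 0 := by
      haveI : CharP F 2 := CharTwo.of_one_ne_zero_of_two_eq_zero one_ne_zero h2
      rw [Nat.card_eq_fintype_card]
      exact FiniteField.even_card_of_char_two (ringChar.eq F 2)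
    have : Nat.gcd 4 (Nat.card F ^ (k + 3) + 1) = 1 := by
      have hodd : ¬ 2 ∣ Nat.card F ^ (k + 3) + 1 := by
        have : 2 ∣ Nat.card F ^ (k + 3) :=
          dvd_pow (Nat.dvd_of_mod_eq_zero heven) (by omega)
        omega
      exact (Nat.Coprime.pow_left 2 (Nat.prime_two.coprime_iff_not_dvd.2 hodd) :)
    rw [this, mul_one]
    exact htwo h2
  · have hodd := odd_natCard (F := F) h2
    have hoddq : Odd (Nat.card F) := Nat.odd_iff.2 (by omega)
    have hl := level_hypSum (Q := binForm a b) 1 (k + 2)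
    rw [hab.level_eq one_ne_zero, Nat.card_prod] at hl
    obtain ⟨Y, hY⟩ : ∃ Y, Nat.card F ^ (k + 3) = Y := ⟨_, rfl⟩
    have hL : level (hypSum (k + 2) (binForm a b)) 1 = Nat.card F ^ (k + 2) * (Y + 1) := by
      refine Nat.eq_of_mul_eq_mul_left (Nat.card_pos (α := F)) ?_
      have e1 : Nat.card F ^ (k + 2) * (Nat.card F * Nat.card F) = Nat.card F * Y := by
        rw [← hY]; ring
      have e2 : Nat.card F ^ (2 * (k + 2)) * (Nat.card F * Nat.card F) = Y * Y := by
        rw [← hY]; ring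
      have e3 : Nat.card F ^ (k + 2 + 1) = Y := hY
      rw [e1, e2, e3] at hl
      rw [← mul_assoc, ← pow_succ', e3]
      nlinarith [hl]
    have hY2 : 2 ∣ Y + 1 := by
      obtain ⟨t, ht⟩ := (hoddq.pow : Odd (Nat.card F ^ (k + 3)))
      omega
    obtain ⟨r, hr'⟩ := hY2
    have heven : Even (level (hypSum (k + 2) (binForm a b)) 1 / 2) ↔ Even r := by
      rw [hL, hr', Nat.mul_div_assoc _ (dvd_mul_right 2 r), Nat.mul_div_cancel_left _ two_pos,
        Nat.even_mul, or_iff_right (Nat.not_even_iff_odd.2 hoddq.pow)]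
    have hg : Nat.gcd 4 (Nat.card F ^ (k + 3) + 1) = if Even r then 4 else 2 := by
      rw [hY, hr', show (4 : ℕ) = 2 * 2 from rfl, Nat.gcd_mul_left]
      split_ifs with hr
      · rw [Nat.gcd_eq_left (even_iff_two_dvd.1 hr)]
      · rw [Nat.prime_two.coprime_iff_not_dvd.2 (fun h => hr (even_iff_two_dvd.2 h)) |>.gcd_eq_one]
    rw [← hc h2 (hbase_binForm hab h2), hg]
    simp only [Module.finrank_prod, Module.finrank_self, even_two, true_and, heven]
    split_ifs with h1 h2' <;> simp_all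

end families

end Cfsg.Agent.UnitaryOrthogonal
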