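/-
Half-dimensional totally singular subspaces of a non-degenerate quadratic form: parity classes and
determinants of similarities.
-/
import Cfsg.Agent.Lib.UnitaryOrthogonal.Basic
import Mathlib.LinearAlgebra.Transvection.Basic
import Mathlib.LinearAlgebra.BilinearForm.Orthogonal

set_option autoImplicit false

namespace Cfsg.Agent.UnitaryOrthogonal

open QuadraticMap Module

variable {F V : Type*} [Field F] [AddCommGroup V] [Module F V] [FiniteDimensional F V]
  {Q : QuadraticForm F V} {U W : Submodule F V} {m : ℕ}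

/-- A reflection has determinant `-1`. -/
theorem det_rf {a : V} (ha : Q a ≠ 0) : LinearMap.det (rf Q a).1.toLinearMap = -1 := by
  have h : (rf Q a).1.toLinearMap =
      LinearMap.transvection (-((Q a)⁻¹ • polarBilin Q a)) a := by
    refine LinearMap.ext fun x => ?_
    rw [LinearMap.transvection.apply]
    simp [rf_apply, sub_eq_add_neg, neg_smul]
  rw [h, LinearMap.transvection.det]
  simp [polar_self_eq]
  field_simp
  ring

/-- Totally singular. -/
def TotSing (Q : QuadraticForm F V) (U : Submodule F V) : Prop := ∀ x ∈ U, Q x = 0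

theorem TotSing.polar_eq_zero (h : TotSing Q U) {x y : V} (hx : x ∈ U) (hy : y ∈ U) :
    polar Q x y = 0 := by
  simp [polar, h x hx, h y hy, h _ (add_mem hx hy)]

theorem TotSing.le_orthogonal (h : TotSing Q U) :
    U ≤ LinearMap.BilinForm.orthogonal (polarBilin Q) U := fun _ hx _ hy => h.polar_eq_zero hy hx

theorem finrank_perp (hQ : PolarND Q) (U : Submodule F V) :
    finrank F ↥(LinearMap.BilinForm.orthogonal (polarBilin Q) U) = finrank F V - finrank F U := by
  refine LinearMap.BilinForm.finrank_orthogonal ?_ U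
  refine ⟨fun x hx => hQ x hx, fun y hy => hQ y fun x => ?_⟩
  rw [polar_comm]; exact hy x

theorem TotSing.two_finrank_le (hQ : PolarND Q) (h : TotSing Q U) :
    2 * finrank F U ≤ finrank F V := by
  have := Submodule.finrank_mono h.le_orthogonal
  rw [finrank_perp hQ] at this
  omega

theorem TotSing.map (h : TotSing Q U) (g : orth Q) : TotSing Q (U.map g.1.toLinearMap) := by
  rintro _ ⟨x, hx, rfl⟩
  rw [LinearEquiv.coe_coe, map_form, h x hx]

theorem TotSing.sup_span (h : TotSing Q U) {x : V} (hx : Q x = 0)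
    (hp : x ∈ LinearMap.BilinForm.orthogonal (polarBilin Q) U) :
    TotSing Q (U ⊔ Submodule.span F {x}) := by
  intro y hy
  obtain ⟨u, hu, v, hv, rfl⟩ := Submodule.mem_sup.1 hy
  obtain ⟨t, rfl⟩ := Submodule.mem_span_singleton.1 hv
  rw [form_add, form_smul, h u hu, hx, polar_smul_right, show polar Q u x = 0 from hp u hu]
  simp

/-- Maximal totally singular subspaces of a split form have half the dimension. -/
theorem TotSing.finrank_of_maximal (hQ : PolarND Q) (hdim : finrank F V = 2 * m)
    (hW : TotSing Q W) (hWm : finrank F W = m) (hU : TotSing Q U)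
    (hmax : ∀ X, TotSing Q X → U ≤ X → X = U) : finrank F U = m := by
  have hle := hU.two_finrank_le hQ
  by_contra hne
  set P := LinearMap.BilinForm.orthogonal (polarBilin Q) U with hP
  have hsub : W ⊓ P ≤ W ⊓ U := fun x hx => by
    refine ⟨hx.1, ?_⟩
    have := hmax _ (hU.sup_span (hW x hx.1) hx.2) le_sup_left
    exact this ▸ Submodule.mem_sup_right (Submodule.mem_span_singleton_self x)
  have hperpW : W ⊔ U ≤ LinearMap.BilinForm.orthogonal (polarBilin Q) (W ⊓ U) :=
    sup_le (fun x hx y hy => hW.polar_eq_zero hy.1 hx) fun x hx y hy => hU.polar_eq_zero hy.2 hx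
  have h1 := Submodule.finrank_mono hperpW
  rw [finrank_perp hQ] at h1
  have h2 := Submodule.finrank_sup_add_finrank_inf_eq W U
  have h3 := Submodule.finrank_sup_add_finrank_inf_eq W P
  have h4 : W ⊔ P ≤ LinearMap.BilinForm.orthogonal (polarBilin Q) (W ⊓ U) :=
    sup_le (fun x hx y hy => hW.polar_eq_zero hy.1 hx) fun x hx y hy => hx y hy.2
  have h5 := Submodule.finrank_mono h4
  rw [finrank_perp hQ] at h5
  have h6 := Submodule.finrank_mono hsub
  have h7 : finrank F ↥P = finrank F V - finrank F U := finrank_perp hQ U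
  have h8 : finrank F ↥(W ⊓ U) ≤ finrank F V := Submodule.finrank_le _
  omega

/-- A reflection changes the dimension of the intersection of two half-dimensional totally singular
subspaces by exactly one. -/
theorem finrank_inf_map_rf (hQ : PolarND Q) (hdim : finrank F V = 2 * m)
    (hU : TotSing Q U) (hUm : finrank F U = m) (hW : TotSing Q W) (hWm : finrank F W = m)
    {a : V} (ha : Q a ≠ 0) :
    finrank F ↥(U ⊓ W.map (rf Q a).1.toLinearMap) + 1 = finrank F ↥(U ⊓ W) ∨
      finrank F ↥(U ⊓ W) + 1 = finrank F ↥(U ⊓ W.map (rf Q a).1.toLinearMap) := by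
  set r := (rf Q a).1.toLinearMap with hr
  set A : Submodule F V := LinearMap.ker (polarBilin Q a) with hA
  set H := W ⊓ A with hH
  have hfix : ∀ x ∈ A, r x = x := fun x hx => rf_apply_of_polar hx
  have hW' : TotSing Q (W.map r) := hW.map _
  have hW'm : finrank F ↥(W.map r) = m := by
    rw [hr, LinearEquiv.finrank_map_eq]; exact hWm
  have hHW' : H ≤ W.map r := fun x hx => ⟨x, hx.1, hfix x hx.2⟩
  -- `a ∉ H^⊥`-complement facts
  have hnot : ¬W ≤ A := fun hle => by
    have hmem : a ∈ W := by
      have hperp : LinearMap.BilinForm.orthogonal (polarBilin Q) W = W := by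
        refine (Submodule.eq_of_le_of_finrank_eq hW.le_orthogonal ?_).symm
        rw [finrank_perp hQ]; omega
      rw [← hperp]
      intro x hx
      show polar Q x a = 0
      rw [polar_comm]; exact hle hx
    exact ha (hW a hmem)
  obtain ⟨w, hw, hwA⟩ := SetLike.not_le_iff_exists.1 hnot
  have hwA' : polar Q a w ≠ 0 := hwA
  have hHm : finrank F H + 1 = m := by
    have h1 : H < W := lt_of_le_of_ne inf_le_left fun e => hwA ((e ▸ hw : w ∈ H)).2
    have h2 := Submodule.finrank_lt_finrank_of_lt h1
    have h3 : H ⊔ Submodule.span F {w} = W := by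
      refine le_antisymm (sup_le inf_le_left ((Submodule.span_singleton_le_iff_mem _ _).2 hw))
        fun x hx => ?_
      refine Submodule.mem_sup.2 ⟨x - (polar Q a x / polar Q a w) • w, ⟨sub_mem hx
        (Submodule.smul_mem _ _ hw), ?_⟩, _, Submodule.smul_mem _ _
          (Submodule.mem_span_singleton_self w), sub_add_cancel _ _⟩
      show polar Q a _ = 0
      rw [polar_sub_right, polar_smul_right, smul_eq_mul, div_mul_cancel₀ _ hwA', sub_self]
    have h4 := Submodule.finrank_sup_add_finrank_inf_eq H (Submodule.span F {w})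
    rw [h3, finrank_span_singleton (fun e => hwA' (by rw [e, polar_zero_right]))] at h4
    omega
  -- the two subspaces meet in `H`
  have hinf : W ⊓ W.map r = H := by
    refine le_antisymm ?_ (le_inf inf_le_left hHW')
    rintro x ⟨hx, y, hy, rfl⟩
    refine ⟨hx, ?_⟩
    show polar Q a (r y) = 0
    have hp : polar Q y (r y) = 0 := hW.polar_eq_zero hy hx
    rw [hr, LinearEquiv.coe_coe, rf_apply, polar_sub_right, polar_smul_right, polar_self_eq,
      hW y hy, polar_comm Q y a, smul_eq_mul, mul_zero, zero_sub, neg_eq_zero] at hp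
    have : polar Q a y = 0 := by
      simpa [ha, mul_assoc] using hp
    rw [hr, LinearEquiv.coe_coe, rf_apply_of_polar this, this]
  -- `k = dim (U ⊓ H)`
  set k := finrank F ↥(U ⊓ H) with hk
  have hle1 : finrank F ↥(U ⊓ W) ≤ k + 1 ∧ k ≤ finrank F ↥(U ⊓ W) := by
    constructor
    · have h1 := Submodule.finrank_sup_add_finrank_inf_eq (U ⊓ W) H
      have h2 : finrank F ↥(U ⊓ W ⊔ H) ≤ m :=
        hWm ▸ Submodule.finrank_mono (sup_le inf_le_right inf_le_left)
      rw [show U ⊓ W ⊓ H = U ⊓ H by rw [inf_assoc, inf_eq_right.2 (inf_le_left : H ≤ W)]] at h1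
      omega
    · exact Submodule.finrank_mono (inf_le_inf_left U inf_le_left)
  have hle2 : finrank F ↥(U ⊓ W.map r) ≤ k + 1 ∧ k ≤ finrank F ↥(U ⊓ W.map r) := by
    constructor
    · have h1 := Submodule.finrank_sup_add_finrank_inf_eq (U ⊓ W.map r) H
      have h2 : finrank F ↥(U ⊓ W.map r ⊔ H) ≤ m :=
        hW'm ▸ Submodule.finrank_mono (sup_le inf_le_right hHW')
      rw [show U ⊓ W.map r ⊓ H = U ⊓ H by rw [inf_assoc, inf_eq_right.2 hHW']] at h1
      omega
    · exact Submodule.finrank_mono (inf_le_inf_left U hHW')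
  -- not both
  have hnotboth : ¬(finrank F ↥(U ⊓ W) = k + 1 ∧ finrank F ↥(U ⊓ W.map r) = k + 1) := by
    rintro ⟨e1, e2⟩
    obtain ⟨x, ⟨hxU, hxW⟩, hxH⟩ : ∃ x ∈ U ⊓ W, x ∉ H := SetLike.not_le_iff_exists.1 fun hle => by
      have := Submodule.finrank_mono (le_inf inf_le_left hle : U ⊓ W ≤ U ⊓ H)
      omega
    obtain ⟨y, ⟨hyU, hyW⟩, hyH⟩ : ∃ y ∈ U ⊓ W.map r, y ∉ H :=
      SetLike.not_le_iff_exists.1 fun hle => by
        have := Submodule.finrank_mono (le_inf inf_le_left hle : U ⊓ W.map r ≤ U ⊓ H)
        omega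
    -- `W = H + ⟨x⟩`; `y` is orthogonal to all of it
    have hWspan : W ≤ H ⊔ Submodule.span F {x} := fun v hv => by
      have hxA : polar Q a x ≠ 0 := fun e => hxH ⟨hxW, e⟩
      refine Submodule.mem_sup.2 ⟨v - (polar Q a v / polar Q a x) • x, ⟨sub_mem hv
        (Submodule.smul_mem _ _ hxW), ?_⟩, _, Submodule.smul_mem _ _
          (Submodule.mem_span_singleton_self x), sub_add_cancel _ _⟩
      show polar Q a _ = 0
      rw [polar_sub_right, polar_smul_right, smul_eq_mul, div_mul_cancel₀ _ hxA, sub_self]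
    have hyperp : y ∈ LinearMap.BilinForm.orthogonal (polarBilin Q) W := by
      intro v hv
      obtain ⟨h, hh, t, ht, rfl⟩ := Submodule.mem_sup.1 (hWspan hv)
      obtain ⟨c, rfl⟩ := Submodule.mem_span_singleton.1 ht
      show polar Q _ y = 0
      rw [polar_add_left, polar_smul_left, hW'.polar_eq_zero (hHW' hh) hyW,
        hU.polar_eq_zero hxU hyU, smul_zero, add_zero]
    have hperp : LinearMap.BilinForm.orthogonal (polarBilin Q) W = W := by
      refine (Submodule.eq_of_le_of_finrank_eq hW.le_orthogonal ?_).symm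
      rw [finrank_perp hQ]; omega
    exact hyH (hinf ▸ ⟨hperp ▸ hyperp, hyW⟩)
  -- at least one
  have hone : finrank F ↥(U ⊓ W) = k + 1 ∨ finrank F ↥(U ⊓ W.map r) = k + 1 := by
    set P := LinearMap.BilinForm.orthogonal (polarBilin Q) H with hPdef
    have hPm : finrank F ↥P = m + 1 := by rw [hPdef, finrank_perp hQ]; omega
    have hWP : W ⊔ W.map r = P := by
      refine Submodule.eq_of_le_of_finrank_eq (sup_le
        (fun x hx h hh => hW.polar_eq_zero hh.1 hx)
        (fun x hx h hh => hW'.polar_eq_zero (hHW' hh) hx)) ?_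
      have := Submodule.finrank_sup_add_finrank_inf_eq W (W.map r)
      rw [hinf] at this
      omega
    have hUP : k < finrank F ↥(U ⊓ P) := by
      have h1 := Submodule.finrank_sup_add_finrank_inf_eq U P
      have h2 : U ⊔ P ≤ LinearMap.BilinForm.orthogonal (polarBilin Q) (U ⊓ H) :=
        sup_le (fun x hx y hy => hU.polar_eq_zero hy.1 hx) fun x hx y hy => hx y hy.2
      have h3 := Submodule.finrank_mono h2
      rw [finrank_perp hQ] at h3
      have h4 : finrank F ↥(U ⊓ H) ≤ m := hUm ▸ Submodule.finrank_mono inf_le_left; omega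
    obtain ⟨x, ⟨hxU, hxP⟩, hxH⟩ : ∃ x ∈ U ⊓ P, x ∉ H := SetLike.not_le_iff_exists.1 fun hle => by
      have := Submodule.finrank_mono (le_inf inf_le_left hle : U ⊓ P ≤ U ⊓ H)
      omega
    rw [← hWP] at hxP
    obtain ⟨u, hu, _, ⟨v, hv, rfl⟩, rfl⟩ := Submodule.mem_sup.1 hxP
    -- `r v = v + t • a`, so `u + r v = (u + v) + t • a`
    have hQx := hU _ hxU
    rw [hr, LinearEquiv.coe_coe, form_add, map_form, hW u hu, hW v hv, zero_add, zero_add,
      rf_apply, polar_sub_right, polar_smul_right, hW.polar_eq_zero hu hv, zero_sub,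
      smul_eq_mul, neg_eq_zero, mul_eq_zero, mul_eq_zero, inv_eq_zero] at hQx
    rcases hQx with (h | h) | h
    · exact absurd h ha
    · -- `v ∈ A`, so the vector is in `W`
      left
      refine le_antisymm hle1.1 (Nat.succ_le_of_lt ?_)
      refine lt_of_le_of_ne hle1.2 fun e => hxH ?_
      have heq := Submodule.eq_of_le_of_finrank_eq
        (inf_le_inf_left U (inf_le_left : H ≤ W)) e
      refine (heq ▸ ⟨hxU, ?_⟩ : u + r v ∈ U ⊓ H).2
      rw [hfix v h]
      exact add_mem hu hv
    · -- `u ∈ A`, so the vector is in `r W`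
      right
      refine le_antisymm hle2.1 (Nat.succ_le_of_lt ?_)
      refine lt_of_le_of_ne hle2.2 fun e => hxH ?_
      have heq := Submodule.eq_of_le_of_finrank_eq (inf_le_inf_left U hHW') e
      refine (heq ▸ ⟨hxU, ?_⟩ : u + r v ∈ U ⊓ H).2
      refine add_mem (hHW' ⟨hu, ?_⟩) ⟨v, hv, rfl⟩
      show polar Q a u = 0
      rw [polar_comm]; exact h
  omega

/-- The sign `(-1)^(codimension of the intersection)`. -/
noncomputable def paritySign (U W : Submodule F V) : F :=
  (-1) ^ (finrank F U - finrank F ↥(U ⊓ W))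

theorem paritySign_self (U : Submodule F V) : paritySign U U = 1 := by
  rw [paritySign, inf_idem, Nat.sub_self, pow_zero]

theorem paritySign_mul_self (U W : Submodule F V) : paritySign U W * paritySign U W = 1 := by
  rw [paritySign, ← mul_pow, neg_mul_neg, one_mul, one_pow]

theorem paritySign_comm (h : finrank F U = finrank F W) : paritySign U W = paritySign W U := by
  rw [paritySign, paritySign, h, inf_comm]

theorem paritySign_map (g : V ≃ₗ[F] V) :
    paritySign (U.map g.toLinearMap) (W.map g.toLinearMap) = paritySign U W := by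
  rw [paritySign, paritySign, ← Submodule.map_inf _ g.injective, LinearEquiv.finrank_map_eq,
    LinearEquiv.finrank_map_eq]

theorem map_map_orth (g h : orth Q) (X : Submodule F V) :
    (X.map h.1.toLinearMap).map g.1.toLinearMap = X.map (g * h).1.toLinearMap := by
  rw [← Submodule.map_comp]; rfl

/-- Moving the second subspace by an isometry multiplies the sign by the determinant. -/
theorem paritySign_map_right (hQ : PolarND Q) (hdim : finrank F V = 2 * m)
    (hU : TotSing Q U) (hUm : finrank F U = m) (hW : TotSing Q W) (hWm : finrank F W = m)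
    {g : orth Q} (hg : g ∈ reflGroup Q) :
    paritySign U (W.map g.1.toLinearMap) = LinearMap.det g.1.toLinearMap * paritySign U W := by
  induction hg using Subgroup.closure_induction'' generalizing W with
  | one =>
      rw [show (1 : orth Q).1.toLinearMap = LinearMap.id from rfl, Submodule.map_id,
        LinearMap.det_id, one_mul]
  | mem x hx =>
      obtain ⟨a, rfl⟩ := hx
      by_cases ha : Q a = 0
      · rw [show rf Q a = 1 from orth_ext fun x => by simp [rf_apply, ha],
          show (1 : orth Q).1.toLinearMap = LinearMap.id from rfl, Submodule.map_id,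
          LinearMap.det_id, one_mul]
      rw [det_rf ha, neg_one_mul, paritySign, paritySign, hUm]
      have h1 : finrank F ↥(U ⊓ W) ≤ m := hUm ▸ Submodule.finrank_mono inf_le_left
      have h2 : finrank F ↥(U ⊓ W.map (rf Q a).1.toLinearMap) ≤ m :=
        hUm ▸ Submodule.finrank_mono inf_le_left
      rcases finrank_inf_map_rf hQ hdim hU hUm hW hWm ha with e | e
      · rw [show m - finrank F ↥(U ⊓ W.map (rf Q a).1.toLinearMap) =
          m - finrank F ↥(U ⊓ W) + 1 by omega, pow_succ, mul_neg_one]
      · rw [show m - finrank F ↥(U ⊓ W) =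
          m - finrank F ↥(U ⊓ W.map (rf Q a).1.toLinearMap) + 1 by omega, pow_succ,
          mul_neg_one, neg_neg]
  | inv_mem x hx =>
      obtain ⟨a, rfl⟩ := hx
      rw [rf_inv]
      by_cases ha : Q a = 0
      · rw [show rf Q a = 1 from orth_ext fun x => by simp [rf_apply, ha],
          show (1 : orth Q).1.toLinearMap = LinearMap.id from rfl, Submodule.map_id,
          LinearMap.det_id, one_mul]
      rw [det_rf ha, neg_one_mul, paritySign, paritySign, hUm]
      have h1 : finrank F ↥(U ⊓ W) ≤ m := hUm ▸ Submodule.finrank_mono inf_le_left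
      have h2 : finrank F ↥(U ⊓ W.map (rf Q a).1.toLinearMap) ≤ m :=
        hUm ▸ Submodule.finrank_mono inf_le_left
      rcases finrank_inf_map_rf hQ hdim hU hUm hW hWm ha with e | e
      · rw [show m - finrank F ↥(U ⊓ W.map (rf Q a).1.toLinearMap) =
          m - finrank F ↥(U ⊓ W) + 1 by omega, pow_succ, mul_neg_one]
      · rw [show m - finrank F ↥(U ⊓ W) =
          m - finrank F ↥(U ⊓ W.map (rf Q a).1.toLinearMap) + 1 by omega, pow_succ,
          mul_neg_one, neg_neg]
  | mul x y _ _ hx hy =>
      rw [← map_map_orth, hx (hW.map y) (by rw [LinearEquiv.finrank_map_eq]; exact hWm),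
        hy hW hWm, ← mul_assoc, ← LinearMap.det_comp]
      rfl

/-- Any two half-dimensional totally singular subspaces differ by a product of reflections. -/
theorem exists_map_eq (hQ : PolarND Q) (hdim : finrank F V = 2 * m)
    (hU : TotSing Q U) (hUm : finrank F U = m) (hW : TotSing Q W) (hWm : finrank F W = m) :
    ∃ h ∈ reflGroup Q, W.map h.1.toLinearMap = U := by
  suffices ∀ d, ∀ W : Submodule F V, TotSing Q W → finrank F W = m →
      m ≤ finrank F ↥(U ⊓ W) + d → ∃ h ∈ reflGroup Q, W.map h.1.toLinearMap = U from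
    this m W hW hWm (Nat.le_add_left _ _)
  intro d
  induction d with
  | zero =>
      intro W hW hWm hle
      have h1 : U ⊓ W = W := Submodule.eq_of_le_of_finrank_le inf_le_right (by omega)
      have h2 : W = U := Submodule.eq_of_le_of_finrank_eq (inf_eq_right.1 h1) (hWm.trans hUm.symm)
      exact ⟨1, one_mem _, by rw [← h2]; exact Submodule.map_id _⟩
  | succ d ih =>
      intro W hW hWm hle
      by_cases heq : W = U
      · exact ⟨1, one_mem _, by rw [heq]; exact Submodule.map_id _⟩
      have hperp : LinearMap.BilinForm.orthogonal (polarBilin Q) W = W := by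
        refine (Submodule.eq_of_le_of_finrank_eq hW.le_orthogonal ?_).symm
        rw [finrank_perp hQ]; omega
      obtain ⟨u, hu, hu'⟩ : ∃ u ∈ U, u ∉ W := SetLike.not_le_iff_exists.1 fun hle' =>
        heq (Submodule.eq_of_le_of_finrank_eq hle' (hUm.trans hWm.symm)).symm
      rw [← hperp] at hu'
      obtain ⟨w, hw, hne⟩ : ∃ w ∈ W, polar Q w u ≠ 0 := by
        by_contra hc
        push_neg at hc
        exact hu' fun w hw => hc w hw
      have hQa : Q (w - u) = -polar Q w u := by
        rw [sub_eq_add_neg, form_add, QuadraticMap.map_neg, polar_neg_right, hW w hw, hU u hu]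
        ring
      have hrw : (rf Q (w - u)).1 w = u :=
        rf_sub_apply ((hW w hw).trans (hU u hu).symm) (by rw [hQa]; exact neg_ne_zero.2 hne)
      have hfix : ∀ x ∈ U ⊓ W, (rf Q (w - u)).1 x = x := fun x hx => rf_apply_of_polar (by
        rw [polar_sub_left, hW.polar_eq_zero hw hx.2, hU.polar_eq_zero hu hx.1, sub_zero])
      set W' := W.map (rf Q (w - u)).1.toLinearMap with hW'
      have hlt : U ⊓ W < U ⊓ W' := by
        refine lt_of_le_of_ne (fun x hx => ⟨hx.1, ⟨x, hx.2, hfix x hx⟩⟩) fun e => ?_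
        have : u ∈ U ⊓ W := e ▸ ⟨hu, ⟨w, hw, hrw⟩⟩
        exact hu' (hperp.symm ▸ this.2)
      have := Submodule.finrank_lt_finrank_of_lt hlt
      obtain ⟨h, hh, he⟩ := ih W' (hW.map _)
        (by rw [hW', LinearEquiv.finrank_map_eq]; exact hWm) (by omega)
      refine ⟨h * rf Q (w - u), mul_mem hh (Subgroup.subset_closure ⟨_, rfl⟩), ?_⟩
      rw [← map_map_orth]; exact he

/-- `g h g⁻¹` for a similarity `g` and an isometry `h`. -/
def simConj (g : V ≃ₗ[F] V) {c : F} (hg : ∀ x, Q (g x) = c * Q x) (h : orth Q) : orth Q :=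
  ⟨g.symm.trans (h.1.trans g), fun x => by
    show Q (g (h.1 (g.symm x))) = Q x
    rw [hg, map_form, ← hg, g.apply_symm_apply]⟩

theorem simConj_apply (g : V ≃ₗ[F] V) {c : F} (hg : ∀ x, Q (g x) = c * Q x) (h : orth Q) (x : V) :
    (simConj g hg h).1 (g x) = g (h.1 x) := by
  show g (h.1 (g.symm (g x))) = _
  rw [g.symm_apply_apply]

theorem simConj_mul (g : V ≃ₗ[F] V) {c : F} (hg : ∀ x, Q (g x) = c * Q x) (h k : orth Q) :
    simConj g hg (h * k) = simConj g hg h * simConj g hg k := by
  refine orth_ext fun x => ?_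
  show g (h.1 (k.1 (g.symm x))) = g (h.1 (g.symm (g (k.1 (g.symm x)))))
  rw [g.symm_apply_apply]

theorem simConj_rf (g : V ≃ₗ[F] V) {c : F} (hg : ∀ x, Q (g x) = c * Q x) (hc : c ≠ 0) (a : V) :
    simConj g hg (rf Q a) = rf Q (g a) := by
  refine orth_ext fun x => ?_
  obtain ⟨y, rfl⟩ := g.surjective x
  rw [simConj_apply, rf_apply, rf_apply, map_sub, map_smul, hg,
    show polar Q (g a) (g y) = c * polar Q a y by
      simp only [polar, ← map_add, hg]; ring]
  congr 2
  rw [mul_inv]
  field_simp

theorem simConj_mem_reflGroup (g : V ≃ₗ[F] V) {c : F} (hg : ∀ x, Q (g x) = c * Q x) (hc : c ≠ 0)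
    {h : orth Q} (hh : h ∈ reflGroup Q) : simConj g hg h ∈ reflGroup Q := by
  induction hh using Subgroup.closure_induction'' with
  | one =>
      have : simConj g hg (1 : orth Q) = 1 := orth_ext fun x => g.apply_symm_apply x
      rw [this]; exact one_mem _
  | mem x hx =>
      obtain ⟨a, rfl⟩ := hx
      rw [simConj_rf g hg hc]; exact Subgroup.subset_closure ⟨_, rfl⟩
  | inv_mem x hx =>
      obtain ⟨a, rfl⟩ := hx
      rw [rf_inv, simConj_rf g hg hc]; exact Subgroup.subset_closure ⟨_, rfl⟩
  | mul x y _ _ hx hy => rw [simConj_mul]; exact mul_mem hx hy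

theorem det_simConj (g : V ≃ₗ[F] V) {c : F} (hg : ∀ x, Q (g x) = c * Q x) (h : orth Q) :
    LinearMap.det (simConj g hg h).1.toLinearMap = LinearMap.det h.1.toLinearMap :=
  LinearMap.det_conj h.1.toLinearMap g

theorem det_mul_self_of_mem {h : orth Q} (hh : h ∈ reflGroup Q) :
    LinearMap.det h.1.toLinearMap * LinearMap.det h.1.toLinearMap = 1 := by
  induction hh using Subgroup.closure_induction'' with
  | one => rw [show (1 : orth Q).1.toLinearMap = LinearMap.id from rfl, LinearMap.det_id, one_mul]
  | mem x hx =>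
      obtain ⟨a, rfl⟩ := hx
      by_cases ha : Q a = 0
      · rw [show rf Q a = 1 from orth_ext fun x => by simp [rf_apply, ha],
          show (1 : orth Q).1.toLinearMap = LinearMap.id from rfl, LinearMap.det_id, one_mul]
      · rw [det_rf ha]; ring
  | inv_mem x hx =>
      obtain ⟨a, rfl⟩ := hx
      rw [rf_inv]
      by_cases ha : Q a = 0
      · rw [show rf Q a = 1 from orth_ext fun x => by simp [rf_apply, ha],
          show (1 : orth Q).1.toLinearMap = LinearMap.id from rfl, LinearMap.det_id, one_mul]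
      · rw [det_rf ha]; ring
  | mul x y _ _ hx hy =>
      rw [show (x * y).1.toLinearMap = x.1.toLinearMap ∘ₗ y.1.toLinearMap from rfl,
        LinearMap.det_comp, mul_mul_mul_comm, hx, hy, one_mul]

/-- The sign of `(U, g U)` does not depend on `U`. -/
theorem paritySign_similarity (hQ : PolarND Q) (hdim : finrank F V = 2 * m)
    (g : V ≃ₗ[F] V) {c : F} (hg : ∀ x, Q (g x) = c * Q x) (hc : c ≠ 0)
    (hU : TotSing Q U) (hUm : finrank F U = m) (hW : TotSing Q W) (hWm : finrank F W = m) :
    paritySign W (W.map g.toLinearMap) = paritySign U (U.map g.toLinearMap) := by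
  obtain ⟨h, hh, he⟩ := exists_map_eq hQ hdim hW hWm hU hUm
  have hgU : TotSing Q (U.map g.toLinearMap) := by
    rintro _ ⟨x, hx, rfl⟩
    rw [LinearEquiv.coe_coe, hg, hU x hx, mul_zero]
  have hgUm : finrank F ↥(U.map g.toLinearMap) = m := by
    rw [LinearEquiv.finrank_map_eq]; exact hUm
  have e1 : W.map g.toLinearMap = (U.map g.toLinearMap).map (simConj g hg h).1.toLinearMap := by
    rw [← he, ← Submodule.map_comp, ← Submodule.map_comp]
    congr 1
    exact LinearMap.ext fun x => (simConj_apply g hg h x).symm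
  rw [e1, paritySign_map_right hQ hdim hW hWm hgU hgUm (simConj_mem_reflGroup g hg hc hh),
    det_simConj, paritySign_comm (hWm.trans hgUm.symm), ← he,
    paritySign_map_right hQ hdim hgU hgUm hU hUm hh, ← mul_assoc, det_mul_self_of_mem hh, one_mul,
    paritySign_comm (hgUm.trans hUm.symm)]

/-- The sign of `(U, g U)` is `det g / c^m`, given one dilation that fixes a subspace `U₀`. -/
theorem paritySign_similarity_eq (hQ : PolarND Q) (hdim : finrank F V = 2 * m)
    (hgen : reflGroup Q = ⊤)
    {U₀ : Submodule F V} (hU₀ : TotSing Q U₀) (hU₀m : finrank F U₀ = m)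
    (g : V ≃ₗ[F] V) {c : F} (hg : ∀ x, Q (g x) = c * Q x) (hc : c ≠ 0)
    (δ : V ≃ₗ[F] V) (hδ : ∀ x, Q (δ x) = c * Q x) (hδU : U₀.map δ.toLinearMap = U₀)
    (hδd : LinearMap.det δ.toLinearMap = c ^ m)
    (hU : TotSing Q U) (hUm : finrank F U = m) :
    paritySign U (U.map g.toLinearMap) * c ^ m = LinearMap.det g.toLinearMap := by
  rw [paritySign_similarity hQ hdim g hg hc hU₀ hU₀m hU hUm]
  let h : orth Q := ⟨δ.symm.trans g, fun x => by
    show Q (g (δ.symm x)) = Q x
    rw [hg, ← hδ, δ.apply_symm_apply]⟩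
  have e1 : g.toLinearMap = h.1.toLinearMap ∘ₗ δ.toLinearMap := LinearMap.ext fun x => by
    show g x = g (δ.symm (δ x))
    rw [δ.symm_apply_apply]
  rw [e1, Submodule.map_comp, hδU, paritySign_map_right hQ hdim hU₀ hU₀m hU₀ hU₀m
    (g := h) (hgen ▸ Subgroup.mem_top h), paritySign_self, mul_one, LinearMap.det_comp, hδd]

end Cfsg.Agent.UnitaryOrthogonal
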