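/-
Tools for identifying `G' / Z(G')` with a known central quotient.
-/
import Cfsg.Agent.Lib.LinearGroup.Generation

set_option autoImplicit false

namespace Cfsg.Agent.UnitaryOrthogonal

open scoped commutatorElement

variable {K G : Type*} [Group K] [Group G]

/-- If `f` has image the derived group and only central elements commute modulo its kernel, then
`G' / Z(G') ≅ K / Z(K)`. -/
theorem nonempty_commutator_quotient_of_hom (f : K →* G) (hrange : f.range = commutator G)
    (hker : f.ker ≤ Subgroup.center K)
    (hcent : ∀ x, (∀ y, ⁅x, y⁆ ∈ f.ker) → x ∈ Subgroup.center K) :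
    Nonempty (↥(commutator G) ⧸ Subgroup.center ↥(commutator G) ≃* K ⧸ Subgroup.center K) := by
  let f' : K →* commutator G := f.codRestrict _ fun x => hrange ▸ ⟨x, rfl⟩
  have hs : Function.Surjective f' := fun y => by
    obtain ⟨x, hx⟩ : (y : G) ∈ f.range := hrange.symm ▸ y.2
    exact ⟨x, Subtype.ext hx⟩
  let π := (QuotientGroup.mk' (Subgroup.center ↥(commutator G))).comp f'
  have hπ : π.ker = Subgroup.center K := by
    ext x
    rw [MonoidHom.mem_ker, MonoidHom.comp_apply, QuotientGroup.mk'_apply,
      QuotientGroup.eq_one_iff]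
    constructor
    · intro hx
      refine hcent x fun y => ?_
      rw [MonoidHom.mem_ker, map_commutatorElement, commutatorElement_eq_one_iff_mul_comm]
      exact congrArg Subtype.val (Subgroup.mem_center_iff.1 hx (f' y)).symm
    · intro hx
      refine Subgroup.mem_center_iff.2 fun z => ?_
      obtain ⟨y, rfl⟩ := hs z
      rw [← map_mul, ← map_mul, Subgroup.mem_center_iff.1 hx y]
  exact ⟨((QuotientGroup.quotientMulEquivOfEq hπ.symm).trans
    (QuotientGroup.quotientKerEquivOfSurjective π
      ((QuotientGroup.mk'_surjective _).comp hs))).symm⟩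

/-- For perfect groups, commuting modulo a central subgroup means central. -/
theorem mem_center_of_commutator_mem (hperf : commutator K = ⊤) {N : Subgroup K}
    (hN : N ≤ Subgroup.center K) {x : K} (h : ∀ y, ⁅x, y⁆ ∈ N) : x ∈ Subgroup.center K := by
  let φ : K →* Subgroup.center K :=
    { toFun := fun y => ⟨⁅x, y⁆, hN (h y)⟩
      map_one' := Subtype.ext (commutatorElement_one_right x)
      map_mul' := fun y z => Subtype.ext (by
        show ⁅x, y * z⁆ = ⁅x, y⁆ * ⁅x, z⁆
        have hc := Subgroup.mem_center_iff.1 (hN (h z)) y
        calc ⁅x, y * z⁆ = ⁅x, y⁆ * (y * ⁅x, z⁆ * y⁻¹) := by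
              simp only [commutatorElement_def]; group
          _ = ⁅x, y⁆ * ⁅x, z⁆ := by rw [hc, mul_inv_cancel_right]) }
  have hφ : ∀ y, φ y = 1 := fun y => by
    letI : CommGroup (Subgroup.center K) :=
      { (inferInstance : Group (Subgroup.center K)) with
        mul_comm := fun a b => Subtype.ext (Subgroup.mem_center_iff.1 b.2 a) }
    exact Abelianization.commutator_subset_ker φ (hperf ▸ Subgroup.mem_top y)
  refine Subgroup.mem_center_iff.2 fun y => ?_
  have := congrArg Subtype.val (hφ y)
  exact (commutatorElement_eq_one_iff_mul_comm.1 this).symm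

/-- The kernel of a nontrivial map from a perfect central extension of a simple group is central. -/
theorem ker_le_center_of_ne_one (hperf : commutator K = ⊤)
    [IsSimpleGroup (K ⧸ Subgroup.center K)] {f : K →* G} (hf : f ≠ 1) :
    f.ker ≤ Subgroup.center K := by
  have hn : (f.ker.map (QuotientGroup.mk' (Subgroup.center K))).Normal :=
    (inferInstance : f.ker.Normal).map _ (QuotientGroup.mk'_surjective _)
  rcases hn.eq_bot_or_eq_top with h | h
  · rwa [Subgroup.map_eq_bot_iff, QuotientGroup.ker_mk'] at h
  · refine absurd ?_ hf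
    refine MonoidHom.ext fun y => ?_
    have hle : commutator K ≤ f.ker := by
      rw [commutator_def, Subgroup.commutator_le]
      intro a _ b _
      obtain ⟨n, hn, hna⟩ : QuotientGroup.mk' (Subgroup.center K) a ∈
          f.ker.map (QuotientGroup.mk' _) := h ▸ Subgroup.mem_top _
      obtain ⟨z, hz, hza⟩ : ∃ z ∈ Subgroup.center K, a = n * z :=
        ⟨n⁻¹ * a, QuotientGroup.eq.1 hna, (mul_inv_cancel_left n a).symm⟩
      rw [MonoidHom.mem_ker, map_commutatorElement, hza, map_mul, MonoidHom.mem_ker.1 hn, one_mul,
        ← map_commutatorElement]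
      rw [show ⁅z, b⁆ = 1 from commutatorElement_eq_one_iff_mul_comm.2
        (Subgroup.mem_center_iff.1 hz b).symm, map_one]
    exact MonoidHom.mem_ker.1 (hle (hperf ▸ Subgroup.mem_top y))

/-- A perfect central extension of a simple group, mapped nontrivially into a group whose
`G' / Z(G')` has the same order. -/
theorem nonempty_commutator_quotient_of_perfect [Finite K] [Finite G] (hperf : commutator K = ⊤)
    [IsSimpleGroup (K ⧸ Subgroup.center K)] (f : K →* G) (hf : f ≠ 1)
    [IsSimpleGroup (↥(commutator G) ⧸ Subgroup.center ↥(commutator G))]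
    (hcard : Nat.card (↥(commutator G) ⧸ Subgroup.center ↥(commutator G)) ≤
      Nat.card (K ⧸ Subgroup.center K)) :
    Nonempty (↥(commutator G) ⧸ Subgroup.center ↥(commutator G) ≃* K ⧸ Subgroup.center K) := by
  have hle : f.range ≤ commutator G := by
    rw [MonoidHom.range_eq_map, ← hperf, commutator_def, commutator_def,
      Subgroup.map_commutator]
    exact Subgroup.commutator_mono le_top le_top
  let f' : K →* commutator G := f.codRestrict _ fun x => hle ⟨x, rfl⟩
  let π := (QuotientGroup.mk' (Subgroup.center ↥(commutator G))).comp f'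
  have hπ : π ≠ 1 := by
    intro h
    -- the image would be abelian
    refine hf (MonoidHom.ext fun y => ?_)
    have hle' : commutator K ≤ f'.ker := by
      rw [commutator_def, Subgroup.commutator_le]
      intro a _ b _
      have ha : f' a ∈ Subgroup.center ↥(commutator G) :=
        (QuotientGroup.eq_one_iff _).1 (DFunLike.congr_fun h a)
      rw [MonoidHom.mem_ker, map_commutatorElement, commutatorElement_eq_one_iff_mul_comm]
      exact (Subgroup.mem_center_iff.1 ha (f' b)).symm
    exact congrArg Subtype.val (MonoidHom.mem_ker.1 (hle' (hperf ▸ Subgroup.mem_top y)))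
  have hk : π.ker ≤ Subgroup.center K := ker_le_center_of_ne_one hperf hπ
  -- `K / ker π` injects, and is at least as big as `K / Z(K)`
  have h1 : Nat.card π.range ≤ Nat.card (↥(commutator G) ⧸ Subgroup.center ↥(commutator G)) :=
    Subgroup.card_le_card_group _
  have h2 : π.ker.index = Nat.card π.range := Subgroup.index_ker π
  have h3 : (Subgroup.center K).index ≤ π.ker.index :=
    Nat.le_of_dvd (Nat.pos_of_ne_zero Subgroup.index_ne_zero_of_finite) (Subgroup.index_dvd_of_le hk)
  rw [Subgroup.index_eq_card] at h3
  have heq : π.ker = Subgroup.center K := by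
    refine le_antisymm hk ?_
    have : π.ker.relIndex (Subgroup.center K) * (Subgroup.center K).index = π.ker.index :=
      Subgroup.relIndex_mul_index hk
    rw [Subgroup.index_eq_card] at this
    have hpos := Nat.card_pos (α := K ⧸ Subgroup.center K)
    have : π.ker.relIndex (Subgroup.center K) = 1 := by
      refine Nat.eq_of_mul_eq_mul_right hpos ?_
      rw [this, one_mul]
      omega
    exact Subgroup.relIndex_eq_one.1 this
  have hsurj : Function.Surjective π := by
    refine MonoidHom.range_eq_top.1 (Subgroup.eq_top_of_card_eq _ ?_)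
    omega
  exact ⟨((QuotientGroup.quotientMulEquivOfEq heq.symm).trans
    (QuotientGroup.quotientKerEquivOfSurjective π hsurj)).symm⟩

/-- A map out of `SL₂` lands in the derived group if transvection parameters can be rescaled by an
inner automorphism. -/
theorem range_le_commutator_of_rescale {F : Type*} [Field F] {n : ℕ}
    (φ : Matrix.SpecialLinearGroup (Fin n) F →* G)
    (h : ∀ (i j : Fin n) (hij : i ≠ j), ∃ (d : G) (c : F), c ≠ 1 ∧ ∀ x : F,
      d * φ (Matrix.SpecialLinearGroup.transvection hij x) * d⁻¹ =
        φ (Matrix.SpecialLinearGroup.transvection hij (c * x))) :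
    φ.range ≤ commutator G := by
  have := LinearGroup.eq_top_of_transvection_mem (H := (commutator G).comap φ) fun i j hij x => by
    obtain ⟨d, c, hc, hd⟩ := h i j hij
    obtain ⟨y, hy⟩ : ∃ y, y = x / (c - 1) := ⟨_, rfl⟩
    have e : φ (Matrix.SpecialLinearGroup.transvection hij x) =
        ⁅d, φ (Matrix.SpecialLinearGroup.transvection hij y)⁆ := by
      rw [commutatorElement_def, hd, ← map_inv, Matrix.SpecialLinearGroup.transvection_inv,
        ← map_mul, ← Matrix.SpecialLinearGroup.transvection_add, hy]
      congr 2
      have : c - 1 ≠ 0 := sub_ne_zero.2 hc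
      field_simp
      ring
    rw [Subgroup.mem_comap, e, commutator_def]
    exact Subgroup.commutator_mem_commutator (Subgroup.mem_top _) (Subgroup.mem_top _)
  rintro _ ⟨x, rfl⟩
  exact Subgroup.mem_comap.1 (this ▸ Subgroup.mem_top x)

end Cfsg.Agent.UnitaryOrthogonal
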