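/-
Common tools for orthogonal groups of dimension three and four.
-/
import Cfsg.Agent.Lib.UnitaryOrthogonal.OmegaStandard
import Cfsg.Agent.Lib.UnitaryOrthogonal.IsoTools
import Cfsg.Agent.Lib.Reflections.OddIndex
import Cfsg.Agent.Lib.LinearGroup.Simple
import Cfsg.Agent.Lib.LinearGroup.Card
import Cfsg.Agent.Lib.LinearGroup.SmallPSL

set_option autoImplicit false

namespace Cfsg.Agent.UnitaryOrthogonal

open QuadraticMap
open scoped commutatorElement

section card

/-- A subgroup of the derived group of complementary order to a lower bound on its index is it. -/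
theorem eq_commutator_of_card {G : Type*} [Group G] [Finite G] {R : Subgroup G}
    (hle : R ≤ commutator G) {d : ℕ} (hidx : d ≤ (commutator G).index)
    (hcard : d * Nat.card R = Nat.card G) : R = commutator G := by
  refine Subgroup.eq_of_le_of_card_ge hle ?_
  have h := Subgroup.index_mul_card (commutator G)
  have hd : 0 < d := Nat.pos_of_ne_zero fun e => by
    rw [e, zero_mul] at hcard
    exact Nat.card_pos.ne' hcard.symm
  refine Nat.le_of_mul_le_mul_left ?_ hd
  rw [hcard, ← h]
  exact Nat.mul_le_mul_right _ hidx

theorem commutator_index_congr {G H : Type*} [Group G] [Group H] (φ : G ≃* H) :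
    (commutator G).index = (commutator H).index := by
  have hmap : (commutator G).map φ.toMonoidHom = commutator H := by
    rw [commutator_def, Subgroup.map_commutator, Subgroup.map_top_of_surjective _ φ.surjective,
      commutator_def]
  rw [← hmap]
  exact (Subgroup.index_map_equiv _ φ).symm

end card

section generation

variable {F W : Type*} [Field F] [AddCommGroup W] [Module F W] {M : QuadraticForm F W}

/-- Reflections generate `O(H ⊥ M)` if singular vectors of `M` split into nonsingular ones. -/
theorem reflGroup_hyp_eq_top (hN : Nonsing M) (h : elemGroup M = ⊤)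
    (hdec : ∀ w, M w = 0 → ∃ z, M z ≠ 0 ∧ M (w - z) ≠ 0) : reflGroup (hyp M) = ⊤ := by
  have hns : ∀ w, M w ≠ 0 → eich (hyp M) (eVec F W) (inW w) ∈ reflGroup (hyp M) := fun w hw => by
    rw [eich_eq_rf_mul_rf hyp_eVec (polar_eVec_inW w) (by rwa [hyp_inW])]
    exact mul_mem (rf_mem_reflGroup _) (rf_mem_reflGroup _)
  have hall : ∀ w, eich (hyp M) (eVec F W) (inW w) ∈ reflGroup (hyp M) := fun w => by
    by_cases hw : M w = 0
    · obtain ⟨z, hz, hwz⟩ := hdec w hw
      have e : inW (F := F) w = inW z + inW (w - z) := by rw [← map_add]; congr 1; abel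
      rw [e, ← eich_mul hyp_eVec (polar_eVec_inW z) (polar_eVec_inW (w - z))]
      exact mul_mem (hns z hz) (hns _ hwz)
    · exact hns w hw
  have hle : eichGroup (hyp M) ≤ reflGroup (hyp M) := by
    rw [eichGroup, Subgroup.closure_le]
    rintro _ ⟨u, z, hu, hz, rfl⟩
    by_cases hu0 : u = 0
    · rw [show eich (hyp M) u z = 1 from orth_ext fun x => by rw [eich_apply hu hz, hu0]; simp]
      exact one_mem _
    · obtain ⟨g, hg, hge⟩ := exists_refl_map_singular hN.hyp hyp_eVec eVec_ne_zero hu hu0
      obtain ⟨y, hy⟩ : ∃ y, y = g⁻¹.1 z := ⟨_, rfl⟩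
      have hgy : g.1 y = z := by rw [hy, coe_apply_inv_apply]
      rw [← hgy, ← hge, map_polar, polar_eVec] at hz
      have hd : y = inW y.2 + y.1.1 • eVec F W := by
        conv_lhs => rw [decomp y, hz]
        simp [add_comm]
      rw [← hge, ← hgy, ← conj_eich, hd, eich_add_smul hyp_eVec (polar_eVec_inW _)]
      exact mul_mem (mul_mem hg (hall _)) (inv_mem hg)
  have := elemGroup_hyp_eq_top hN h
  rwa [elemGroup, sup_of_le_left hle] at this

/-- In characteristic two, `Ω` is proper. -/
theorem two_le_index_commutator [Finite F] [Finite W] (hQ : PolarND M)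
    (hgen : reflGroup M = ⊤) {a : W} (ha : M a ≠ 0) : 2 ≤ (commutator (orth M)).index := by
  have hne : (commutator (orth M)).index ≠ 1 := fun e => by
    have := Abelianization.commutator_subset_ker (dickson hQ hgen)
      (show rf M a ∈ commutator (orth M) by rw [Subgroup.index_eq_one.1 e]; trivial)
    rw [MonoidHom.mem_ker, dickson_rf _ _ ha] at this
    exact absurd this (by decide)
  have := Subgroup.index_ne_zero_of_finite (H := commutator (orth M))
  omega

end generation

section SL2

variable {F : Type*} [Field F]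

theorem mem_center_SL_two_iff {A : Matrix.SpecialLinearGroup (Fin 2) F} :
    A ∈ Subgroup.center (Matrix.SpecialLinearGroup (Fin 2) F) ↔
      A.1 0 1 = 0 ∧ A.1 1 0 = 0 ∧ A.1 0 0 = A.1 1 1 := by
  rw [Matrix.SpecialLinearGroup.mem_center_iff]
  constructor
  · rintro ⟨r, -, hr⟩
    simp [← hr]
  · rintro ⟨h1, h2, h3⟩
    have hd := A.2
    rw [Matrix.det_fin_two, h1, h2, ← h3] at hd
    refine ⟨A.1 0 0, by rw [Fintype.card_fin]; linear_combination hd, ?_⟩
    ext i j
    fin_cases i <;> fin_cases j <;> simp [h1, h2, ← h3]

/-- An element commuting with everything up to the centre is central. -/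
theorem mem_center_SL_two_of_commutator {A : Matrix.SpecialLinearGroup (Fin 2) F}
    (h : ∀ y, ⁅A, y⁆ ∈ Subgroup.center (Matrix.SpecialLinearGroup (Fin 2) F)) :
    A ∈ Subgroup.center (Matrix.SpecialLinearGroup (Fin 2) F) := by
  have key : ∀ (i j : Fin 2) (hij : i ≠ j),
      A * Matrix.SpecialLinearGroup.transvection hij (1 : F) =
        Matrix.SpecialLinearGroup.transvection hij 1 * A := by
    intro i j hij
    have hz := h (Matrix.SpecialLinearGroup.transvection hij (1 : F))
    set T := Matrix.SpecialLinearGroup.transvection hij (1 : F) with hT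
    set Z := ⁅A, T⁆ with hZ
    obtain ⟨z1, z2, z3⟩ := mem_center_SL_two_iff.1 hz
    have e : Z * T = A * T * A⁻¹ := by rw [hZ, commutatorElement_def]; group
    have etr : (Z.1 * T.1).trace = T.1.trace := by
      rw [← Matrix.SpecialLinearGroup.coe_mul, e, Matrix.SpecialLinearGroup.coe_mul,
        Matrix.SpecialLinearGroup.coe_mul, Matrix.trace_mul_cycle,
        ← Matrix.SpecialLinearGroup.coe_mul, inv_mul_cancel, Matrix.SpecialLinearGroup.coe_one,
        one_mul]
    have hZ1 : Z.1 0 0 = 1 := by
      by_cases h2 : (2 : F) = 0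
      · have hd := Z.2
        rw [Matrix.det_fin_two, z1, z2, ← z3] at hd
        rcases mul_self_eq_one_iff.1 (show Z.1 0 0 * Z.1 0 0 = 1 by linear_combination hd) with e | e
        · exact e
        · linear_combination e - h2
      · rw [Matrix.trace_fin_two, Matrix.trace_fin_two] at etr
        simp [Matrix.mul_apply, z1, z2, ← z3, hT, Matrix.SpecialLinearGroup.transvection_coe,
          Matrix.single] at etr
        fin_cases i <;> fin_cases j <;> simp at hij etr <;>
          exact mul_right_cancel₀ h2 (by linear_combination etr)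
    have hone : Z = 1 := Subtype.ext <| by
      ext k l
      fin_cases k <;> fin_cases l <;> simp [z1, z2, ← z3, hZ1]
    exact commutatorElement_eq_one_iff_mul_comm.1 hone
  refine mem_center_SL_two_iff.2 ?_
  have k1 := congrArg (fun B : Matrix.SpecialLinearGroup (Fin 2) F => B.1)
    (key 0 1 (by decide))
  have k2 := congrArg (fun B : Matrix.SpecialLinearGroup (Fin 2) F => B.1)
    (key 1 0 (by decide))
  simp [Matrix.SpecialLinearGroup.transvection_coe, mul_add, add_mul] at k1 k2
  have a1 := congrFun (congrFun k1 0) 0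
  have a2 := congrFun (congrFun k2 0) 0
  have a3 := congrFun (congrFun k1 0) 1
  simp [Matrix.mul_apply, Fin.sum_univ_two, Matrix.single] at a1 a2 a3
  exact ⟨by simpa using a2, by simpa using a1.symm, by simpa using a3⟩

/-- Determinant preserving diagonal element `diag(c, 1)`. -/
noncomputable def diagOne (c : Fˣ) : Matrix.GeneralLinearGroup (Fin 2) F :=
  Matrix.GeneralLinearGroup.mkOfDetNeZero (Matrix.diagonal ![(c : F), 1])
    (by simp [Matrix.det_diagonal])

theorem diagOne_conj (c : Fˣ) {i j : Fin 2} (hij : i ≠ j) (x : F) :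
    diagOne c * Matrix.SpecialLinearGroup.toGL (Matrix.SpecialLinearGroup.transvection hij x) *
      (diagOne c)⁻¹ = Matrix.SpecialLinearGroup.toGL
        (Matrix.SpecialLinearGroup.transvection hij ((if i = 0 then (c : F) else (c : F)⁻¹) * x)) := by
  rw [mul_inv_eq_iff_eq_mul]
  refine Units.ext ?_
  show Matrix.diagonal _ * (Matrix.SpecialLinearGroup.transvection hij x).1 =
    (Matrix.SpecialLinearGroup.transvection hij _).1 * Matrix.diagonal _
  ext k l
  fin_cases i <;> fin_cases j <;> simp at hij <;> fin_cases k <;> fin_cases l <;>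
    simp [Matrix.SpecialLinearGroup.transvection_coe, Matrix.single, mul_add, add_mul,
      Matrix.one_apply, mul_comm, mul_left_comm]

/-- A map out of `SL₂` extending to `GL₂` lands in the derived group. -/
theorem range_le_commutator_of_GL [Finite F] (h3 : 3 ≤ Nat.card F) {G : Type*} [Group G]
    (φ : Matrix.SpecialLinearGroup (Fin 2) F →* G)
    (d : Fˣ → G) (hd : ∀ (c : Fˣ) (i j : Fin 2) (hij : i ≠ j) (x : F),
      d c * φ (Matrix.SpecialLinearGroup.transvection hij x) * (d c)⁻¹ =
        φ (Matrix.SpecialLinearGroup.transvection hij ((if i = 0 then (c : F) else (c : F)⁻¹) * x))) :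
    φ.range ≤ commutator G := by
  obtain ⟨c, hc0, hc1⟩ : ∃ c : F, c ≠ 0 ∧ c ≠ 1 := by
    classical
    cases nonempty_fintype F
    by_contra hne
    simp only [ne_eq, not_exists, not_and, not_not] at hne
    have : (Finset.univ : Finset F) ⊆ {0, 1} := fun x _ => by
      by_cases hx : x = 0
      · simp [hx]
      · simp [hne x hx]
    have := (Finset.card_le_card this).trans Finset.card_le_two
    rw [Finset.card_univ, ← Nat.card_eq_fintype_card] at this
    omega
  refine range_le_commutator_of_rescale φ fun i j hij => ⟨d (Units.mk0 c hc0), _, ?_, hd _ i j hij⟩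
  split_ifs
  · exact hc1
  · simpa using hc1

end SL2

end Cfsg.Agent.UnitaryOrthogonal
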