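/-
The Eichler group of `H ⊥ Q` is generated by the transformations at the two standard vectors.
-/
import Cfsg.Agent.Lib.UnitaryOrthogonal.Eichler
import Cfsg.Agent.Lib.UnitaryOrthogonal.Standard

set_option autoImplicit false

namespace Cfsg.Agent.UnitaryOrthogonal

open QuadraticMap

variable {F W : Type*} [Field F] [AddCommGroup W] [Module F W] {Q : QuadraticForm F W}

theorem eich_eVec_inW_apply (z : W) (v : (F × F) × W) :
    (eich (hyp Q) (eVec F W) (inW z)).1 v =
      v + v.1.2 • inW z - polar Q z v.2 • eVec F W - (Q z * v.1.2) • eVec F W := by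
  rw [eich_apply hyp_eVec (by simp [inW_apply])]
  simp [inW_apply, polar_hyp, eVec]

theorem eich_fVec_inW_apply (z : W) (v : (F × F) × W) :
    (eich (hyp Q) (fVec F W) (inW z)).1 v =
      v + v.1.1 • inW z - polar Q z v.2 • fVec F W - (Q z * v.1.1) • fVec F W := by
  rw [eich_apply hyp_fVec (by simp [inW_apply])]
  simp [inW_apply, polar_hyp, fVec]

/-- A group containing the Eichler transformations at `e` and `f` is transitive on nonzero
singular vectors. -/
theorem exists_mem_map_eVec (hQ : Nonsing Q) (hsurj : ∀ c : F, ∃ z, Q z = c)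
    {H : Subgroup (orth (hyp Q))}
    (he : ∀ z, eich (hyp Q) (eVec F W) (inW z) ∈ H)
    (hf : ∀ z, eich (hyp Q) (fVec F W) (inW z) ∈ H) {v : (F × F) × W} (hv : hyp Q v = 0)
    (hv0 : v ≠ 0) : ∃ h ∈ H, h.1 (eVec F W) = v := by
  -- a vector with second coordinate `c ≠ 0` comes from `c • f`, one with first `≠ 0` from `c • e`
  have key1 : ∀ v : (F × F) × W, hyp Q v = 0 → v.1.2 ≠ 0 →
      ∃ h ∈ H, h.1 (v.1.2 • fVec F W) = v := by
    rintro ⟨⟨α, β⟩, w⟩ hv hβ
    refine ⟨_, he (β⁻¹ • w), ?_⟩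
    simp at hv
    rw [eich_eVec_inW_apply]
    simp [fVec, eVec, inW_apply, form_smul, Prod.ext_iff, smul_smul, mul_inv_cancel₀ hβ]
    field_simp
    linear_combination -hv
  have key2 : ∀ v : (F × F) × W, hyp Q v = 0 → v.1.1 ≠ 0 →
      ∃ h ∈ H, h.1 (v.1.1 • eVec F W) = v := by
    rintro ⟨⟨α, β⟩, w⟩ hv hα
    refine ⟨_, hf (α⁻¹ • w), ?_⟩
    simp at hv
    rw [eich_fVec_inW_apply]
    simp [fVec, eVec, inW_apply, form_smul, Prod.ext_iff, smul_smul, mul_inv_cancel₀ hα]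
    field_simp
    linear_combination -hv
  have key3 : ∀ c : F, c ≠ 0 → ∃ h ∈ H, h.1 (eVec F W) = c • fVec F W := by
    intro c hc
    obtain ⟨z, hz⟩ := hsurj (-c⁻¹)
    obtain ⟨v, hv⟩ : ∃ v : (F × F) × W, v = ((1, c), c • z) := ⟨_, rfl⟩
    have hv0 : hyp Q v = 0 := by
      subst hv
      simp [form_smul, hz, hc]
    obtain ⟨h1, hh1, e1⟩ := key1 v hv0 (by rw [hv]; exact hc)
    obtain ⟨h2, hh2, e2⟩ := key2 v hv0 (by rw [hv]; exact one_ne_zero)
    refine ⟨h1⁻¹ * h2, mul_mem (inv_mem hh1) hh2, ?_⟩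
    rw [hv] at e1 e2
    simp only [one_smul] at e2
    rw [coe_mul_apply, e2, ← e1, coe_inv_apply_apply]
  have key4 : ∀ v : (F × F) × W, hyp Q v = 0 → v.1.2 ≠ 0 → ∃ h ∈ H, h.1 (eVec F W) = v := by
    intro v hv hb
    obtain ⟨h1, hh1, e1⟩ := key1 v hv hb
    obtain ⟨h3, hh3, e3⟩ := key3 _ hb
    exact ⟨h1 * h3, mul_mem hh1 hh3, by rw [coe_mul_apply, e3, e1]⟩
  by_cases hb : v.1.2 = 0
  swap
  · exact key4 v hv hb
  by_cases hw : v.2 = 0
  · obtain ⟨⟨α, β⟩, w⟩ := v
    simp only at hb hw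
    subst hb hw
    have hα : α ≠ 0 := fun e => hv0 (by simp [e])
    obtain ⟨z, hz⟩ := hsurj 1
    -- move `α e` off the hyperplane `v.1.2 = 0`
    obtain ⟨g, hg, hgv⟩ : ∃ g ∈ H, g.1 ((α, (0 : F)), (0 : W)) = ((α, -α), α • z) := by
      refine ⟨_, hf z, ?_⟩
      rw [eich_fVec_inW_apply]
      simp [fVec, inW_apply, hz, Prod.ext_iff]
    obtain ⟨h, hh, he'⟩ := key4 _ (show hyp Q ((α, -α), α • z) = 0 by
      simp [form_smul, hz]) (neg_ne_zero.2 hα)
    exact ⟨g⁻¹ * h, mul_mem (inv_mem hg) hh, by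
      rw [coe_mul_apply, he', ← hgv, coe_inv_apply_apply]⟩
  · obtain ⟨z, hz⟩ : ∃ z, polar Q z v.2 ≠ 0 := by
      by_contra hc
      simp only [ne_eq, not_exists, not_not] at hc
      exact hw (hQ v.2 (by simpa [hb] using hv) fun x => by rw [polar_comm]; exact hc x)
    obtain ⟨a, ha⟩ : ∃ a, a = (eich (hyp Q) (fVec F W) (inW z)).1 v := ⟨_, rfl⟩
    by_cases hα : v.1.1 = 0
    · have hab : a.1.2 ≠ 0 := by
        rw [ha, eich_fVec_inW_apply]
        simp [fVec, inW_apply, hb, hα, hz]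
      obtain ⟨h, hh, he'⟩ := key4 a (by rw [ha, map_form]; exact hv) hab
      exact ⟨(eich (hyp Q) (fVec F W) (inW z))⁻¹ * h, mul_mem (inv_mem (hf z)) hh, by
        rw [coe_mul_apply, he', ha, coe_inv_apply_apply]⟩
    · obtain ⟨h2, hh2, e2⟩ := key2 v hv hα
      obtain ⟨t, ht⟩ := hsurj 1
      obtain ⟨g, hg, hgv⟩ : ∃ g ∈ H, g.1 (v.1.1 • eVec F W) =
          ((v.1.1, -v.1.1), v.1.1 • t) := by
        refine ⟨_, hf t, ?_⟩
        rw [eich_fVec_inW_apply]
        simp [eVec, fVec, inW_apply, ht, Prod.ext_iff]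
      obtain ⟨h, hh, he'⟩ := key4 _ (show hyp Q ((v.1.1, -v.1.1), v.1.1 • t) = 0 by
        simp [form_smul, ht]) (neg_ne_zero.2 hα)
      exact ⟨h2 * (g⁻¹ * h), mul_mem hh2 (mul_mem (inv_mem hg) hh), by
        rw [coe_mul_apply, coe_mul_apply, he', ← hgv, coe_inv_apply_apply, e2]⟩

/-- The Eichler transformations at `e` and at `f` generate the Eichler group of `H ⊥ Q` when
`Q` represents every scalar. -/
theorem eichGroup_hyp_le (hQ : Nonsing Q) (hsurj : ∀ c : F, ∃ z, Q z = c)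
    {H : Subgroup (orth (hyp Q))}
    (he : ∀ z, eich (hyp Q) (eVec F W) (inW z) ∈ H)
    (hf : ∀ z, eich (hyp Q) (fVec F W) (inW z) ∈ H) : eichGroup (hyp Q) ≤ H := by
  have key5 : ∀ v : (F × F) × W, hyp Q v = 0 → v ≠ 0 → ∃ h ∈ H, h.1 (eVec F W) = v :=
    fun v h h0 => exists_mem_map_eVec hQ hsurj he hf h h0
  rw [eichGroup, Subgroup.closure_le]
  rintro _ ⟨u, z, hu, hz, rfl⟩
  by_cases hu0 : u = 0
  · have : eich (hyp Q) u z = 1 := orth_ext fun x => by
      rw [eich_apply hu hz, hu0]; simp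
    rw [this]; exact one_mem H
  · obtain ⟨h, hh, hhe⟩ := key5 u hu hu0
    obtain ⟨y, hy⟩ : ∃ y, y = h⁻¹.1 z := ⟨_, rfl⟩
    have hgy : h.1 y = z := by rw [hy, coe_apply_inv_apply]
    have hy2 : y.1.2 = 0 := by
      rw [← hgy, ← hhe, map_polar, polar_eVec] at hz
      exact hz
    have hd : y = inW y.2 + y.1.1 • eVec F W := by
      simp [Prod.ext_iff, inW_apply, eVec, hy2]
    have e : eich (hyp Q) u z = h * eich (hyp Q) (eVec F W) (inW y.2) * h⁻¹ := by
      rw [conj_eich, hhe]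
      conv_lhs => rw [← hgy, hd, map_add, map_smul, hhe]
      rw [eich_add_smul hu]
      rw [← hhe, map_polar]
      simp [inW_apply]
    rw [e]
    exact mul_mem (mul_mem hh (he _)) (inv_mem hh)

/-- An isometry carries the Eichler group onto the Eichler group. -/
theorem mem_eichGroup_congr {V V' : Type*} [AddCommGroup V] [Module F V] [AddCommGroup V']
    [Module F V'] {P : QuadraticForm F V} {P' : QuadraticForm F V'} (e : P.IsometryEquiv P')
    {g : orth P} (hg : g ∈ eichGroup P) : orthCongr e g ∈ eichGroup P' := by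
  unfold eichGroup at hg
  induction hg using Subgroup.closure_induction with
  | mem x hx =>
      obtain ⟨u, z, -, -, rfl⟩ := hx
      rw [orthCongr_eich]
      exact eich_mem_eichGroup _ _
  | one => simp
  | mul x y _ _ hx hy => rw [map_mul]; exact mul_mem hx hy
  | inv x _ hx => rw [map_inv]; exact inv_mem hx

theorem eichGroup_map {V V' : Type*} [AddCommGroup V] [Module F V] [AddCommGroup V']
    [Module F V'] {P : QuadraticForm F V} {P' : QuadraticForm F V'} (e : P.IsometryEquiv P') :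
    (eichGroup P).map (orthCongr e).toMonoidHom = eichGroup P' := by
  refine le_antisymm ?_ ?_
  · rintro _ ⟨g, hg, rfl⟩
    exact mem_eichGroup_congr e hg
  · intro g hg
    refine ⟨orthCongr e.symm g, mem_eichGroup_congr e.symm hg, orth_ext fun x => ?_⟩
    simp [orthCongr]

end Cfsg.Agent.UnitaryOrthogonal
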