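/-
The adjoint lattice of an orthogonal group: matrices modulo symmetric matrices killed by the
bilinear matrix of the form, restricted to the kernel of the polar form. Integer tables give the
action of an isometry `g` as `(j, k) ↦ ⟨C j, g (Bas k) gᵀ⟩`.
-/
import Mathlib

set_option autoImplicit false

namespace Cfsg.Agent.UnitaryOrthogonal.Adjoint

open Matrix

/-- Integer matrices as lists of entries. -/
abbrev Entries (ι : Type) := List (ι × ι × ℤ)

variable {ι : Type} [Fintype ι] [DecidableEq ι] {R : Type*} [CommRing R]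

/-- The matrix of a list. -/
def toMat (L : Entries ι) : Matrix ι ι R :=
  (L.map fun e => Matrix.single e.1 e.2.1 (e.2.2 : R)).sum

/-- An entry of the matrix of a list. -/
def cE (L : Entries ι) (a b : ι) : ℤ :=
  ((L.filter fun e => decide (e.1 = a) && decide (e.2.1 = b)).map fun e => e.2.2).sum

/-- The pairing with a list. -/
def ev (L : Entries ι) (M : Matrix ι ι R) : R :=
  (L.map fun e => (e.2.2 : R) * M e.1 e.2.1).sum

/-- Product of lists. -/
def mulE (A B : Entries ι) : Entries ι :=
  A.flatMap fun a => (B.filter fun b => decide (a.2.1 = b.1)).map fun b =>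
    (a.1, b.2.1, a.2.2 * b.2.2)

/-- Transpose of a list. -/
def trE (A : Entries ι) : Entries ι := A.map fun e => (e.2.1, e.1, e.2.2)

/-- Pairing of two lists. -/
def evE (L M : Entries ι) : ℤ := (L.map fun e => e.2.2 * cE M e.1 e.2.1).sum

omit [Fintype ι] in
theorem toMat_apply (L : Entries ι) (a b : ι) : (toMat L : Matrix ι ι R) a b = (cE L a b : R) := by
  induction L with
  | nil => simp [toMat, cE]
  | cons e L ih =>
    rw [toMat, List.map_cons, List.sum_cons, Matrix.add_apply]
    show Matrix.single e.1 e.2.1 (e.2.2 : R) a b + (toMat L : Matrix ι ι R) a b = _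
    rw [ih, cE, cE, List.filter_cons]
    by_cases h : e.1 = a ∧ e.2.1 = b
    · simp [h.1, h.2]
    · rw [Matrix.single_apply, if_neg h, if_neg (by simpa using h)]
      simp

omit [Fintype ι] in
theorem toMat_append (A B : Entries ι) :
    (toMat (A ++ B) : Matrix ι ι R) = toMat A + toMat B := by
  simp [toMat]

omit [Fintype ι] in
theorem toMat_trE (A : Entries ι) : (toMat (trE A) : Matrix ι ι R) = (toMat A)ᵀ := by
  induction A with
  | nil => simp [toMat, trE]
  | cons a A ih =>
    simp only [toMat, trE, List.map_cons, List.sum_cons, Matrix.transpose_add,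
      Matrix.transpose_single] at ih ⊢
    rw [ih]

theorem toMat_mulE (A B : Entries ι) : (toMat (mulE A B) : Matrix ι ι R) = toMat A * toMat B := by
  induction A with
  | nil => simp [toMat, mulE]
  | cons a A ih =>
    rw [mulE, List.flatMap_cons, ← mulE, toMat_append, ih]
    conv_rhs => rw [toMat, List.map_cons, List.sum_cons, add_mul]
    congr 1
    clear ih
    induction B with
    | nil => simp [toMat]
    | cons b B ihB =>
      rw [List.filter_cons]
      conv_rhs => rw [toMat, List.map_cons, List.sum_cons, mul_add]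
      by_cases h : a.2.1 = b.1
      · rw [if_pos (by simpa using h), List.map_cons, toMat, List.map_cons, List.sum_cons]
        congr 1
        · rw [h, Matrix.single_mul_single_same]; push_cast; rfl
      · rw [if_neg (by simpa using h), ihB,
          Matrix.single_mul_single_of_ne _ _ _ _ h, zero_add]
        rfl

theorem ev_eq_sum (L : Entries ι) (M : Matrix ι ι R) :
    ev L M = ∑ a, ∑ b, (cE L a b : R) * M a b := by
  induction L with
  | nil => simp [ev, cE]
  | cons e L ih =>
    rw [ev, List.map_cons, List.sum_cons, ← ev, ih]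
    have : ∀ a b, (cE (e :: L) a b : R) =
        (if e.1 = a ∧ e.2.1 = b then (e.2.2 : R) else 0) + cE L a b := by
      intro a b
      rw [cE, cE, List.filter_cons]
      by_cases h : e.1 = a ∧ e.2.1 = b
      · simp [h.1, h.2]
      · rw [if_neg (by simpa using h), if_neg h, zero_add]
    simp only [this, add_mul, Finset.sum_add_distrib, ite_and, ite_mul, zero_mul,
      Finset.sum_ite_eq, Finset.mem_univ, if_true]
    congr 1
    rw [Finset.sum_eq_single e.1] <;> simp +contextual [eq_comm]

theorem ev_eq_trace (L : Entries ι) (M : Matrix ι ι R) :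
    ev L M = ((toMat L : Matrix ι ι R)ᵀ * M).trace := by
  rw [ev_eq_sum, Matrix.trace, Finset.sum_comm]
  exact Finset.sum_congr rfl fun b _ => by
    rw [Matrix.diag_apply, Matrix.mul_apply]
    exact Finset.sum_congr rfl fun a _ => by rw [Matrix.transpose_apply, toMat_apply]

omit [Fintype ι] in
theorem ev_toMat (L M : Entries ι) : ev L (toMat M : Matrix ι ι R) = (evE L M : R) := by
  induction L with
  | nil => simp [ev, evE]
  | cons e L ih =>
    rw [ev, List.map_cons, List.sum_cons, ← ev, ih, toMat_apply, evE, evE, List.map_cons,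
      List.sum_cons]
    push_cast
    ring

/-- Alternating: antisymmetric with zero diagonal. -/
def IsAlt (A : Matrix ι ι R) : Prop := (∀ a b, A b a = - A a b) ∧ ∀ a, A a a = 0

theorem IsAlt.trace_mul {A D : Matrix ι ι R} (hA : IsAlt A) (hD : Dᵀ = D) :
    (Aᵀ * D).trace = 0 := by
  let o := Fintype.equivFin ι
  let U : Matrix ι ι R := Matrix.of fun a b => if o a < o b then A a b else 0
  have hU : A = U - Uᵀ := by
    ext a b
    rcases lt_trichotomy (o a) (o b) with h | h | h
    · simp [U, h, h.asymm]
    · obtain rfl := o.injective h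
      simp [hA.2]
    · simp [U, h, h.asymm, hA.1 b a]
  rw [hU, Matrix.transpose_sub, Matrix.transpose_transpose, Matrix.sub_mul, Matrix.trace_sub,
    sub_eq_zero, ← Matrix.trace_transpose, Matrix.transpose_mul, Matrix.transpose_transpose, hD,
    Matrix.trace_mul_comm]

omit [DecidableEq ι] in
theorem IsAlt.add_transpose {A : Matrix ι ι R} (hA : IsAlt A) : A + Aᵀ = 0 := by
  ext a b
  simp [hA.1 a b]

/-- Matrices that send the bilinear matrix to itself up to an alternating one. -/
def IsIso (q : Entries ι) (g : Matrix ι ι R) : Prop :=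
  IsAlt (gᵀ * toMat q * g - toMat q)

/-- A matrix preserving `x ↦ xᵀ q x` satisfies `IsIso`. -/
theorem isIso_of_forall {q : Entries ι} {g : Matrix ι ι R}
    (h : ∀ x, (g *ᵥ x) ⬝ᵥ ((toMat q : Matrix ι ι R) *ᵥ (g *ᵥ x)) =
      x ⬝ᵥ ((toMat q : Matrix ι ι R) *ᵥ x)) : IsIso q g := by
  have key : ∀ x, x ⬝ᵥ ((gᵀ * toMat q * g - toMat q) *ᵥ x) = 0 := fun x => by
    rw [Matrix.sub_mulVec, dotProduct_sub, ← Matrix.mulVec_mulVec, ← Matrix.mulVec_mulVec,
      Matrix.dotProduct_mulVec, Matrix.vecMul_transpose, h, sub_self]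
  generalize hA : gᵀ * toMat q * g - toMat q = A at key
  have hd : ∀ a, A a a = 0 := fun a => by
    have := key (Pi.single a 1)
    simpa [Matrix.mulVec_single, single_dotProduct] using this
  refine ⟨fun a b => ?_, fun a => ?_⟩
  · rw [hA]
    have := key (Pi.single a 1 + Pi.single b 1)
    simp [Matrix.mulVec_add, Matrix.mulVec_single, single_dotProduct, dotProduct_add,
      add_dotProduct, hd] at this
    linear_combination this
  · rw [hA]; exact hd a

/-- Integer tables for the lattice. -/
structure Tables (ι J : Type) [Fintype ι] [DecidableEq ι] [Fintype J] [DecidableEq J] where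
  /-- bilinear matrix of the form -/
  q : Entries ι
  /-- representatives -/
  Bas : J → Entries ι
  /-- coordinates -/
  C : J → Entries ι
  /-- coefficient of `q` in a coordinate -/
  kC : J → ℤ
  /-- multiples of the polar form -/
  kS : ι → ι → ℤ
  kQ : ℤ
  coord_alt : ∀ j a b, cE (C j) a b + cE (C j) b a = kC j * (cE q a b + cE q b a)
  coord_diag : ∀ j a, cE (C j) a a = kC j * cE q a a
  basis_polar : ∀ k, evE (q ++ trE q) (Bas k) = 0
  dual : ∀ j k, evE (C j) (Bas k) = if j = k then 1 else 0
  span_symm : ∀ a b x y,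
    (if a = x ∧ b = y then 1 else 0) - (if b = x ∧ a = y then 1 else 0)
      - ∑ l, cE (C l) x y * (cE (Bas l) a b - cE (Bas l) b a) = kS a b * cE (q ++ trE q) x y
  span_form : ∀ x y, cE q x y - ∑ l, cE (C l) x y * evE q (Bas l) = kQ * cE (q ++ trE q) x y

variable {J : Type} [Fintype J] [DecidableEq J] (T : Tables ι J)

/-- The matrix of an isometry on the lattice. -/
def Tables.adj (g : Matrix ι ι R) : Matrix J J R :=
  Matrix.of fun j k => ev (T.C j) (g * toMat (T.Bas k) * gᵀ)

theorem Tables.ev_coord_eq_zero (j : J) {D : Matrix ι ι R} (hD : Dᵀ = D) (hq : ev T.q D = 0) :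
    ev (T.C j) D = 0 := by
  have hA : IsAlt ((toMat (T.C j) : Matrix ι ι R) - (T.kC j : R) • toMat T.q) := by
    refine ⟨fun a b => ?_, fun a => ?_⟩
    · have h := congrArg (fun x : ℤ => (x : R)) (T.coord_alt j a b)
      simp only [Int.cast_add, Int.cast_mul] at h
      simp only [Matrix.sub_apply, Matrix.smul_apply, toMat_apply, smul_eq_mul]
      linear_combination h
    · simp [toMat_apply, T.coord_diag j a]
  have h := hA.trace_mul hD
  rw [Matrix.transpose_sub, Matrix.transpose_smul, Matrix.sub_mul, Matrix.smul_mul,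
    Matrix.trace_sub, Matrix.trace_smul, ← ev_eq_trace, ← ev_eq_trace, hq, smul_zero,
    sub_zero] at h
  exact h

theorem ev_sub (L : Entries ι) (M N : Matrix ι ι R) : ev L (M - N) = ev L M - ev L N := by
  simp [ev_eq_trace, Matrix.mul_sub]

theorem ev_smul_sum (L : Entries ι) (c : J → R) (M : J → Matrix ι ι R) :
    ev L (∑ l, c l • M l) = ∑ l, c l * ev L (M l) := by
  simp [ev_eq_trace, Matrix.mul_sum, Matrix.trace_sum]

/-- The part of a polar-null matrix outside the lattice. -/
def Tables.rest (M : Matrix ι ι R) : Matrix ι ι R :=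
  M - ∑ l, ev (T.C l) M • toMat (T.Bas l)

theorem Tables.rest_spec {M : Matrix ι ι R} (h : ev (T.q ++ trE T.q) M = 0) :
    (T.rest M)ᵀ = T.rest M ∧ ev T.q (T.rest M) = 0 := by
  rw [ev_eq_sum] at h
  constructor
  · ext b a
    rw [Matrix.transpose_apply, ← sub_eq_zero]
    have e : ∀ a b, T.rest M a b = ∑ x, ∑ y,
        (((if a = x ∧ b = y then (1 : ℤ) else 0) - ∑ l, cE (T.C l) x y * cE (T.Bas l) a b : ℤ) : R)
          * M x y := by
      intro a b
      simp only [Tables.rest, Matrix.sub_apply, Matrix.sum_apply, Matrix.smul_apply, toMat_apply,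
        smul_eq_mul, ev_eq_sum]
      push_cast
      simp only [sub_mul, Finset.sum_sub_distrib, ite_and, ite_mul, one_mul, zero_mul,
        Finset.sum_mul]
      congr 1
      · simp [Finset.sum_ite_irrel, Finset.sum_ite_eq]
      · rw [Finset.sum_comm]
        refine Finset.sum_congr rfl fun x _ => ?_
        rw [Finset.sum_comm]
        exact Finset.sum_congr rfl fun y _ => Finset.sum_congr rfl fun l _ => by ring
    rw [e, e, ← Finset.sum_sub_distrib]
    calc _ = ∑ x, (T.kS a b : R) * ∑ y, (cE (T.q ++ trE T.q) x y : R) * M x y := by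
          refine Finset.sum_congr rfl fun x _ => ?_
          rw [← Finset.sum_sub_distrib, Finset.mul_sum]
          refine Finset.sum_congr rfl fun y _ => ?_
          rw [← sub_mul, ← mul_assoc, ← Int.cast_mul, ← T.span_symm a b x y, ← Int.cast_sub]
          congr 2
          simp only [mul_sub, Finset.sum_sub_distrib]
          ring
      _ = 0 := by rw [← Finset.mul_sum, h, mul_zero]
  · rw [Tables.rest, ev_sub, ev_smul_sum, ev_eq_sum T.q M]
    simp only [ev_toMat, ev_eq_sum (T.C _), Finset.sum_mul]
    rw [Finset.sum_comm (f := fun l x => ∑ y, _), ← Finset.sum_sub_distrib]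
    calc _ = ∑ x, (T.kQ : R) * ∑ y, (cE (T.q ++ trE T.q) x y : R) * M x y := by
          refine Finset.sum_congr rfl fun x _ => ?_
          rw [Finset.sum_comm, ← Finset.sum_sub_distrib, Finset.mul_sum]
          refine Finset.sum_congr rfl fun y _ => ?_
          rw [← mul_assoc, ← Int.cast_mul, ← T.span_form x y]
          push_cast
          rw [sub_mul, Finset.sum_mul]
          congr 1
          exact Finset.sum_congr rfl fun l _ => by ring
      _ = 0 := by rw [← Finset.mul_sum, h, mul_zero]

theorem IsIso.ev_polar {q : Entries ι} {g : Matrix ι ι R} (hg : IsIso q g) (M : Matrix ι ι R) :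
    ev (q ++ trE q) (g * M * gᵀ) = ev (q ++ trE q) M := by
  have h := hg.add_transpose
  simp only [Matrix.transpose_sub, Matrix.transpose_mul, Matrix.transpose_transpose] at h
  rw [ev_eq_trace, ev_eq_trace, toMat_append, toMat_trE, Matrix.transpose_add,
    Matrix.transpose_transpose, ← mul_assoc, Matrix.trace_mul_cycle, ← mul_assoc]
  congr 2
  rw [Matrix.mul_add, Matrix.add_mul, ← sub_eq_zero, ← h]
  simp only [mul_assoc]
  abel

theorem IsIso.ev_form {q : Entries ι} {g : Matrix ι ι R} (hg : IsIso q g) {D : Matrix ι ι R}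
    (hD : Dᵀ = D) : ev q (g * D * gᵀ) = ev q D := by
  have h := hg.trace_mul hD
  simp only [Matrix.transpose_sub, Matrix.transpose_mul, Matrix.transpose_transpose,
    Matrix.sub_mul, Matrix.trace_sub, sub_eq_zero] at h
  rw [ev_eq_trace, ev_eq_trace, ← h, ← mul_assoc, Matrix.trace_mul_cycle]
  simp only [mul_assoc]

theorem Tables.adj_mul {g h : Matrix ι ι R} (hg : IsIso T.q g) (hh : IsIso T.q h) :
    T.adj g * T.adj h = T.adj (g * h) := by
  ext j k
  rw [Matrix.mul_apply]
  simp only [Tables.adj, Matrix.of_apply]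
  obtain ⟨M, hM⟩ : ∃ M, M = h * toMat (T.Bas k) * hᵀ := ⟨_, rfl⟩
  have hp : ev (T.q ++ trE T.q) M = 0 := by
    rw [hM, hh.ev_polar, ev_toMat, T.basis_polar, Int.cast_zero]
  obtain ⟨h1, h2⟩ := T.rest_spec hp
  have h3 : ev (T.C j) (g * T.rest M * gᵀ) = 0 := by
    refine T.ev_coord_eq_zero j ?_ ((hg.ev_form h1).trans h2)
    rw [Matrix.transpose_mul, Matrix.transpose_mul, Matrix.transpose_transpose, h1, mul_assoc]
  rw [Tables.rest, Matrix.mul_sub, Matrix.sub_mul, ev_sub, sub_eq_zero, Matrix.mul_sum,
    Matrix.sum_mul] at h3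
  simp only [Matrix.mul_smul, Matrix.smul_mul] at h3
  rw [ev_smul_sum] at h3
  calc _ = ∑ l, ev (T.C l) M * ev (T.C j) (g * toMat (T.Bas l) * gᵀ) :=
        Finset.sum_congr rfl fun l _ => by rw [hM, mul_comm]
    _ = ev (T.C j) (g * M * gᵀ) := h3.symm
    _ = _ := by rw [hM, Matrix.transpose_mul]; simp only [mul_assoc]

theorem Tables.adj_one : T.adj (1 : Matrix ι ι R) = 1 := by
  ext j k
  simp only [Tables.adj, Matrix.of_apply, Matrix.transpose_one, one_mul, mul_one, ev_toMat,
    T.dual, Matrix.one_apply]
  split_ifs <;> simp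

theorem Tables.adj_smul_one (c : R) : T.adj (c • (1 : Matrix ι ι R)) = (c * c) • 1 := by
  rw [← T.adj_one (R := R)]
  ext j k
  simp [Tables.adj, ev_eq_trace, smul_smul]

/-- The adjoint matrix of `1 + t N`. -/
theorem Tables.adj_one_add (N : Entries ι) (t : R) (j k : J) :
    T.adj (1 + t • (toMat N : Matrix ι ι R)) j k = (evE (T.C j) (T.Bas k) : R)
      + t * (evE (T.C j) (mulE N (T.Bas k) ++ mulE (T.Bas k) (trE N)) : R)
      + t ^ 2 * (evE (T.C j) (mulE (mulE N (T.Bas k)) (trE N)) : R) := by
  simp only [← ev_toMat, toMat_append, toMat_mulE, toMat_trE, Tables.adj, Matrix.of_apply]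
  simp only [ev_eq_trace, Matrix.transpose_add, Matrix.transpose_one, Matrix.transpose_smul,
    Matrix.add_mul, Matrix.mul_add, one_mul, mul_one, Matrix.smul_mul, Matrix.mul_smul,
    Matrix.trace_add, Matrix.trace_smul, smul_eq_mul, smul_add, smul_smul]
  ring

end Cfsg.Agent.UnitaryOrthogonal.Adjoint
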