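/-
`D₄(F) ≅ PΩ₈⁺(F)`: the tables of the adjoint lattice and their finite checks.
-/
import Cfsg.Prelude.Def_ChevD4
import Cfsg.Agent.Lib.UnitaryOrthogonal.AdjointModel

set_option autoImplicit false

namespace Cfsg.Agent.UnitaryOrthogonal.Adjoint

open Matrix Cfsg.Lie

section xMat

variable {F : Type*} [Field F]

/-- The coefficient of `t ^ i` in an entry of `xMat`. -/
def xCoef (D : ChevalleyDatum) (r : Fin D.nroots) (row col : D.Idx) (i : ℕ) : ℤ :=
  match col with
  | Sum.inl p =>
    (match row with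
     | Sum.inl p' => if p' = p ∧ i = 0 then 1 else 0
     | Sum.inr u => if u = r ∧ i = 1 then -((D.cartanSR.getD p.val #[]).getD r.val 0) else 0)
  | Sum.inr s =>
    if s = r then
      (match row with | Sum.inr u => if u = r ∧ i = 0 then 1 else 0 | Sum.inl _ => 0)
    else if s.val = D.negIdx.getD r.val 0 then
      (match row with
       | Sum.inl p => if i = 1 then (D.coroot.getD r.val #[]).getD p.val 0 else 0
       | Sum.inr u => if u = s then (if i = 0 then 1 else 0) else
          if u = r ∧ i = 2 then -1 else 0)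
    else
      (match row with
       | Sum.inl _ => 0
       | Sum.inr u => (if u = s ∧ i = 0 then 1 else 0) +
          (((D.chainCoeff r.val s.val u.val).filter fun km => decide (km.1 = i)).map (·.2)).sum)

/-- A list of monomials of degree below three as a polynomial. -/
theorem sum_monomials (L : List (ℕ × ℤ)) (h : L.all (fun km => decide (km.1 < 3)) = true) (t : F) :
    (L.map fun km => ((km.2 : ℤ) : F) * t ^ km.1).sum = ∑ i ∈ Finset.range 3,
      ((((L.filter fun km => decide (km.1 = i)).map (·.2)).sum : ℤ) : F) * t ^ i := by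
  induction L with
  | nil => simp
  | cons e L ih =>
    simp only [List.all_cons, Bool.and_eq_true, decide_eq_true_eq] at h
    rw [List.map_cons, List.sum_cons, ih h.2]
    have : e.1 = 0 ∨ e.1 = 1 ∨ e.1 = 2 := by omega
    rcases this with e1 | e1 | e1 <;>
      simp [List.filter_cons, e1, Finset.sum_range_succ] <;> ring

theorem xMat_eq_coef (D : ChevalleyDatum) (r : Fin D.nroots) (row col : D.Idx)
    (hd : ∀ s u : Fin D.nroots,
      (D.chainCoeff r.val s.val u.val).all (fun km => decide (km.1 < 3)) = true) (t : F) :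
    D.xMat F r t row col = (xCoef D r row col 0 : F) + t * (xCoef D r row col 1 : F)
      + t ^ 2 * (xCoef D r row col 2 : F) := by
  rcases col with p | s <;> rcases row with p' | u <;>
    simp only [ChevalleyDatum.xMat, Matrix.of_apply, xCoef]
  · split_ifs <;> simp_all
  · split_ifs <;> simp_all <;> ring
  · split_ifs <;> simp_all <;> ring
  · rw [sum_monomials _ (hd s u)]
    split_ifs <;> simp_all [Finset.sum_range_succ] <;> ring

end xMat

/-- Indices of the hyperbolic basis. -/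
abbrev I4 : Type := Fin 4 ⊕ Fin 4

/-- A basis pair and a sign for each root of `D₄`. -/
def d4Pairs : List (I4 × I4 × ℤ) :=
  [(.inr 0, .inr 1, -1),
  (.inr 0, .inr 2, -1),
  (.inl 3, .inr 0, 1),
  (.inr 0, .inr 3, -1),
  (.inl 2, .inr 0, -1),
  (.inl 1, .inr 0, 1),
  (.inr 1, .inr 2, 1),
  (.inl 3, .inr 1, -1),
  (.inr 1, .inr 3, 1),
  (.inl 2, .inr 1, 1),
  (.inl 3, .inr 2, 1),
  (.inr 2, .inr 3, -1),
  (.inl 2, .inl 3, 1),
  (.inl 2, .inr 3, 1),
  (.inl 1, .inr 2, 1),
  (.inl 1, .inl 3, -1),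
  (.inl 1, .inr 3, -1),
  (.inl 1, .inl 2, -1),
  (.inl 0, .inr 1, 1),
  (.inl 0, .inr 2, -1),
  (.inl 0, .inl 3, 1),
  (.inl 0, .inr 3, 1),
  (.inl 0, .inl 2, 1),
  (.inl 0, .inl 1, 1)]

/-- The pair of a root. -/
def d4Pair (r : Fin chevD4.nroots) : I4 × I4 × ℤ := d4Pairs.getD r.val (.inl 0, .inl 0, 0)

/-- Bilinear matrix of `∑ xᵢ yᵢ`. -/
def d4q : Entries I4 := (List.finRange 4).map fun i => (.inl i, .inr i, 1)

/-- Representatives. -/
def d4Bas : chevD4.Idx → Entries I4
  | .inl i => [[(.inl 0, .inr 0, 1), (.inl 1, .inr 1, -1)], [(.inl 1, .inr 1, 1), (.inl 2, .inr 2, -1)],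
      [(.inl 2, .inr 2, 1), (.inl 3, .inr 3, -1)],
      [(.inl 2, .inr 2, 1), (.inr 3, .inl 3, -1)]].getD i.val []
  | .inr r => [d4Pair r]

/-- Coordinates. -/
def d4C : chevD4.Idx → Entries I4
  | .inl i => [[(.inl 0, .inr 0, 1), (.inr 0, .inl 0, -1)],
      [(.inl 0, .inr 0, 1), (.inr 0, .inl 0, -1), (.inl 1, .inr 1, 1), (.inr 1, .inl 1, -1)],
      [(.inl 0, .inr 0, 1), (.inl 1, .inr 1, 1), (.inl 2, .inr 2, 1), (.inr 3, .inl 3, 1)],
      [(.inl 0, .inr 0, 1), (.inl 1, .inr 1, 1), (.inl 2, .inr 2, 1), (.inl 3, .inr 3, 1)]].getD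
        i.val []
  | .inr r => [d4Pair r, ((d4Pair r).2.1, (d4Pair r).1, -(d4Pair r).2.2)]

/-- Infinitesimal root element. -/
def d4N (r : Fin chevD4.nroots) : Entries I4 :=
  [((d4Pair r).2.1, (d4Pair r).1.swap, -(d4Pair r).2.2),
   ((d4Pair r).1, (d4Pair r).2.1.swap, (d4Pair r).2.2)]

/-- A coefficient of the span condition. -/
def d4Span (a b x y : I4) : ℤ :=
  (if a = x ∧ b = y then 1 else 0) - (if b = x ∧ a = y then 1 else 0)
    - ∑ l, cE (d4C l) x y * (cE (d4Bas l) a b - cE (d4Bas l) b a)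

/-- The tables of `D₄`. -/
def d4Tables : Tables I4 chevD4.Idx where
  q := d4q
  Bas := d4Bas
  C := d4C
  kC
    | .inl i => [0, 0, 1, 1].getD i.val 0
    | .inr _ => 0
  kS a b := d4Span a b (.inr 3) (.inl 3)
  kQ := cE d4q (.inr 3) (.inl 3) - ∑ l, cE (d4C l) (.inr 3) (.inl 3) * evE d4q (d4Bas l)
  coord_alt := by decide +kernel
  coord_diag := by decide +kernel
  basis_polar := by decide +kernel
  dual := by decide +kernel
  span_symm := by decide +kernel
  span_form := by decide +kernel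

theorem d4_chain_deg : ∀ r s u : Fin chevD4.nroots,
    (chevD4.chainCoeff r.val s.val u.val).all (fun km => decide (km.1 < 3)) = true := by
  decide +kernel

theorem d4_root_coef : ∀ (r : Fin chevD4.nroots) (a b : chevD4.Idx),
    xCoef chevD4 r a b 0 = evE (d4C a) (d4Bas b) ∧
    xCoef chevD4 r a b 1 = evE (d4C a) (mulE (d4N r) (d4Bas b) ++ mulE (d4Bas b) (trE (d4N r))) ∧
    xCoef chevD4 r a b 2 = evE (d4C a) (mulE (mulE (d4N r) (d4Bas b)) (trE (d4N r))) := by
  decide +kernel

/-- The adjoint matrix of a root element is the Chevalley root element. -/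
theorem d4_adj_root {F : Type*} [Field F] (r : Fin chevD4.nroots) (t : F) :
    d4Tables.adj (1 + t • (toMat (d4N r) : Matrix I4 I4 F)) = chevD4.xMat F r t := by
  ext a b
  rw [Tables.adj_one_add, xMat_eq_coef _ _ _ _ (d4_chain_deg r), (d4_root_coef r a b).1,
    (d4_root_coef r a b).2.1, (d4_root_coef r a b).2.2]
  rfl

end Cfsg.Agent.UnitaryOrthogonal.Adjoint
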