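/-
`D₄(F) ≅ PΩ₈⁺(F)` over every field.
-/
import Cfsg.Agent.Lib.UnitaryOrthogonal.AdjointD4
import Cfsg.Agent.Lib.UnitaryOrthogonal.HypGenerate
import Cfsg.Agent.Lib.UnitaryOrthogonal.OmegaStandard

set_option autoImplicit false

namespace Cfsg.Agent.UnitaryOrthogonal.Adjoint

open Matrix Cfsg.Lie QuadraticMap

variable {F : Type*} [Field F]

/-- The root element at `t = 1` over the integers. -/
def d4X (r : Fin chevD4.nroots) : Matrix chevD4.Idx chevD4.Idx ℤ :=
  Matrix.of fun a b => xCoef chevD4 r a b 0 + xCoef chevD4 r a b 1 + xCoef chevD4 r a b 2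

theorem xMat_one_eq (r : Fin chevD4.nroots) :
    chevD4.xMat F r 1 = (d4X r).map (Int.cast : ℤ → F) := by
  ext a b
  rw [xMat_eq_coef _ _ _ _ (d4_chain_deg r), Matrix.map_apply]
  simp [d4X]

theorem d4_noncomm : ∃ a b,
    (d4X ⟨18, by decide⟩ * d4X ⟨5, by decide⟩) a b -
      (d4X ⟨5, by decide⟩ * d4X ⟨18, by decide⟩) a b = 1 ∨
    (d4X ⟨18, by decide⟩ * d4X ⟨5, by decide⟩) a b -
      (d4X ⟨5, by decide⟩ * d4X ⟨18, by decide⟩) a b = -1 := by
  decide +kernel

/-- The isometry group as linear maps of `I4 → F`. -/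
noncomputable abbrev plusLin : Cfsg.isometryGroup F (Cfsg.quadFormPlus 4 F) ≃* orth (qPlus 4 F) :=
  isometryGroupEquiv (qPlus 4 F) (qPlus_apply 4)

theorem polar_qPlus_single (i : I4) (v : I4 → F) :
    polar (qPlus 4 F) (Pi.single i 1) v = v i.swap := by
  simp only [polar, qPlus_apply, Cfsg.quadFormPlus, Fin.sum_univ_four, Pi.add_apply]
  rcases i with i | i <;> fin_cases i <;> simp <;> ring

theorem qPlus_single (i : I4) : qPlus 4 F (Pi.single i 1) = 0 := by
  simp only [qPlus_apply, Cfsg.quadFormPlus, Fin.sum_univ_four]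
  rcases i with i | i <;> fin_cases i <;> simp

/-- The root element `1 + t N_r` as an isometry. -/
noncomputable def d4Root (r : Fin chevD4.nroots) (t : F) :
    Cfsg.isometryGroup F (Cfsg.quadFormPlus 4 F) :=
  plusLin.symm (eich (qPlus 4 F) (Pi.single (d4Pair r).1 1)
    ((-((d4Pair r).2.2 : F) * t) • Pi.single (d4Pair r).2.1 1))

theorem d4_pair_ne : ∀ r : Fin chevD4.nroots,
    (d4Pair r).2.1 ≠ (d4Pair r).1.swap ∧ (d4Pair r).2.1 ≠ (d4Pair r).1 := by decide +kernel

theorem coe_d4Root (r : Fin chevD4.nroots) (t : F) :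
    (((d4Root r t).1 : GL I4 F) : Matrix I4 I4 F) = 1 + t • toMat (d4N r) := by
  obtain ⟨h1, h2⟩ := d4_pair_ne r
  have h3 : (d4Pair r).2.1.swap ≠ (d4Pair r).1.swap := fun e => h2 (Sum.swap_leftInverse.injective e)
  have h4 : (d4Pair r).1 ≠ (d4Pair r).2.1.swap := fun e => h1 (by rw [e, Sum.swap_swap])
  have h5 := h1.symm
  have h6 := h2.symm
  refine Matrix.ext_of_mulVec_single fun l => ?_
  rw [← isometryGroupEquiv_apply (qPlus 4 F) (qPlus_apply 4)]
  rw [show isometryGroupEquiv (qPlus 4 F) (qPlus_apply 4) (d4Root r t) =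
    eich (qPlus 4 F) (Pi.single (d4Pair r).1 1)
      ((-((d4Pair r).2.2 : F) * t) • Pi.single (d4Pair r).2.1 1) from
    plusLin.apply_symm_apply _]
  rw [eich_apply (qPlus_single _) (by
    rw [polar_smul_right, polar_qPlus_single, Pi.single_apply, if_neg h1.symm, smul_zero])]
  funext i
  simp only [Pi.add_apply, Pi.sub_apply, Pi.smul_apply, polar_smul_left, polar_qPlus_single,
    form_smul, qPlus_single, Matrix.add_mulVec, Matrix.smul_mulVec, Matrix.one_mulVec,
    Matrix.mulVec_single, smul_eq_mul, d4N, toMat, List.map_cons, List.map_nil, List.sum_cons,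
    List.sum_nil, add_zero, Matrix.add_apply, Matrix.single_apply, mul_zero, zero_mul, sub_zero]
  simp only [Pi.single_apply]
  split_ifs <;> subst_vars <;> simp_all [Matrix.single_apply] <;>
    first
      | (intro e; exact absurd e.symm (by assumption))
      | ring

theorem plusLin_d4Root (r : Fin chevD4.nroots) (t : F) :
    plusLin (d4Root r t) = eich (qPlus 4 F) (Pi.single (d4Pair r).1 1)
      ((-((d4Pair r).2.2 : F) * t) • Pi.single (d4Pair r).2.1 1) :=
  plusLin.apply_symm_apply _

/-- The subgroup generated by the root elements. -/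
noncomputable def d4Gen (F : Type*) [Field F] :
    Subgroup (Cfsg.isometryGroup F (Cfsg.quadFormPlus 4 F)) :=
  Subgroup.closure {g | ∃ r t, g = d4Root r t}

theorem d4_pos : ∀ j : I4, j ≠ .inl 0 → j ≠ .inr 0 → ∀ s ∈ [(Sum.inl 0 : I4), .inr 0],
    ∃ r : Fin chevD4.nroots, ((d4Pair r).1 = s ∧ (d4Pair r).2.1 = j ∨
      (d4Pair r).2.1 = s ∧ (d4Pair r).1 = j) ∧ ((d4Pair r).2.2 = 1 ∨ (d4Pair r).2.2 = -1) := by
  decide +kernel

theorem eich_basis_mem {s j : I4} (hs : s ∈ [(Sum.inl 0 : I4), .inr 0]) (hj : j ≠ .inl 0)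
    (hj' : j ≠ .inr 0) (c : F) :
    eich (qPlus 4 F) (Pi.single s 1) (c • Pi.single j 1) ∈
      (d4Gen F).map plusLin.toMonoidHom := by
  obtain ⟨r, hr, hd⟩ := d4_pos j hj hj' s hs
  have hd2 : ((d4Pair r).2.2 : F) * ((d4Pair r).2.2 : F) = 1 := by
    rcases hd with e | e <;> simp [e]
  have hne : s ≠ j := fun e => by
    subst e; simp at hs; rcases hs with e | e <;> simp_all
  have hne' : j ≠ s.swap := fun e => by
    subst e; simp at hs; rcases hs with e | e <;> simp_all
  rcases hr with ⟨e1, e2⟩ | ⟨e1, e2⟩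
  · refine ⟨d4Root r (-((d4Pair r).2.2 : F) * c), Subgroup.subset_closure ⟨r, _, rfl⟩, ?_⟩
    show plusLin _ = _
    rw [plusLin_d4Root, e1, e2]
    congr 2
    linear_combination c * hd2
  · refine ⟨d4Root r (((d4Pair r).2.2 : F) * c), Subgroup.subset_closure ⟨r, _, rfl⟩, ?_⟩
    show plusLin _ = _
    rw [plusLin_d4Root, e1, e2, show -((d4Pair r).2.2 : F) * (((d4Pair r).2.2 : F) * c) = -c by
      linear_combination -c * hd2]
    refine orth_ext fun v => ?_
    rw [eich_apply (qPlus_single _) (by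
      rw [polar_smul_right, polar_qPlus_single, Pi.single_apply,
        if_neg (fun e => hne' (by rw [← e, Sum.swap_swap])), smul_zero]),
      eich_apply (qPlus_single _) (by
      rw [polar_smul_right, polar_qPlus_single, Pi.single_apply, if_neg hne'.symm, smul_zero])]
    simp only [polar_smul_left, polar_qPlus_single, form_smul, qPlus_single, smul_eq_mul]
    module

theorem eich_mem_d4Gen {s : I4} (hs : s ∈ [(Sum.inl 0 : I4), .inr 0]) {v : I4 → F}
    (hv : polar (qPlus 4 F) (Pi.single s 1) v = 0) :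
    eich (qPlus 4 F) (Pi.single s 1) v ∈ (d4Gen F).map plusLin.toMonoidHom := by
  classical
  let P : Set (I4 → F) := {v | polar (qPlus 4 F) (Pi.single s 1) v = 0 ∧
    eich (qPlus 4 F) (Pi.single s 1) v ∈ (d4Gen F).map plusLin.toMonoidHom}
  suffices ∀ S : Finset I4, (∑ j ∈ S, v j • Pi.single j 1 : I4 → F) ∈ P by
    have e : v = ∑ j, v j • Pi.single j (1 : F) := by
      funext i; simp [Pi.single_apply]
    have := (this Finset.univ).2
    rwa [← e] at this
  intro S
  induction S using Finset.induction with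
  | empty =>
    refine ⟨by simp, ?_⟩
    rw [Finset.sum_empty, eich_zero]
    exact one_mem _
  | insert j S hjS ih =>
    rw [Finset.sum_insert hjS]
    have hj : polar (qPlus 4 F) (Pi.single s 1) (v j • Pi.single j 1) = 0 := by
      rw [polar_smul_right, polar_qPlus_single, Pi.single_apply]
      split_ifs with e
      · rw [polar_qPlus_single] at hv
        rw [← e, hv, zero_smul]
      · rw [smul_zero]
    refine ⟨by rw [polar_add_right, hj, ih.1, add_zero], ?_⟩
    rw [← eich_mul (qPlus_single s) hj ih.1]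
    refine mul_mem ?_ ih.2
    by_cases h0 : j = s
    · subst h0
      have := eich_add_smul (Q := qPlus 4 F) (qPlus_single j) (z := 0) (by simp) (v j)
      rw [zero_add] at this
      rw [this, eich_zero]
      exact one_mem _
    by_cases h1 : j = s.swap
    · subst h1
      rw [polar_qPlus_single] at hv
      rw [hv, zero_smul, eich_zero]
      exact one_mem _
    simp at hs
    rcases hs with rfl | rfl
    · exact eich_basis_mem (by simp) h0 (by simpa using h1) _
    · exact eich_basis_mem (by simp) (by simpa using h1) h0 _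

/-- `qPlus 4 ≅ H ⊥ H³`. -/
noncomputable abbrev plusSplit :
    (qPlus 4 F).IsometryEquiv (hyp (hypSum 3 (zeroForm F))) :=
  (qPlusIso 4 F).trans (hypSumSucc (zeroForm F) 3)

theorem plusSplit_single_inl :
    plusSplit (Pi.single (Sum.inl 0) 1 : I4 → F) = eVec F _ := by
  show ((((Pi.single (Sum.inl 0) 1 : I4 → F) (Sum.inl 0), (Pi.single (Sum.inl 0) 1 : I4 → F) (Sum.inr 0)),
    ((Fin.tail fun i => (Pi.single (Sum.inl 0) 1 : I4 → F) (Sum.inl i),
      Fin.tail fun i => (Pi.single (Sum.inl 0) 1 : I4 → F) (Sum.inr i)), (0 : Fin 0 → F))) :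
        (F × F) × (((Fin 3 → F) × (Fin 3 → F)) × (Fin 0 → F))) = _
  refine Prod.ext (Prod.ext ?_ ?_) (Prod.ext (Prod.ext ?_ ?_) ?_)
  all_goals first
    | exact Subsingleton.elim _ _
    | (funext i; simp [hypSumSucc, plusCoord, eVec, Fin.tail])
    | simp [hypSumSucc, plusCoord, eVec]

theorem plusSplit_single_inr :
    plusSplit (Pi.single (Sum.inr 0) 1 : I4 → F) = fVec F _ := by
  show ((((Pi.single (Sum.inr 0) 1 : I4 → F) (Sum.inl 0), (Pi.single (Sum.inr 0) 1 : I4 → F) (Sum.inr 0)),
    ((Fin.tail fun i => (Pi.single (Sum.inr 0) 1 : I4 → F) (Sum.inl i),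
      Fin.tail fun i => (Pi.single (Sum.inr 0) 1 : I4 → F) (Sum.inr i)), (0 : Fin 0 → F))) :
        (F × F) × (((Fin 3 → F) × (Fin 3 → F)) × (Fin 0 → F))) = _
  refine Prod.ext (Prod.ext ?_ ?_) (Prod.ext (Prod.ext ?_ ?_) ?_)
  all_goals first
    | exact Subsingleton.elim _ _
    | (funext i; simp [hypSumSucc, plusCoord, fVec, Fin.tail])
    | simp [hypSumSucc, plusCoord, fVec]

theorem eichGroup_le_d4Gen :
    eichGroup (qPlus 4 F) ≤ (d4Gen F).map plusLin.toMonoidHom := by
  have hin : ∀ {s : I4}, s ∈ [(Sum.inl 0 : I4), .inr 0] → ∀ z,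
      polar (hyp (hypSum 3 (zeroForm F))) (plusSplit (Pi.single s 1)) (inW z) = 0 →
      eich (hyp (hypSum 3 (zeroForm F))) (plusSplit (Pi.single s 1)) (inW z) ∈
        ((d4Gen F).map plusLin.toMonoidHom).map (orthCongr (plusSplit (F := F))).toMonoidHom := by
    intro s hs z hz
    obtain ⟨v, hv⟩ := plusSplit.toLinearEquiv.surjective (inW z)
    refine ⟨eich (qPlus 4 F) (Pi.single s 1) v, eich_mem_d4Gen hs ?_, ?_⟩
    · rw [← polar_isometryEquiv (plusSplit (F := F))]
      exact hv.symm ▸ hz
    · show orthCongr (plusSplit (F := F)) _ = _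
      rw [orthCongr_eich]
      exact congrArg _ hv
  have h := eichGroup_hyp_le (H := ((d4Gen F).map plusLin.toMonoidHom).map
      (orthCongr (plusSplit (F := F))).toMonoidHom) (polarND_zeroForm.hypSum 3).nonsing
    (fun c => ⟨((![c, 0, 0], ![1, 0, 0]), 0), by simp [Fin.sum_univ_three, zeroForm]⟩)
    (fun z => by
      have := hin (s := Sum.inl 0) (by simp) z
      rw [plusSplit_single_inl] at this
      exact this (by simp [inW_apply]))
    (fun z => by
      have := hin (s := Sum.inr 0) (by simp) z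
      rw [plusSplit_single_inr] at this
      exact this (by simp [inW_apply]))
  rw [← eichGroup_map (plusSplit (F := F))] at h
  exact (Subgroup.map_le_map_iff_of_injective
    (f := (orthCongr (plusSplit (F := F))).toMonoidHom) (orthCongr _).injective).1 h

/-- The isometry from `plusLin` onto `H ⊥ H ⊥ H²`. -/
noncomputable abbrev plusTwo :
    (qPlus 4 F).IsometryEquiv (hyp (hyp (hypSum 2 (zeroForm F)))) :=
  (qPlusIso 4 F).trans (hypSumTwo (zeroForm F) 2)

theorem commutator_eq_d4Gen :
    commutator (Cfsg.isometryGroup F (Cfsg.quadFormPlus 4 F)) = d4Gen F := by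
  have hc := commutator_eq_eichGroup (polarND_zeroForm.hypSum 2)
    (exists_hypSum_ne_zero 2 (Or.inl (by norm_num)))
    (elemGroup_hypHyp (F := F) polarND_zeroForm reflGroup_zeroForm 2)
  have h1 : (commutator (Cfsg.isometryGroup F (Cfsg.quadFormPlus 4 F))).map plusLin.toMonoidHom =
      eichGroup (qPlus 4 F) := by
    rw [commutator_def, Subgroup.map_commutator, Subgroup.map_top_of_surjective _ plusLin.surjective,
      ← commutator_def]
    refine Subgroup.map_injective (f := (orthCongr (plusTwo (F := F))).toMonoidHom)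
      (orthCongr _).injective ?_
    show Subgroup.map (orthCongr (plusTwo (F := F))).toMonoidHom _ =
      Subgroup.map (orthCongr (plusTwo (F := F))).toMonoidHom _
    rw [eichGroup_map, commutator_def, Subgroup.map_commutator,
      Subgroup.map_top_of_surjective _ (orthCongr (plusTwo (F := F))).surjective, ← commutator_def, hc]
  refine Subgroup.map_injective (f := (plusLin (F := F)).toMonoidHom) plusLin.injective ?_
  show Subgroup.map plusLin.toMonoidHom _ = Subgroup.map plusLin.toMonoidHom _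
  rw [h1]
  refine le_antisymm eichGroup_le_d4Gen ?_
  rw [d4Gen, MonoidHom.map_closure, Subgroup.closure_le]
  rintro _ ⟨_, ⟨r, t, rfl⟩, rfl⟩
  show plusLin (d4Root r t) ∈ _
  rw [plusLin_d4Root]
  exact eich_mem_eichGroup _ _

theorem isIso_isometry (g : Cfsg.isometryGroup F (Cfsg.quadFormPlus 4 F)) :
    IsIso d4Tables.q ((g.1 : GL I4 F) : Matrix I4 I4 F) := by
  have hq : ∀ x : I4 → F, x ⬝ᵥ ((toMat d4Tables.q : Matrix I4 I4 F) *ᵥ x) =
      Cfsg.quadFormPlus 4 F x := fun x => by
    simp [d4Tables, d4q, toMat, List.finRange_succ, Matrix.add_mulVec, dotProduct_add,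
      Cfsg.quadFormPlus, Fin.sum_univ_four, Matrix.single_mulVec, dotProduct, Fintype.sum_sum_type,
      Function.update_apply]
  refine isIso_of_forall fun x => ?_
  rw [hq, hq]
  exact g.2 x 0

/-- The adjoint action of the isometry group on the lattice, as matrices. -/
noncomputable def adjMat :
    Cfsg.isometryGroup F (Cfsg.quadFormPlus 4 F) →* Matrix chevD4.Idx chevD4.Idx F where
  toFun g := d4Tables.adj ((g.1 : GL I4 F) : Matrix I4 I4 F)
  map_one' := d4Tables.adj_one
  map_mul' g h := (d4Tables.adj_mul (isIso_isometry g) (isIso_isometry h)).symm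

/-- The adjoint action. -/
noncomputable def adjHom :
    Cfsg.isometryGroup F (Cfsg.quadFormPlus 4 F) →* GL chevD4.Idx F :=
  (adjMat (F := F)).toHomUnits

theorem coe_adjHom (g : Cfsg.isometryGroup F (Cfsg.quadFormPlus 4 F)) :
    (adjHom g : Matrix chevD4.Idx chevD4.Idx F) = d4Tables.adj ((g.1 : GL I4 F) : Matrix I4 I4 F) :=
  rfl

theorem coe_adjHom_d4Root (r : Fin chevD4.nroots) (t : F) :
    (adjHom (d4Root r t) : Matrix chevD4.Idx chevD4.Idx F) = chevD4.xMat F r t := by
  rw [coe_adjHom, coe_d4Root, d4_adj_root]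

theorem map_commutator_adjHom :
    (commutator (Cfsg.isometryGroup F (Cfsg.quadFormPlus 4 F))).map adjHom = chevD4.group F := by
  rw [commutator_eq_d4Gen, d4Gen, MonoidHom.map_closure, ChevalleyDatum.group]
  congr 1
  ext g
  constructor
  · rintro ⟨_, ⟨r, t, rfl⟩, rfl⟩
    exact ⟨r, t, coe_adjHom_d4Root r t⟩
  · rintro ⟨r, t, h⟩
    exact ⟨d4Root r t, ⟨r, t, rfl⟩, Units.ext ((coe_adjHom_d4Root r t).trans h.symm)⟩

theorem chevD4_equiv :
    Nonempty (↥(chevD4.group F) ≃* Cfsg.POmega F (Cfsg.quadFormPlus 4 F)) := by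
  let G := Cfsg.isometryGroup F (Cfsg.quadFormPlus 4 F)
  have hM : PolarND (hypSum 2 (zeroForm F)) := polarND_zeroForm.hypSum 2
  have hex := exists_hypSum_ne_zero (Q := zeroForm F) 2 (Or.inl (by norm_num))
  let ψ : G ≃* orth (hyp (hyp (hypSum 2 (zeroForm F)))) := plusLin.trans (orthCongr plusTwo)
  obtain ⟨e⟩ := nonempty_commutator_quotient_congr ψ
    (commutator_eq_eichGroup hM hex (elemGroup_hypHyp polarND_zeroForm reflGroup_zeroForm 2))
  haveI := isSimpleGroup_eichGroup hM hex
  haveI hsimp : IsSimpleGroup (↥(commutator G) ⧸ Subgroup.center ↥(commutator G)) :=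
    MulEquiv.isSimpleGroup e
  have hperf : ⁅eichGroup (hyp (hyp (hypSum 2 (zeroForm F)))),
      eichGroup (hyp (hyp (hypSum 2 (zeroForm F))))⁆ = eichGroup _ := eichGroup_perfect hM hex
  have hcm := commutator_eq_eichGroup hM hex
    (elemGroup_hypHyp (F := F) polarND_zeroForm reflGroup_zeroForm 2)
  let f : ↥(commutator G) →* GL chevD4.Idx F := adjHom.comp (commutator G).subtype
  have hrange : f.range = chevD4.group F := by
    rw [MonoidHom.range_comp, Subgroup.range_subtype, map_commutator_adjHom]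
  have hmem : ∀ x : ↥(commutator G), ψ x.1 ∈ eichGroup (hyp (hyp (hypSum 2 (zeroForm F)))) :=
    fun x => by
      rw [← hcm, commutator_def, ← Subgroup.map_top_of_surjective ψ.toMonoidHom ψ.surjective,
        ← Subgroup.map_commutator, ← commutator_def]
      exact ⟨x.1, x.2, rfl⟩
  -- the kernel is the centre
  have hker : f.ker = Subgroup.center ↥(commutator G) := by
    refine le_antisymm (fun x hx => ?_) (fun x hx => ?_)
    · by_contra hxc
      have hn : (f.ker.map (QuotientGroup.mk' (Subgroup.center ↥(commutator G)))).Normal :=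
        (inferInstance : f.ker.Normal).map _ (QuotientGroup.mk'_surjective _)
      rcases hn.eq_bot_or_eq_top with h | h
      · exact hxc ((QuotientGroup.eq_one_iff _).1 ((Subgroup.eq_bot_iff_forall _).1 h _ ⟨x, hx, rfl⟩))
      -- `G' = ker · Z`, so the image is abelian
      have hab : ∀ a b : ↥(commutator G), f a * f b = f b * f a := fun a b => by
        obtain ⟨n, hn1, hn2⟩ : QuotientGroup.mk' (Subgroup.center ↥(commutator G)) a ∈
            f.ker.map (QuotientGroup.mk' _) := h ▸ Subgroup.mem_top _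
        have hz : n⁻¹ * a ∈ Subgroup.center ↥(commutator G) := QuotientGroup.eq.1 hn2
        have : f a = f (n⁻¹ * a) := by rw [map_mul, map_inv, hn1, inv_one, one_mul]
        rw [this, ← map_mul, ← map_mul, Subgroup.mem_center_iff.1 hz b]
      have hnc : ∃ r s : Fin chevD4.nroots,
          chevD4.xMat F r 1 * chevD4.xMat F s 1 ≠ chevD4.xMat F s 1 * chevD4.xMat F r 1 := by
        refine ⟨⟨18, by decide⟩, ⟨5, by decide⟩, fun he => ?_⟩
        obtain ⟨a, b, hab'⟩ := d4_noncomm
        have h2 := congrFun (congrFun he a) b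
        rw [xMat_one_eq, xMat_one_eq, ← Matrix.map_mul_intCast, ← Matrix.map_mul_intCast,
          Matrix.map_apply, Matrix.map_apply, ← sub_eq_zero, ← Int.cast_sub] at h2
        rcases hab' with e | e <;> rw [e] at h2 <;> simp at h2
      obtain ⟨r, s, hrs⟩ := hnc
      have hm : ∀ r : Fin chevD4.nroots, d4Root r (1 : F) ∈ commutator G := fun r => by
        rw [commutator_eq_d4Gen]
        exact Subgroup.subset_closure ⟨r, 1, rfl⟩
      refine hrs ?_
      have := congrArg (fun g : GL chevD4.Idx F => (g : Matrix chevD4.Idx chevD4.Idx F))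
        (hab ⟨_, hm r⟩ ⟨_, hm s⟩)
      simpa [f, coe_adjHom_d4Root] using this
    · have hx' : (⟨ψ x.1, hmem x⟩ : eichGroup (hyp (hyp (hypSum 2 (zeroForm F))))) ∈
          Subgroup.center _ := by
        refine Subgroup.mem_center_iff.2 fun y => Subtype.ext ?_
        obtain ⟨w, hw, hwy⟩ : (y : orth _) ∈ (commutator G).map ψ.toMonoidHom := by
          rw [commutator_def, Subgroup.map_commutator,
            Subgroup.map_top_of_surjective ψ.toMonoidHom ψ.surjective, ← commutator_def, hcm]
          exact y.2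
        show y.1 * ψ x.1 = ψ x.1 * y.1
        rw [← hwy]
        have := congrArg Subtype.val (Subgroup.mem_center_iff.1 hx ⟨w, hw⟩)
        simp only [Subgroup.coe_mul] at this
        show ψ w * ψ x.1 = ψ x.1 * ψ w
        rw [← map_mul, ← map_mul, this]
      obtain ⟨c, hc, hv⟩ := eq_smul_of_fixesPoints ((mem_center_eichGroup hM hex).1 hx')
      have hmat : ((x.1.1 : GL I4 F) : Matrix I4 I4 F) = c • 1 := by
        refine Matrix.ext_of_mulVec_single fun l => ?_
        rw [← isometryGroupEquiv_apply (qPlus 4 F) (qPlus_apply 4), Matrix.smul_mulVec,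
          Matrix.one_mulVec]
        refine plusTwo.toLinearEquiv.injective ?_
        have h := hv (plusTwo (Pi.single l 1 : I4 → F))
        have h' : (orthCongr (plusTwo (F := F)) (plusLin x.1)).1 (plusTwo (Pi.single l 1 : I4 → F)) =
          c • plusTwo (Pi.single l 1 : I4 → F) := h
        rw [orthCongr_apply] at h'
        rw [map_smul]
        exact h'
      refine Units.ext ?_
      show d4Tables.adj ((x.1.1 : GL I4 F) : Matrix I4 I4 F) = 1
      rw [hmat, d4Tables.adj_smul_one, hc, one_smul]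
  exact ⟨((QuotientGroup.quotientMulEquivOfEq hker.symm).trans
    ((QuotientGroup.quotientKerEquivRange f).trans (MulEquiv.subgroupCongr hrange))).symm⟩

end Cfsg.Agent.UnitaryOrthogonal.Adjoint
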