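/-
Similarities of an even-dimensional quadratic form whose square is a scalar, in odd characteristic.
-/
import Cfsg.Agent.Forms59.Transitive
import Cfsg.Agent.Forms59.Spinor
import Mathlib.Algebra.QuadraticAlgebra.Basic

set_option autoImplicit false
set_option linter.unusedSectionVars false

namespace Cfsg.Agent.UnitaryOrthogonal.GraphSim

open Matrix QuadraticMap Cfsg.Agent.Reflections
open scoped Matrix

universe u

variable {ι : Type} [Fintype ι] [DecidableEq ι] {F : Type u} [Field F] [Fintype F]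
variable {Q : QuadraticForm F (ι → F)} {k : ℕ} {M : Matrix ι ι F} {l c : F}

/-- The hypotheses: `M` is a similarity of multiplier `c` with square `l`. -/
structure Data (Q : QuadraticForm F (ι → F)) (M : Matrix ι ι F) (l c : F) : Prop where
  l0 : l ≠ 0
  c0 : c ≠ 0
  sq : M * M = l • 1
  sim : ∀ v, Q (M *ᵥ v) = c * Q v

theorem Data.mulVec_sq (D : Data Q M l c) (v : ι → F) : M *ᵥ (M *ᵥ v) = l • v := by
  rw [mulVec_mulVec, D.sq, smul_mulVec, one_mulVec]

theorem Data.polar_map (D : Data Q M l c) (x y : ι → F) :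
    polar ⇑Q (M *ᵥ x) (M *ᵥ y) = c * polar ⇑Q x y := by
  simp only [polar, ← mulVec_add, D.sim]; ring

theorem Data.c_sq (D : Data Q M l c) (hQ : Q.polarBilin.Nondegenerate) [Nonempty ι]
    (h2 : (2 : F) ≠ 0) : c = l ∨ c = -l := by
  obtain ⟨v, hv⟩ : ∃ v, Q v ≠ 0 := by
    by_contra h
    push Not at h
    obtain ⟨i⟩ := ‹Nonempty ι›
    have : (Pi.single i 1 : ι → F) = 0 := hQ.1 _ fun y => by simp [polar, h]
    exact one_ne_zero (α := F) (by simpa using congrFun this i)
  have h := D.sim (M *ᵥ v)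
  rw [D.mulVec_sq, D.sim, Reflections.map_smul'] at h
  have h' : (c - l) * (c + l) = 0 := mul_right_cancel₀ hv (by linear_combination -h)
  rcases mul_eq_zero.1 h' with h | h
  · exact Or.inl (sub_eq_zero.1 h)
  · exact Or.inr (eq_neg_of_add_eq_zero_left h)

theorem Data.polar_adj (D : Data Q M l c) (x y : ι → F) :
    l * polar ⇑Q (M *ᵥ x) y = c * polar ⇑Q x (M *ᵥ y) := by
  rw [← D.polar_map x (M *ᵥ y), D.mulVec_sq, QuadraticMap.polar_smul_right, smul_eq_mul]

open Polynomial in
theorem charpoly_mul_neg (hM : M * M = l • 1) :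
    M.charpoly * (-M).charpoly = (X ^ 2 - C l) ^ Fintype.card ι := by
  have h : charmatrix M * charmatrix (-M) = Matrix.scalar ι (X ^ 2 - C l) := by
    rw [charmatrix, charmatrix, RingHom.map_neg, sub_neg_eq_add, sub_mul, mul_add, mul_add,
      ← map_mul, ← map_mul C.mapMatrix, hM,
      (Matrix.scalar_commute (n := ι) X (fun r => Commute.all _ r) (C.mapMatrix M)).eq, map_sub,
      show C.mapMatrix (l • (1 : Matrix ι ι F)) = Matrix.scalar ι (C l) from by
        rw [Matrix.smul_one_eq_diagonal, RingHom.mapMatrix_apply, Matrix.diagonal_map (map_zero C)]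
        rfl, pow_two]
    abel
  rw [Matrix.charpoly, Matrix.charpoly, ← Matrix.det_mul, h, Matrix.scalar_apply,
    Matrix.det_diagonal, Finset.prod_const, Finset.card_univ]

open Polynomial in
theorem det_of_charpoly (hcard : Fintype.card ι = 2 * k)
    (h : M.charpoly = (X ^ 2 - C l) ^ k) : M.det = (-l) ^ k := by
  rw [Matrix.det_eq_sign_charpoly_coeff, h, coeff_zero_eq_eval_zero, eval_pow, hcard]
  simp

open Polynomial in
theorem det_eq_of_not_isSquare (hM : M * M = l • 1) (hcard : Fintype.card ι = 2 * k)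
    (hl : ¬ IsSquare l) : M.det = (-l) ^ k := by
  refine det_of_charpoly hcard ?_
  have hp : Prime (X ^ 2 - C l) := by
    refine (Polynomial.irreducible_of_degree_le_three_of_not_isRoot ?_ ?_).prime
    · rw [natDegree_X_pow_sub_C]; simp
    · intro r hr
      refine hl ⟨r, ?_⟩
      rw [IsRoot.def, eval_sub, eval_pow, eval_X, eval_C, sub_eq_zero] at hr
      rw [← hr, pow_two]
  obtain ⟨i, -, hi⟩ := (dvd_prime_pow hp _).1 (Dvd.intro _ (charpoly_mul_neg hM))
  have he := eq_of_monic_of_associated (charpoly_monic M)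
    ((monic_X_pow_sub_C l two_ne_zero).pow i) hi
  have hd := congrArg natDegree he
  rw [charpoly_natDegree_eq_dim, natDegree_pow, natDegree_X_pow_sub_C, hcard] at hd
  rw [he, show i = k by omega]

open Polynomial in
theorem Data.det_skew (D : Data Q M l c) (hQ : Q.polarBilin.Nondegenerate) (h2 : (2 : F) ≠ 0)
    (hcard : Fintype.card ι = 2 * k) (hc : c = -l) : M.det = (-l) ^ k := by
  refine det_of_charpoly hcard ?_
  set G := LinearMap.toMatrix₂' F Q.polarBilin with hG
  have hGu : IsUnit G := by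
    rw [Matrix.isUnit_iff_isUnit_det, isUnit_iff_ne_zero]
    have h := (LinearMap.separatingLeft_iff_det_ne_zero (Pi.basisFun F ι)).1 hQ.1
    rwa [LinearMap.toMatrix₂_basisFun] at h
  obtain ⟨Gu, hGu⟩ := hGu
  have hskew : ∀ x y, polar ⇑Q (M *ᵥ x) y = -polar ⇑Q x (M *ᵥ y) := fun x y =>
    mul_left_cancel₀ D.l0 (by rw [D.polar_adj, hc]; ring)
  have hT : Mᵀ * G = G * (-M) := by
    ext i j
    have h1 := LinearMap.toMatrix₂'_comp (R := F) Q.polarBilin (Matrix.toLin' M)
    have h2 := LinearMap.toMatrix₂'_compl₂ (R := F) Q.polarBilin (Matrix.toLin' M)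
    rw [LinearMap.toMatrix'_toLin'] at h1 h2
    rw [mul_neg, Matrix.neg_apply, ← h1, ← h2, LinearMap.toMatrix₂'_apply,
      LinearMap.toMatrix₂'_apply]
    simp only [LinearMap.comp_apply, LinearMap.compl₂_apply, Matrix.toLin'_apply,
      QuadraticMap.polarBilin_apply_apply]
    exact hskew _ _
  have hneg : (-M).charpoly = M.charpoly := by
    rw [← Matrix.charpoly_units_conj Gu (-M), hGu, ← hT, mul_assoc, ← hGu, ← Matrix.coe_units_inv, Gu.mul_inv, mul_one,
      Matrix.charpoly_transpose]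
  have h := charpoly_mul_neg D.sq
  rw [hneg, hcard, pow_mul, pow_right_comm, ← pow_two] at h
  rcases sq_eq_sq_iff_eq_or_eq_neg.1 h with e | e
  · exact e
  · exfalso
    have := congrArg Polynomial.leadingCoeff e
    rw [(charpoly_monic M).leadingCoeff, leadingCoeff_neg,
      ((monic_X_pow_sub_C l two_ne_zero).pow k).leadingCoeff] at this
    exact h2 (by linear_combination this)

/-- An improper similarity with scalar square is self-adjoint. -/
theorem Data.c_eq (D : Data Q M l c) (hQ : Q.polarBilin.Nondegenerate) (h2 : (2 : F) ≠ 0)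
    (hk : 0 < k) (hcard : Fintype.card ι = 2 * k) (hdet : M.det ≠ c ^ k) : c = l := by
  haveI : Nonempty ι := Fintype.card_pos_iff.1 (by omega)
  refine (D.c_sq hQ h2).resolve_right fun hc => hdet ?_
  rw [D.det_skew hQ h2 hcard hc, hc]

/-- The eigenspace of `M` for `a`. -/
def eig (M : Matrix ι ι F) (a : F) : Submodule F (ι → F) :=
  LinearMap.ker (Matrix.toLin' M - a • LinearMap.id)

theorem mem_eig {a : F} {x : ι → F} : x ∈ eig M a ↔ M *ᵥ x = a • x := by
  rw [eig, LinearMap.mem_ker, LinearMap.sub_apply, Matrix.toLin'_apply, LinearMap.smul_apply,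
    LinearMap.id_apply, sub_eq_zero]

variable {ν : F}

theorem Data.isCompl (D : Data Q M l c) (h2 : (2 : F) ≠ 0) (hν : l = ν * ν) :
    IsCompl (eig M ν) (eig M (-ν)) := by
  have hν0 : ν ≠ 0 := fun e => D.l0 (by rw [hν, e, mul_zero])
  constructor
  · rw [Submodule.disjoint_def]
    intro x hx hx'
    rw [mem_eig] at hx hx'
    have : (2 * ν) • x = 0 := by
      rw [two_mul, add_smul]
      conv_lhs => enter [1]; rw [← hx, hx']
      rw [neg_smul, neg_add_cancel]
    exact (smul_eq_zero.1 this).resolve_left (mul_ne_zero h2 hν0)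
  · rw [codisjoint_iff, eq_top_iff]
    intro x _
    refine Submodule.mem_sup.2 ⟨(2 * ν)⁻¹ • (ν • x + M *ᵥ x), ?_, (2 * ν)⁻¹ • (ν • x - M *ᵥ x), ?_, ?_⟩
    · rw [mem_eig, mulVec_smul, mulVec_add, mulVec_smul, D.mulVec_sq, hν]; module
    · rw [mem_eig, mulVec_smul, mulVec_sub, mulVec_smul, D.mulVec_sq, hν]; module
    · rw [← smul_add, show ν • x + M *ᵥ x + (ν • x - M *ᵥ x) = (2 * ν) • x by module,
        inv_smul_smul₀ (mul_ne_zero h2 hν0)]

theorem Data.eig_nondeg (D : Data Q M l c) (hQ : Q.polarBilin.Nondegenerate) (h2 : (2 : F) ≠ 0)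
    (hc : c = l) (hν : l = ν * ν) :
    eig M ν ⊓ LinearMap.BilinForm.orthogonal (QuadraticMap.polarBilin Q) (eig M ν) = ⊥ := by
  have hν0 : ν ≠ 0 := fun e => D.l0 (by rw [hν, e, mul_zero])
  rw [eq_bot_iff]
  rintro x ⟨hx, hperp⟩
  refine (Submodule.mem_bot F).2 (hQ.2 x fun y => ?_)
  obtain ⟨p, hp, q, hq, rfl⟩ := Submodule.mem_sup.1
    ((D.isCompl h2 hν).sup_eq_top ▸ Submodule.mem_top : y ∈ eig M ν ⊔ eig M (-ν))
  show polar ⇑Q (p + q) x = 0
  rw [polar_add_left, show polar ⇑Q p x = 0 from hperp p hp, zero_add]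
  have h := D.polar_adj q x
  rw [mem_eig.1 hq, mem_eig.1 hx, polar_smul_left, polar_smul_right, smul_eq_mul, smul_eq_mul, hc]
    at h
  have : (2 * (l * ν)) * polar ⇑Q q x = 0 := by linear_combination -h
  exact (mul_eq_zero.1 this).resolve_left (mul_ne_zero h2 (mul_ne_zero D.l0 hν0))

theorem Data.det_square_case (D : Data Q M l c) (h2 : (2 : F) ≠ 0) (hν : l = ν * ν) :
    M.det = ν ^ Module.finrank F (eig M ν) * (-ν) ^ Module.finrank F (eig M (-ν)) := by
  let e := Submodule.prodEquivOfIsCompl _ _ (D.isCompl h2 hν)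
  have h : Matrix.toLin' M = (e.toLinearMap ∘ₗ
      (((ν • LinearMap.id : eig M ν →ₗ[F] eig M ν)).prodMap
        ((-ν) • LinearMap.id : eig M (-ν) →ₗ[F] eig M (-ν)))) ∘ₗ e.symm.toLinearMap := by
    refine LinearMap.ext fun x => ?_
    obtain ⟨⟨p, q⟩, rfl⟩ := e.surjective x
    simp [e, mulVec_add, mem_eig.1 p.2, mem_eig.1 q.2]
  rw [← LinearMap.det_toLin', h, LinearMap.comp_assoc, LinearMap.det_conj, LinearMap.det_prodMap, LinearMap.det_smul,
    LinearMap.det_smul, LinearMap.det_id, LinearMap.det_id, mul_one, mul_one]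

/-- A pair of reflections commuting with `M`, of non-square spinor norm. -/
theorem Data.exists_pair (D : Data Q M l c) (hQ : Q.polarBilin.Nondegenerate) (h2 : (2 : F) ≠ 0)
    (hk : 3 ≤ k) (hcard : Fintype.card ι = 2 * k) (hc : c = l) :
    ∃ v w, Q v ≠ 0 ∧ Q w ≠ 0 ∧ ¬ IsSquare (Q v * Q w) ∧
      ∀ x, M *ᵥ act (refl Q v * refl Q w) x = act (refl Q v * refl Q w) (M *ᵥ x) := by
  have hrefl : ∀ v, Q v ≠ 0 → ∀ x, M *ᵥ act (refl Q v) x = act (refl Q (M *ᵥ v)) (M *ᵥ x) := by
    intro v hv x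
    have hv' : Q (M *ᵥ v) ≠ 0 := by rw [D.sim]; exact mul_ne_zero D.c0 hv
    rw [act_refl hv, act_refl hv', D.polar_map, D.sim, mulVec_sub, mulVec_smul]
    congr 2
    field_simp [D.c0]
  have hcomm : ∀ v w, Q v ≠ 0 → Q w ≠ 0 → ∀ x, M *ᵥ act (refl Q v * refl Q w) x =
      act (refl Q (M *ᵥ v) * refl Q (M *ᵥ w)) (M *ᵥ x) := by
    intro v w hv hw x
    rw [act_mul, act_mul, hrefl v hv, hrefl w hw]
  obtain ⟨ε, hε0, hε⟩ := exists_nonsquare_scalar (F := F) h2
  by_cases hl : IsSquare l
  · obtain ⟨ν, hν⟩ := hl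
    have hν0 : ν ≠ 0 := fun e => D.l0 (by rw [hν, e, mul_zero])
    have hsum := Submodule.finrank_add_eq_of_isCompl (D.isCompl h2 hν)
    rw [Module.finrank_fintype_fun_eq_card, hcard] at hsum
    have key : ∀ a, a ≠ 0 → l = a * a → 3 ≤ Module.finrank F (eig M a) →
        ∃ v w, Q v ≠ 0 ∧ Q w ≠ 0 ∧ ¬ IsSquare (Q v * Q w) ∧
          ∀ x, M *ᵥ act (refl Q v * refl Q w) x = act (refl Q v * refl Q w) (M *ᵥ x) := by
      intro a ha0 ha hd
      have hnd := D.eig_nondeg hQ h2 hc ha
      obtain ⟨v, hvS, hv⟩ := Forms59.exists_value_sub hnd (by omega) 1 one_ne_zero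
      obtain ⟨w, hwS, hw⟩ := Forms59.exists_value_sub hnd (by omega) ε hε0
      have hv0 : Q v ≠ 0 := by rw [hv]; exact one_ne_zero
      have hw0 : Q w ≠ 0 := by rw [hw]; exact hε0
      refine ⟨v, w, hv0, hw0, by rw [hv, hw, one_mul]; exact hε, fun x => ?_⟩
      rw [hcomm v w hv0 hw0, mem_eig.1 hvS, mem_eig.1 hwS, refl_smul hv0 ha0, refl_smul hw0 ha0]
    by_cases hd : 3 ≤ Module.finrank F (eig M ν)
    · exact key ν hν0 hν hd
    · exact key (-ν) (neg_ne_zero.2 hν0) (by rw [hν]; ring) (by omega)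
  haveI : Fact (∀ r : F, r ^ 2 ≠ l + 0 * r) :=
    ⟨fun r hr => hl ⟨r, by rw [← pow_two, hr]; ring⟩⟩
  haveI : Fintype (QuadraticAlgebra F l 0) := Fintype.ofEquiv _ (QuadraticAlgebra.equivProd l (0 : F)).symm
  have hadj : ∀ x y, polar ⇑Q (M *ᵥ x) y = polar ⇑Q x (M *ᵥ y) := fun x y =>
    mul_left_cancel₀ D.l0 (by rw [D.polar_adj, hc])
  -- two perpendicular non-singular planes
  obtain ⟨v, hv⟩ : ∃ v, Q v ≠ 0 := by
    obtain ⟨v, hv⟩ := Reflections.exists_value h2 hQ (by omega) 1
    exact ⟨v, by rw [hv]; exact one_ne_zero⟩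
  obtain ⟨w, hw, hvw, hvMw⟩ : ∃ w, Q w ≠ 0 ∧ polar ⇑Q v w = 0 ∧ polar ⇑Q v (M *ᵥ w) = 0 := by
    by_contra hh
    push Not at hh
    let L : (ι → F) →ₗ[F] F × F :=
      (QuadraticMap.polarBilin Q v).prod (QuadraticMap.polarBilin Q (M *ᵥ v))
    have hker : ∀ x ∈ LinearMap.ker L, Q x = 0 := by
      intro x hx
      rw [LinearMap.mem_ker] at hx
      by_contra hx0
      exact hh x hx0 (congrArg Prod.fst hx) (by rw [← hadj]; exact congrArg Prod.snd hx)
    have hpol : LinearMap.ker L ≤
        LinearMap.BilinForm.orthogonal (QuadraticMap.polarBilin Q) (LinearMap.ker L) :=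
      fun x hx y hy => by
        show polar ⇑Q y x = 0
        simp [polar, hker x hx, hker y hy, hker _ (add_mem hy hx)]
    have h1 := Submodule.finrank_mono hpol
    rw [LinearMap.BilinForm.finrank_orthogonal hQ] at h1
    have h3 := LinearMap.finrank_range_add_finrank_ker L
    have h4 := Submodule.finrank_le (LinearMap.range L)
    rw [Module.finrank_prod, Module.finrank_self] at h4
    rw [Module.finrank_fintype_fun_eq_card, hcard] at h1 h3
    omega
  let β : (ι → F) → (QuadraticAlgebra F l 0) := fun x => ⟨polar ⇑Q x (M *ᵥ x), 2 * Q x⟩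
  have hβ0 : ∀ x, Q x ≠ 0 → β x ≠ 0 := fun x hx e =>
    mul_ne_zero h2 hx (congrArg QuadraticAlgebra.im e)
  let sc : (QuadraticAlgebra F l 0) → (ι → F) → ι → F := fun z x => z.re • x + z.im • (M *ᵥ x)
  have hsc : ∀ (z : (QuadraticAlgebra F l 0)) x, β (sc z x) = z * z * β x := by
    intro z x
    have e1 : polar ⇑Q (M *ᵥ x) x = polar ⇑Q x (M *ᵥ x) := polar_comm _ _ _
    refine QuadraticAlgebra.ext ?_ ?_
    · simp only [β, sc, QuadraticAlgebra.re_mul, QuadraticAlgebra.im_mul, mulVec_add, mulVec_smul,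
        D.mulVec_sq, polar_add_left, polar_add_right, polar_smul_left, polar_smul_right, smul_eq_mul,
        D.polar_map, polar_self', D.sim, e1, hc]
      ring
    · simp only [β, sc, QuadraticAlgebra.re_mul, QuadraticAlgebra.im_mul, Reflections.map_add',
        Reflections.map_smul', D.sim, polar_smul_left, polar_smul_right, smul_eq_mul, e1, hc]
      ring
  have hcross : ∀ z z' : (QuadraticAlgebra F l 0), polar ⇑Q (sc z v) (sc z' w) = 0 ∧
      polar ⇑Q (sc z v) (M *ᵥ sc z' w) = 0 := by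
    intro z z'
    constructor <;>
      simp [sc, mulVec_add, mulVec_smul, D.mulVec_sq, polar_add_left, polar_add_right,
        polar_smul_left, polar_smul_right, D.polar_map, hadj, hvw, hvMw, polar_self']
  have hKodd : Fintype.card (QuadraticAlgebra F l 0) % 2 = 1 := by
    have h := FiniteField.odd_card_of_char_ne_two (F := F) (fun h => h2 (by
      haveI : CharP F 2 := h ▸ inferInstance
      exact CharTwo.two_eq_zero))
    rw [Fintype.card_congr (QuadraticAlgebra.equivProd l (0 : F)), Fintype.card_prod, Nat.mul_mod, h]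
  obtain ⟨z, z', hz⟩ : ∃ z z' : (QuadraticAlgebra F l 0), z * z * β v + z' * z' * β w = ⟨0, 2⟩ := by
    open Polynomial in
    obtain ⟨z, z', h⟩ := FiniteField.exists_root_sum_quadratic
      (f := C (β v) * X ^ 2 + C (-(⟨0, 2⟩ : (QuadraticAlgebra F l 0)))) (g := C (β w) * X ^ 2)
      (by rw [degree_add_C (by rw [degree_C_mul_X_pow _ (hβ0 v hv)]; exact two_pos),
        degree_C_mul_X_pow _ (hβ0 v hv)]; rfl)
      (by rw [degree_C_mul_X_pow _ (hβ0 w hw)]; rfl) hKodd
    refine ⟨z, z', ?_⟩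
    simp only [eval_add, eval_mul, eval_C, eval_pow, eval_X] at h
    linear_combination h
  set y := sc z v + sc z' w with hy
  obtain ⟨c1, c2⟩ := hcross z z'
  have c3 : polar ⇑Q (sc z' w) (M *ᵥ sc z v) = 0 := by
    rw [← hadj, polar_comm]; exact c2
  have hyβ : β y = ⟨0, 2⟩ := by
    rw [← hz, ← hsc, ← hsc]
    refine QuadraticAlgebra.ext ?_ ?_
    · simp only [β, QuadraticAlgebra.re_add, hy, mulVec_add, polar_add_left, polar_add_right, c2, c3]
      ring
    · simp only [β, QuadraticAlgebra.im_add, hy, Reflections.map_add', c1]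
      ring
  have hy1 : Q y = 1 := by
    have := congrArg QuadraticAlgebra.im hyβ
    exact mul_left_cancel₀ h2 (this.trans (mul_one _).symm)
  have hy2 : polar ⇑Q y (M *ᵥ y) = 0 := congrArg QuadraticAlgebra.re hyβ
  have hy0 : Q y ≠ 0 := by rw [hy1]; exact one_ne_zero
  have hMy : Q (M *ᵥ y) ≠ 0 := by rw [D.sim]; exact mul_ne_zero D.c0 hy0
  refine ⟨y, M *ᵥ y, hy0, hMy, by rw [D.sim, hy1, hc, one_mul, mul_one]; exact hl, fun x => ?_⟩
  rw [hcomm y _ hy0 hMy, D.mulVec_sq, refl_smul hy0 D.l0]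
  congr 1
  refine isom_ext fun x => ?_
  rw [act_mul, act_mul, act_refl hy0, act_refl hMy, act_refl hMy, act_refl hy0,
    polar_sub_right, polar_sub_right, polar_smul_right, polar_smul_right, hy2,
    polar_comm ⇑Q (M *ᵥ y) y, hy2]
  simp only [smul_zero, sub_zero]
  abel

/-- For `k` even, a similarity commuting with `M` up to scalar has square multiplier. -/
theorem Data.isSquare_multiplier (D : Data Q M l c) (hQ : Q.polarBilin.Nondegenerate)
    (h2 : (2 : F) ≠ 0) (hk : 0 < k) (hke : Even k) (hcard : Fintype.card ι = 2 * k)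
    (hdet : M.det ≠ c ^ k) (H : GL ι F) {r s : F} (hr : ∀ v, Q ((H : Matrix ι ι F) *ᵥ v) = r * Q v)
    (hs : (H : Matrix ι ι F) * M = s • (M * (H : Matrix ι ι F))) : IsSquare r := by
  have hc := D.c_eq hQ h2 hk hcard hdet
  have hl : IsSquare l := by
    by_contra hl
    exact hdet (by rw [det_eq_of_not_isSquare D.sq hcard hl, hke.neg_pow, hc])
  obtain ⟨ν, hν⟩ := hl
  have hν0 : ν ≠ 0 := fun e => D.l0 (by rw [hν, e, mul_zero])
  set a := Module.finrank F (eig M ν) with hadef
  set b := Module.finrank F (eig M (-ν)) with hbdef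
  have hsum : a + b = 2 * k := by
    rw [← hcard, ← Module.finrank_fintype_fun_eq_card F (η := ι)]
    exact Submodule.finrank_add_eq_of_isCompl (D.isCompl h2 hν)
  have hb : Odd b := by
    rw [← Nat.not_even_iff_odd]
    intro hb
    refine hdet ?_
    rw [D.det_square_case h2 hν, ← hadef, ← hbdef, hb.neg_pow, ← pow_add, hsum, hc, hν, pow_mul, pow_two]
  have ha : Odd a := by
    rw [Nat.odd_iff] at hb ⊢; omega
  have hinj : Function.Injective fun x => (H : Matrix ι ι F) *ᵥ x := fun x y h => by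
    have := congrArg (((H⁻¹ : GL ι F) : Matrix ι ι F) *ᵥ ·) h
    simpa [mulVec_mulVec, ← Units.val_mul] using this
  have hs0 : s ≠ 0 := by
    rintro rfl
    rw [zero_smul] at hs
    have := congrArg (fun A => ((H⁻¹ : GL ι F) : Matrix ι ι F) * A * M) hs
    rw [← mul_assoc, ← Units.val_mul, inv_mul_cancel, Units.val_one, one_mul, D.sq, mul_zero,
      zero_mul, smul_eq_zero] at this
    haveI hne : Nonempty ι := Fintype.card_pos_iff.1 (by omega)
    exact this.elim D.l0 one_ne_zero
  have hmap : ∀ e x, x ∈ eig M e → (H : Matrix ι ι F) *ᵥ x ∈ eig M (e / s) := by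
    intro e x hx
    rw [mem_eig] at hx ⊢
    have := congrArg (· *ᵥ x) hs
    simp only [← mulVec_mulVec, smul_mulVec, hx, mulVec_smul] at this
    rw [div_eq_inv_mul, ← smul_smul, this, inv_smul_smul₀ hs0]
  have hs1 : s = 1 ∨ s = -1 := by
    have h1 : (H : Matrix ι ι F) * (M * M) = (s * s) • (M * M * (H : Matrix ι ι F)) := by
      rw [← mul_assoc, hs, smul_mul_assoc, mul_assoc, hs, mul_smul_comm, smul_smul, ← mul_assoc]
    rw [D.sq, mul_smul_comm, mul_one, smul_mul_assoc, one_mul, smul_smul] at h1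
    haveI : Nonempty ι := Fintype.card_pos_iff.1 (by omega)
    have h3 : (l - s * s * l) • (H : Matrix ι ι F) = 0 := by rw [sub_smul, ← h1, sub_self]
    rcases smul_eq_zero.1 h3 with h | h
    · exact mul_self_eq_one_iff.1 (mul_right_cancel₀ D.l0 (by linear_combination -h))
    · exact absurd h (fun e => by
        have := congrArg (((H⁻¹ : GL ι F) : Matrix ι ι F) * ·) e
        rw [mul_zero, ← Units.val_mul, inv_mul_cancel, Units.val_one] at this
        exact one_ne_zero this)
  rcases hs1 with rfl | rfl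
  · -- the restriction to the first eigenspace
    simp only [div_one] at hmap
    let L : eig M ν →ₗ[F] eig M ν :=
      ((Matrix.toLin' (H : Matrix ι ι F)).comp (eig M ν).subtype).codRestrict _
        fun x => by simpa using hmap ν x x.2
    let B : LinearMap.BilinForm F (eig M ν) := (QuadraticMap.polarBilin Q).domRestrict₁₂ _ _
    let bs := Module.finBasis F (eig M ν)
    have hL : B.compl₁₂ L L = r • B := by
      refine LinearMap.ext fun x => LinearMap.ext fun y => ?_
      show polar ⇑Q ((H : Matrix ι ι F) *ᵥ x.1) ((H : Matrix ι ι F) *ᵥ y.1) = r • polar ⇑Q x.1 y.1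
      simp only [polar, ← mulVec_add, hr, smul_eq_mul, mul_sub]
    have hB : (LinearMap.toMatrix₂ bs bs B).det ≠ 0 := by
      refine (LinearMap.separatingLeft_iff_det_ne_zero bs).1 fun x hx => ?_
      have hmem : (x : ι → F) ∈ eig M ν ⊓
          LinearMap.BilinForm.orthogonal (QuadraticMap.polarBilin Q) (eig M ν) :=
        ⟨x.2, fun y hy => by
          show polar ⇑Q y x.1 = 0
          rw [polar_comm]
          exact hx ⟨y, hy⟩⟩
      rw [D.eig_nondeg hQ h2 hc hν, Submodule.mem_bot] at hmem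
      exact Subtype.ext hmem
    have h := congrArg (fun B' => (LinearMap.toMatrix₂ bs bs B').det) hL
    simp only [LinearMap.toMatrix₂_compl₁₂ bs bs, map_smul, Matrix.det_mul, Matrix.det_transpose,
      Matrix.det_smul, Fintype.card_fin] at h
    have hd : (LinearMap.toMatrix bs bs L).det ^ 2 = r ^ a := mul_right_cancel₀ hB (by
      linear_combination h)
    obtain ⟨j, hj⟩ := ha
    have hr0 : r ≠ 0 := by
      rintro rfl
      obtain ⟨v, hv⟩ := Reflections.exists_value h2 hQ (by omega) 1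
      have := hr (((H⁻¹ : GL ι F) : Matrix ι ι F) *ᵥ v)
      rw [mulVec_mulVec, ← Units.val_mul, mul_inv_cancel, Units.val_one, one_mulVec, hv,
        zero_mul] at this
      exact one_ne_zero this
    refine ⟨(LinearMap.toMatrix bs bs L).det / r ^ j, ?_⟩
    rw [div_mul_div_comm, ← pow_two, hd, hj, ← pow_two, ← pow_mul, pow_succ, mul_comm j 2,
      mul_comm (r ^ (2 * j)), mul_div_assoc, div_self (pow_ne_zero _ hr0), mul_one]
  · -- the eigenspaces cannot be exchanged
    exfalso
    have hle : ∀ e e' : F, e / -1 = e' →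
        Module.finrank F (eig M e) ≤ Module.finrank F (eig M e') := fun e e' he => by
      let L : eig M e →ₗ[F] eig M e' :=
        ((Matrix.toLin' (H : Matrix ι ι F)).comp (eig M e).subtype).codRestrict _
          fun x => by simpa [← he] using hmap e x x.2
      exact LinearMap.finrank_le_finrank_of_injective (f := L)
        fun x y h => Subtype.ext (hinj (congrArg Subtype.val h))
    have h1 := hle ν (-ν) (by ring)
    have h3 := hle (-ν) ν (by ring)
    rw [Nat.odd_iff] at hb
    rw [Nat.even_iff] at hke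
    omega

end Cfsg.Agent.UnitaryOrthogonal.GraphSim
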