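/-
The derived group of `O(H ⊥ Q)` over fields with more than two elements, and the case
`Q = H ⊥ R` with `R` anisotropic with abelian orthogonal group, over every characteristic.
-/
import Cfsg.Agent.Lib.UnitaryOrthogonal.HypGenerate

set_option autoImplicit false

namespace Cfsg.Agent.UnitaryOrthogonal

open QuadraticMap
open scoped commutatorElement

section torus

variable {F W : Type*} [Field F] [AddCommGroup W] [Module F W] {Q : QuadraticForm F W}

/-- `((x, y), w) ↦ ((c x, c⁻¹ y), w)`. -/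
def torus (c : Fˣ) : orth (hyp Q) :=
  ⟨{ toFun := fun v => (((c : F) * v.1.1, (↑c⁻¹ : F) * v.1.2), v.2)
     invFun := fun v => (((↑c⁻¹ : F) * v.1.1, (c : F) * v.1.2), v.2)
     map_add' := fun v w => by simp [mul_add]
     map_smul' := fun t v => by simp [mul_left_comm]
     left_inv := fun v => by simp
     right_inv := fun v => by simp }, fun v => by
    show hyp Q (((c : F) * v.1.1, (↑c⁻¹ : F) * v.1.2), v.2) = hyp Q v
    simp only [hyp_apply, add_left_inj]
    linear_combination (v.1.1 * v.1.2) * c.mul_inv⟩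

theorem torus_apply (c : Fˣ) (v : (F × F) × W) :
    (torus (Q := Q) c).1 v = (((c : F) * v.1.1, (↑c⁻¹ : F) * v.1.2), v.2) := rfl

/-- `((x, y), w) ↦ ((y, x), w)`. -/
def hypSwap : orth (hyp Q) :=
  ⟨{ toFun := fun v => ((v.1.2, v.1.1), v.2)
     invFun := fun v => ((v.1.2, v.1.1), v.2)
     map_add' := fun _ _ => rfl
     map_smul' := fun _ _ => rfl
     left_inv := fun _ => rfl
     right_inv := fun _ => rfl }, fun v => by
    show hyp Q ((v.1.2, v.1.1), v.2) = hyp Q v
    simp [mul_comm]⟩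

theorem hypSwap_apply (v : (F × F) × W) :
    (hypSwap (Q := Q)).1 v = ((v.1.2, v.1.1), v.2) := rfl

theorem torus_eVec (c : Fˣ) :
    (torus (Q := Q) c).1 (eVec F W) = (c : F) • eVec F W := by
  simp [torus_apply, eVec]

theorem torus_fVec (c : Fˣ) :
    (torus (Q := Q) c).1 (fVec F W) = (↑c⁻¹ : F) • fVec F W := by
  simp [torus_apply, fVec]

theorem torus_inW (c : Fˣ) (w : W) : (torus (Q := Q) c).1 (inW w) = inW w := by
  simp [torus_apply, inW_apply]

/-- Over a field with more than two elements the Eichler transformations at `e`, `f` are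
commutators. -/
theorem eichGroup_le_commutator (hQ : Nonsing Q) (hsurj : ∀ c : F, ∃ z, Q z = c)
    (hF : ∃ a : F, a ≠ 0 ∧ a ≠ 1) : eichGroup (hyp Q) ≤ commutator (orth (hyp Q)) := by
  obtain ⟨a, ha0, ha1⟩ := hF
  have hmem : ∀ x y : orth (hyp Q), ⁅x, y⁆ ∈ commutator (orth (hyp Q)) := fun x y => by
    rw [commutator_def]
    exact Subgroup.commutator_mem_commutator (Subgroup.mem_top _) (Subgroup.mem_top _)
  refine eichGroup_hyp_le hQ hsurj (fun z => ?_) (fun z => ?_)
  · have hp : ∀ w : W, polar (hyp Q) (eVec F W) (inW w) = 0 := fun w => by simp [inW_apply]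
    obtain ⟨w, hw⟩ : ∃ w, (a - 1) • w = z :=
      ⟨(a - 1)⁻¹ • z, smul_inv_smul₀ (sub_ne_zero.2 ha1) z⟩
    have hc : eich (hyp Q) (eVec F W) (inW z) =
        ⁅torus (Q := Q) (Units.mk0 a ha0), eich (hyp Q) (eVec F W) (inW w)⁆ := by
      rw [commutatorElement_def, conj_eich, torus_eVec, torus_inW,
        eich_smul_left hyp_eVec (hp w), ← map_smul, eich_inv hyp_eVec (hp w), ← map_neg,
        eich_mul hyp_eVec (hp _) (hp _), ← map_add, ← hw]
      simp [sub_smul, sub_eq_add_neg, add_smul]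
    rw [hc]
    exact hmem _ _
  · have hp : ∀ w : W, polar (hyp Q) (fVec F W) (inW w) = 0 := fun w => by simp [inW_apply]
    have ha' : a⁻¹ ≠ 1 := fun e => ha1 (inv_eq_one.1 e)
    obtain ⟨w, hw⟩ : ∃ w, (a⁻¹ - 1) • w = z :=
      ⟨(a⁻¹ - 1)⁻¹ • z, smul_inv_smul₀ (sub_ne_zero.2 ha') z⟩
    have hc : eich (hyp Q) (fVec F W) (inW z) =
        ⁅torus (Q := Q) (Units.mk0 a ha0), eich (hyp Q) (fVec F W) (inW w)⁆ := by
      rw [commutatorElement_def, conj_eich, torus_fVec, torus_inW,
        eich_smul_left hyp_fVec (hp w), ← map_smul, eich_inv hyp_fVec (hp w), ← map_neg,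
        eich_mul hyp_fVec (hp _) (hp _), ← map_add, ← hw]
      simp [sub_smul, sub_eq_add_neg, add_smul]
    rw [hc]
    exact hmem _ _

/-- The Eichler group is transitive on hyperbolic pairs. -/
theorem exists_eichGroup_map_pair (hQ : Nonsing Q) (hsurj : ∀ c : F, ∃ z, Q z = c)
    {u v : (F × F) × W} (hu : hyp Q u = 0) (hv : hyp Q v = 0)
    (huv : polar (hyp Q) u v = 1) :
    ∃ h ∈ eichGroup (hyp Q), h.1 (eVec F W) = u ∧ h.1 (fVec F W) = v := by
  have hu0 : u ≠ 0 := fun e => by simp [e] at huv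
  obtain ⟨h, hh, hhe⟩ := exists_mem_map_eVec hQ hsurj (H := eichGroup (hyp Q))
    (fun _ => eich_mem_eichGroup _ _) (fun _ => eich_mem_eichGroup _ _) hu hu0
  obtain ⟨y, hy⟩ : ∃ y, y = h⁻¹.1 v := ⟨_, rfl⟩
  have hyv : h.1 y = v := by rw [hy, coe_apply_inv_apply]
  have hy2 : y.1.2 = 1 := by
    rw [← hyv, ← hhe, map_polar, polar_eVec] at huv
    exact huv
  have hy0 : hyp Q y = 0 := by rw [← map_form h y, hyv, hv]
  refine ⟨h * eich (hyp Q) (eVec F W) (inW y.2), mul_mem hh (eich_mem_eichGroup _ _), ?_, ?_⟩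
  · rw [coe_mul_apply, eich_eVec_inW_apply]
    simp [eVec, hhe]
    exact hhe
  · rw [coe_mul_apply, eich_eVec_inW_apply, ← hyv]
    congr 1
    obtain ⟨⟨α, β⟩, w⟩ := y
    simp at hy2 hy0
    subst hy2
    simp [fVec, eVec, inW_apply, Prod.ext_iff]
    linear_combination -hy0

/-- Every isometry is an element of the Eichler group times one fixing the plane. -/
theorem exists_eichGroup_mul_emb (hQ : Nonsing Q) (hsurj : ∀ c : F, ∃ z, Q z = c)
    (g : orth (hyp Q)) : ∃ h ∈ eichGroup (hyp Q), ∃ k, g = h * emb k := by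
  obtain ⟨h, hh, he, hf⟩ := exists_eichGroup_map_pair hQ hsurj
    (u := g.1 (eVec F W)) (v := g.1 (fVec F W)) (by rw [map_form, hyp_eVec])
    (by rw [map_form, hyp_fVec]) (by rw [map_polar, polar_eVec_fVec])
  obtain ⟨k, hk⟩ := exists_emb_of_fix (g := h⁻¹ * g)
    (by rw [coe_mul_apply, ← he, coe_inv_apply_apply])
    (by rw [coe_mul_apply, ← hf, coe_inv_apply_apply])
  exact ⟨h, hh, k, by rw [hk, mul_inv_cancel_left]⟩

end torus

section anisotropic

variable {F U : Type*} [Field F] [AddCommGroup U] [Module F U] {R : QuadraticForm F U}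

/-- Modulo its Eichler group, `O(H ⊥ R)` is generated by the torus, the swap and `O(R)`. -/
theorem exists_mul_torus (hR : ∀ x, R x = 0 → x = 0) (g : orth (hyp R)) :
    ∃ h ∈ eichGroup (hyp R), ∃ c, ∃ r, g = h * torus c * emb r ∨
      g = h * hypSwap * torus c * emb r := by
  have hu : hyp R (g.1 (eVec F U)) = 0 := by rw [map_form, hyp_eVec]
  obtain ⟨⟨⟨α, β⟩, w⟩, hv⟩ : ∃ v, v = g.1 (eVec F U) := ⟨_, rfl⟩
  rw [← hv] at hu
  -- the elements fixing `e`
  have stab : ∀ k : orth (hyp R), k.1 (eVec F U) = eVec F U →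
      ∃ h ∈ eichGroup (hyp R), ∃ r, k = h * emb r := by
    intro k hk
    obtain ⟨⟨⟨x, y⟩, z⟩, hy⟩ : ∃ v, v = k.1 (fVec F U) := ⟨_, rfl⟩
    have h1 := map_form k (fVec F U)
    have h2 := map_polar k (eVec F U) (fVec F U)
    rw [hk, ← hy, polar_eVec, polar_eVec_fVec] at h2
    rw [← hy, hyp_fVec] at h1
    simp at h1 h2
    subst h2
    obtain ⟨r, hr⟩ := exists_emb_of_fix
      (g := (eich (hyp R) (eVec F U) (inW z))⁻¹ * k)
      (by
        have he : (eich (hyp R) (eVec F U) (inW z)).1 (eVec F U) = eVec F U := by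
          rw [eich_eVec_inW_apply]; simp [eVec]
        rw [coe_mul_apply, hk]
        refine (congrArg _ he.symm).trans ?_
        exact coe_inv_apply_apply _ _)
      (by
        have he : (eich (hyp R) (eVec F U) (inW z)).1 (fVec F U) = k.1 (fVec F U) := by
          rw [eich_eVec_inW_apply, ← hy]
          simp [fVec, eVec, inW_apply, Prod.ext_iff]
          linear_combination -h1
        rw [coe_mul_apply, ← he, coe_inv_apply_apply])
    exact ⟨_, eich_mem_eichGroup _ _, r, by rw [hr, mul_inv_cancel_left]⟩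
  have conjE : ∀ m h : orth (hyp R), h ∈ eichGroup (hyp R) → m * h * m⁻¹ ∈ eichGroup (hyp R) :=
    fun m h hh => eichGroup_normal.conj_mem h hh m
  simp at hu
  by_cases hβ : β = 0
  · have hw : w = 0 := hR w (by rw [hβ] at hu; simpa using hu)
    subst hβ hw
    have hα : α ≠ 0 := fun e => eVec_ne_zero (F := F) (W := U) <| g.1.injective (by
      rw [← hv, map_zero]; simp [e])
    obtain ⟨h, hh, r, e⟩ := stab ((torus (Units.mk0 α hα))⁻¹ * g) (by
      have he : (torus (Q := R) (Units.mk0 α hα)).1 (eVec F U) = g.1 (eVec F U) := by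
        rw [← hv, torus_apply]; simp [eVec]
      rw [coe_mul_apply, ← he, coe_inv_apply_apply])
    refine ⟨_, conjE (torus (Units.mk0 α hα)) h hh, Units.mk0 α hα, r, Or.inl ?_⟩
    rw [inv_mul_cancel_right, mul_assoc, ← e, mul_inv_cancel_left]
  · obtain ⟨p, hp⟩ : ∃ p, p = eich (hyp R) (eVec F U) (inW (β⁻¹ • w)) := ⟨_, rfl⟩
    obtain ⟨m, hm⟩ : ∃ m, m = hypSwap (Q := R) * torus (Units.mk0 β hβ) := ⟨_, rfl⟩
    obtain ⟨h, hh, r, e⟩ := stab ((p * m)⁻¹ * g) (by
      have he : (p * m).1 (eVec F U) = g.1 (eVec F U) := by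
        rw [← hv, hm, hp, coe_mul_apply, coe_mul_apply, torus_apply, hypSwap_apply,
          eich_eVec_inW_apply]
        simp [eVec, inW_apply, form_smul, Prod.ext_iff, smul_smul, mul_inv_cancel₀ hβ]
        field_simp
        linear_combination -hu
      rw [coe_mul_apply, ← he, coe_inv_apply_apply])
    refine ⟨p * (m * h * m⁻¹), mul_mem (hp ▸ eich_mem_eichGroup _ _) (conjE _ _ hh),
      Units.mk0 β hβ, r, Or.inr ?_⟩
    calc g = p * m * (h * emb r) := by rw [← e, mul_inv_cancel_left]
      _ = p * (m * h * m⁻¹) * m * emb r := by simp only [mul_assoc, inv_mul_cancel_left]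
      _ = _ := by rw [hm]; simp only [mul_assoc]

/-- `O(H ⊥ H ⊥ R)` has abelian quotient by its Eichler group, when `R` is anisotropic with
abelian orthogonal group. -/
theorem commutator_le_eichGroup (hR : ∀ x, R x = 0 → x = 0)
    (hcomm : ∀ r s : orth R, r * s = s * r) :
    commutator (orth (hyp (hyp R))) ≤ eichGroup (hyp (hyp R)) := by
  have hN : Nonsing (hyp R) := Nonsing.hyp fun u hu _ => hR u hu
  have hsurj : ∀ c : F, ∃ z, hyp R z = c := fun c => ⟨((c, 1), 0), by simp⟩
  let φ : orth (hyp R) →* orth (hyp (hyp R)) ⧸ eichGroup (hyp (hyp R)) :=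
    (QuotientGroup.mk' _).comp emb
  have hφ : ∀ h ∈ eichGroup (hyp R), φ h = 1 := by
    intro h hh
    refine (QuotientGroup.eq_one_iff _).2 ?_
    unfold eichGroup at hh
    induction hh using Subgroup.closure_induction with
    | mem x hx =>
        obtain ⟨u, z, hu, hz, rfl⟩ := hx
        rw [emb_eich hu hz]
        exact eich_mem_eichGroup _ _
    | one => rw [map_one]; exact one_mem _
    | mul x y _ _ hx hy => rw [map_mul]; exact mul_mem hx hy
    | inv x _ hx => rw [map_inv]; exact inv_mem hx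
  have hinv : ∀ c : Fˣ, φ (torus c) = φ (torus c⁻¹) := by
    intro c
    obtain ⟨h1, hh1, a1, b1⟩ := exists_eichGroup_map_pair hN hsurj
      (u := inW (eVec F U)) (v := inW (fVec F U)) (by simp [inW_apply, eVec])
      (by simp [inW_apply, fVec]) (by simp [inW_apply, polar_hyp, eVec, fVec])
    obtain ⟨h2, hh2, a2, b2⟩ := exists_eichGroup_map_pair hN hsurj
      (u := inW (fVec F U)) (v := inW (eVec F U)) (by simp [inW_apply, fVec])
      (by simp [inW_apply, eVec]) (by simp [inW_apply, polar_hyp, eVec, fVec])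
    obtain ⟨k, hk⟩ : ∃ k, k = h2 * h1⁻¹ := ⟨_, rfl⟩
    have hkE : k ∈ eichGroup (hyp (hyp R)) := hk ▸ mul_mem hh2 (inv_mem hh1)
    have hke : k.1 (inW (eVec F U)) = inW (fVec F U) := by
      rw [hk, coe_mul_apply, ← a1, coe_inv_apply_apply, a2]
    have hkf : k.1 (inW (fVec F U)) = inW (eVec F U) := by
      rw [hk, coe_mul_apply, ← b1, coe_inv_apply_apply, b2]
    -- a torus element is determined by its plane
    have hform : ∀ (c : Fˣ) (x : (F × F) × ((F × F) × U)), (emb (torus (Q := R) c)).1 x =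
        x + (((c : F) - 1) * polar (hyp (hyp R)) (inW (fVec F U)) x) • inW (eVec F U) +
          (((↑c⁻¹ : F) - 1) * polar (hyp (hyp R)) (inW (eVec F U)) x) • inW (fVec F U) := by
      intro c x
      rw [emb_apply, torus_apply]
      simp [inW_apply, polar_hyp, eVec, fVec, Prod.ext_iff]
      constructor <;> ring
    have hconj : k * emb (torus (Q := R) c) = emb (torus c⁻¹) * k := by
      refine orth_ext fun x => ?_
      rw [coe_mul_apply, coe_mul_apply, hform, hform, map_add, map_add, map_smul, map_smul,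
        hke, hkf]
      have p1 : polar (hyp (hyp R)) (inW (fVec F U)) (k.1 x) =
          polar (hyp (hyp R)) (inW (eVec F U)) x := by rw [← hke, map_polar]
      have p2 : polar (hyp (hyp R)) (inW (eVec F U)) (k.1 x) =
          polar (hyp (hyp R)) (inW (fVec F U)) x := by rw [← hkf, map_polar]
      rw [p1, p2, inv_inv]
      abel
    have := congrArg (QuotientGroup.mk' (eichGroup (hyp (hyp R)))) hconj
    rw [map_mul, map_mul, show QuotientGroup.mk' (eichGroup (hyp (hyp R))) k = 1 from
      (QuotientGroup.eq_one_iff k).2 hkE, one_mul, mul_one] at this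
    exact this
  let S : Set (orth (hyp (hyp R)) ⧸ eichGroup (hyp (hyp R))) :=
    {x | (∃ c, x = φ (torus c)) ∨ x = φ hypSwap ∨ ∃ r, x = φ (emb r)}
  have hS : IsMulCommutative (Subgroup.closure S :
      Subgroup (orth (hyp (hyp R)) ⧸ eichGroup (hyp (hyp R)))) := by
    refine Subgroup.isMulCommutative_closure ?_
    have hst : ∀ c : Fˣ, φ hypSwap * φ (torus c) = φ (torus c) * φ hypSwap := fun c => by
      conv_rhs => rw [hinv]
      rw [← map_mul, ← map_mul]
      congr 1
    have htr : ∀ (c : Fˣ) (r : orth R), φ (torus c) * φ (emb r) = φ (emb r) * φ (torus c) :=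
      fun c r => by
        rw [← map_mul, ← map_mul]
        congr 1
    have hsr : ∀ r : orth R, φ hypSwap * φ (emb r) = φ (emb r) * φ hypSwap := fun r => by
      rw [← map_mul, ← map_mul]
      congr 1
    rintro x (⟨c, rfl⟩ | rfl | ⟨r, rfl⟩) y (⟨d, rfl⟩ | rfl | ⟨s, rfl⟩)
    · rw [← map_mul, ← map_mul]
      congr 1
      exact orth_ext fun v => by simp [torus_apply, mul_left_comm]
    · exact (hst c).symm
    · exact htr c s
    · exact hst d
    · rfl
    · exact hsr s
    · exact (htr d r).symm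
    · exact (hsr r).symm
    · rw [← map_mul, ← map_mul, ← map_mul, ← map_mul, hcomm]
  have htop : ∀ g : orth (hyp (hyp R)),
      QuotientGroup.mk' (eichGroup (hyp (hyp R))) g ∈ Subgroup.closure S := by
    intro g
    obtain ⟨h, hh, k, rfl⟩ := exists_eichGroup_mul_emb hN hsurj g
    rw [map_mul, show QuotientGroup.mk' (eichGroup (hyp (hyp R))) h = 1 from
      (QuotientGroup.eq_one_iff h).2 hh, one_mul]
    show φ k ∈ _
    obtain ⟨h', hh', c, r, rfl | rfl⟩ := exists_mul_torus hR k
    · rw [map_mul, map_mul, hφ h' hh', one_mul]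
      exact mul_mem (Subgroup.subset_closure (Or.inl ⟨c, rfl⟩))
        (Subgroup.subset_closure (Or.inr (Or.inr ⟨r, rfl⟩)))
    · rw [map_mul, map_mul, map_mul, hφ h' hh', one_mul]
      exact mul_mem (mul_mem (Subgroup.subset_closure (Or.inr (Or.inl rfl)))
        (Subgroup.subset_closure (Or.inl ⟨c, rfl⟩)))
        (Subgroup.subset_closure (Or.inr (Or.inr ⟨r, rfl⟩)))
  rw [commutator_def, Subgroup.commutator_le]
  intro x _ y _
  rw [← QuotientGroup.eq_one_iff, ← QuotientGroup.mk'_apply, map_commutatorElement,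
    commutatorElement_eq_one_iff_mul_comm]
  exact congrArg Subtype.val (hS.is_comm.comm ⟨_, htop x⟩ ⟨_, htop y⟩)

end anisotropic

/-- A central element of the Eichler group of `H ⊥ Q` is a scalar. -/
theorem eq_smul_of_commute_eich {F W : Type*} [Field F] [AddCommGroup W] [Module F W]
    {Q : QuadraticForm F W} (hQ : Nonsing Q) (hsurj : ∀ c : F, ∃ z, Q z = c) {x : orth (hyp Q)}
    (h : ∀ g ∈ eichGroup (hyp Q), g * x = x * g) :
    ∃ a : F, a * a = 1 ∧ ∀ v, x.1 v = a • v := by
  have hfix : ∀ z, (eich (hyp Q) (eVec F W) (inW z)).1 (x.1 (eVec F W)) = x.1 (eVec F W) := by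
    intro z
    rw [← coe_mul_apply, h _ (eich_mem_eichGroup _ _), coe_mul_apply]
    congr 1
    rw [eich_eVec_inW_apply]
    simp [eVec]
  obtain ⟨⟨⟨a, β⟩, w⟩, hxe⟩ : ∃ v, v = x.1 (eVec F W) := ⟨_, rfl⟩
  have hsing : hyp Q ((a, β), w) = 0 := by rw [hxe, map_form, hyp_eVec]
  have hz : ∀ z : W, β • z = 0 ∧ polar Q z w + Q z * β = 0 := fun z => by
    have := hfix z
    rw [← hxe, eich_eVec_inW_apply] at this
    simp [eVec, inW_apply, Prod.ext_iff] at this
    exact ⟨by simpa using this.2, by linear_combination -this.1⟩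
  have hβ : β = 0 := by
    obtain ⟨z, hz1⟩ := hsurj 1
    refine ((smul_eq_zero.1 (hz z).1).resolve_right fun e => ?_)
    rw [e, QuadraticMap.map_zero] at hz1
    exact zero_ne_one hz1
  subst hβ
  have hw : w = 0 := hQ w (by simpa using hsing) fun z => by
    rw [polar_comm]; simpa using (hz z).2
  subst hw
  have hsingular : ∀ v, hyp Q v = 0 → x.1 v = a • v := by
    intro v hv
    by_cases hv0 : v = 0
    · simp [hv0]
    obtain ⟨k, hk, rfl⟩ := exists_mem_map_eVec hQ hsurj (H := eichGroup (hyp Q))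
      (fun _ => eich_mem_eichGroup _ _) (fun _ => eich_mem_eichGroup _ _) hv hv0
    rw [← coe_mul_apply, ← h k hk, coe_mul_apply, ← hxe, ← map_smul]
    congr 1
    simp [eVec]
  have hall : ∀ v, x.1 v = a • v := by
    intro v
    have hm : v ∈ AddSubgroup.closure {v : (F × F) × W | hyp Q v = 0} :=
      closure_singular_eq_top (P := Q) ▸ AddSubgroup.mem_top v
    induction hm using AddSubgroup.closure_induction with
    | mem y hy => exact hsingular y hy
    | zero => simp
    | add y y' _ _ hy hy' => rw [map_add, hy, hy', smul_add]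
    | neg y _ hy => rw [map_neg, hy, smul_neg]
  refine ⟨a, ?_, hall⟩
  have := map_polar x (eVec F W) (fVec F W)
  rw [hall, hall, polar_smul_left, polar_smul_right, polar_eVec_fVec] at this
  simpa using this

end Cfsg.Agent.UnitaryOrthogonal
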