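/-
The group generated by two commuting involutions `x`, `y` and an element `d` exchanging them,
with `d² = (xy)^k`.
-/
import Mathlib
import Cfsg.Agent.Lib.Involution.Dihedral

set_option autoImplicit false

namespace Cfsg.Agent.UnitaryOrthogonal

variable {E : Type*} [Group E]

/-- Two commuting elements of exponent two. -/
def kleinHom (a b : E) (ha : a * a = 1) (hb : b * b = 1) (hab : a * b = b * a) :
    Multiplicative (ZMod 2 × ZMod 2) →* E :=
  MonoidHom.mk' (fun i => a ^ (Multiplicative.toAdd i).1.val * b ^ (Multiplicative.toAdd i).2.val)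
    fun i j => by
      obtain ⟨⟨i₁, i₂⟩, rfl⟩ := Multiplicative.ofAdd.surjective i
      obtain ⟨⟨j₁, j₂⟩, rfl⟩ := Multiplicative.ofAdd.surjective j
      have h2 : ∀ {r : E}, r * r = 1 → ∀ s t : ZMod 2, r ^ (s + t).val = r ^ s.val * r ^ t.val := by
        intro r hr s t
        rw [← pow_add, ZMod.val_add]
        exact (pow_eq_pow_mod _ (by rw [pow_two]; exact hr)).symm
      have hc : Commute (b ^ i₂.val) (a ^ j₁.val) := Commute.pow_pow (hab.symm : Commute b a) _ _
      show a ^ (i₁ + j₁).val * b ^ (i₂ + j₂).val =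
        a ^ i₁.val * b ^ i₂.val * (a ^ j₁.val * b ^ j₂.val)
      rw [h2 ha, h2 hb, mul_assoc (a ^ i₁.val) (b ^ i₂.val), ← mul_assoc (b ^ i₂.val), hc.eq,
        mul_assoc, mul_assoc]

theorem kleinHom_mem (a b : E) (ha : a * a = 1) (hb : b * b = 1) (hab : a * b = b * a)
    (i : Multiplicative (ZMod 2 × ZMod 2)) :
    kleinHom a b ha hb hab i ∈ ({1, a, b, a * b} : Set E) := by
  obtain ⟨⟨s, t⟩, rfl⟩ := Multiplicative.ofAdd.surjective i
  have hcases : ∀ u : ZMod 2, u = 0 ∨ u = 1 := by decide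
  show a ^ s.val * b ^ t.val ∈ _
  rcases hcases s with rfl | rfl <;> rcases hcases t with rfl | rfl <;> simp [ZMod.val_one]

theorem kleinHom_range (a b : E) (ha : a * a = 1) (hb : b * b = 1) (hab : a * b = b * a) :
    ((kleinHom a b ha hb hab).range : Set E) = {1, a, b, a * b} := by
  refine Set.Subset.antisymm ?_ ?_
  · rintro _ ⟨i, rfl⟩; exact kleinHom_mem a b ha hb hab i
  · intro g hg
    rcases hg with rfl | rfl | rfl | rfl
    · exact ⟨1, map_one _⟩
    · exact ⟨Multiplicative.ofAdd (1, 0), by simp [kleinHom, ZMod.val_one]⟩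
    · exact ⟨Multiplicative.ofAdd (0, 1), by simp [kleinHom, ZMod.val_one]⟩
    · exact ⟨Multiplicative.ofAdd (1, 1), by simp [kleinHom, ZMod.val_one]⟩

theorem kleinHom_injective (a b : E) (ha : a * a = 1) (hb : b * b = 1) (hab : a * b = b * a)
    (h1 : a ≠ 1) (h2 : b ≠ 1) (h3 : a * b ≠ 1) :
    Function.Injective (kleinHom a b ha hb hab) := by
  rw [injective_iff_map_eq_one]
  intro i hi
  obtain ⟨⟨s, t⟩, rfl⟩ := Multiplicative.ofAdd.surjective i
  have hcases : ∀ u : ZMod 2, u = 0 ∨ u = 1 := by decide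
  rcases hcases s with rfl | rfl <;> rcases hcases t with rfl | rfl <;>
    simp [kleinHom, ZMod.val_one, h1, h2, h3] at hi ⊢

/-- The cyclic homomorphism given by an element with `r ^ n = 1`. -/
def cycHom {n : ℕ} (r : E) (hr : r ^ n = 1) : Multiplicative (ZMod n) →* E :=
  MonoidHom.mk' (fun i => r ^ (ZMod.cast (Multiplicative.toAdd i) : ℤ)) fun i j => by
    obtain ⟨i, rfl⟩ := Multiplicative.ofAdd.surjective i
    obtain ⟨j, rfl⟩ := Multiplicative.ofAdd.surjective j
    show r ^ (ZMod.cast (i + j) : ℤ) = r ^ (ZMod.cast i : ℤ) * r ^ (ZMod.cast j : ℤ)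
    rw [← zpow_add]
    obtain ⟨c, hc⟩ := (ZMod.intCast_eq_intCast_iff_dvd_sub
      (ZMod.cast (i + j) : ℤ) ((ZMod.cast i : ℤ) + ZMod.cast j) n).mp
      (by simp [ZMod.intCast_zmod_cast])
    rw [show (ZMod.cast i : ℤ) + ZMod.cast j = ZMod.cast (i + j) + (n : ℤ) * c by omega, zpow_add,
      zpow_mul, zpow_natCast, hr, one_zpow, mul_one]

theorem cycHom_apply {n : ℕ} (r : E) (hr : r ^ n = 1) (i : ZMod n) :
    cycHom r hr (Multiplicative.ofAdd i) = r ^ (ZMod.cast i : ℤ) := rfl

/-- The relations. -/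
structure OuterRel (x y d : E) (k : ℕ) : Prop where
  xx : x * x = 1
  yy : y * y = 1
  comm : x * y = y * x
  conj : d * x * d⁻¹ = y
  conj' : d * y * d⁻¹ = x
  dd : d * d = (x * y) ^ k
  cover : ∀ g, g ∈ ({1, x, y, x * y} : Set E) ∨ d⁻¹ * g ∈ ({1, x, y, x * y} : Set E)
  xne : x ≠ 1
  dnot : d ∉ ({1, x, y, x * y} : Set E)

namespace OuterRel

variable {x y d : E} {k : ℕ}

theorem yne (h : OuterRel x y d k) : y ≠ 1 := fun e => h.xne (by
  have := h.conj'
  rwa [e, mul_one, mul_inv_cancel, eq_comm] at this)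

theorem zz (h : OuterRel x y d k) : (x * y) * (x * y) = 1 := by
  rw [show x * y * (x * y) = x * (y * x) * y by simp [mul_assoc], ← h.comm, ← mul_assoc, h.xx,
    one_mul, h.yy]

theorem xz (h : OuterRel x y d k) : x * (x * y) = x * y * x := by
  rw [mul_assoc x y x, ← h.comm]

theorem dz (h : OuterRel x y d k) : d * (x * y) = x * y * d := by
  have : d * (x * y) * d⁻¹ = x * y := by
    rw [show d * (x * y) * d⁻¹ = d * x * d⁻¹ * (d * y * d⁻¹) by group, h.conj, h.conj', h.comm]
  calc d * (x * y) = d * (x * y) * d⁻¹ * d := (inv_mul_cancel_right _ _).symm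
    _ = x * y * d := by rw [this]

theorem pow_even (h : OuterRel x y d k) {j : ℕ} (hj : Even j) : (x * y) ^ j = 1 := by
  obtain ⟨t, rfl⟩ := hj
  rw [← two_mul, pow_mul, pow_two, h.zz, one_pow]

theorem pow_odd (h : OuterRel x y d k) {j : ℕ} (hj : Odd j) : (x * y) ^ j = x * y := by
  obtain ⟨t, rfl⟩ := hj
  rw [pow_succ, h.pow_even ⟨t, two_mul t⟩, one_mul]

theorem dx_sq (h : OuterRel x y d k) : d * x * (d * x) = (x * y) ^ (k + 1) := by
  calc d * x * (d * x) = d * x * d⁻¹ * (d * d) * x := by group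
    _ = y * (x * y) ^ k * x := by rw [h.conj, h.dd]
    _ = (x * y) ^ k * (y * x) := by
      rw [← mul_assoc, ((Commute.mul_right (h.comm.symm : Commute y x) (Commute.refl y)).pow_right
        k).eq]
    _ = (x * y) ^ (k + 1) := by rw [← h.comm, pow_succ]

theorem exists_klein (h : OuterRel x y d k) (hz : x * y = 1) :
    ∃ f : Multiplicative (ZMod 2 × ZMod 2) →* E, Function.Bijective f := by
  have hy : y = x := by
    calc y = x * (x * y) := by rw [← mul_assoc, h.xx, one_mul]
      _ = x := by rw [hz, mul_one]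
  have hdd : d * d = 1 := by rw [h.dd, hz, one_pow]
  have hxd : x * d = d * x := by
    calc x * d = d * y * d⁻¹ * d := by rw [h.conj']
      _ = d * x := by rw [inv_mul_cancel_right, hy]
  refine ⟨kleinHom x d h.xx hdd hxd, kleinHom_injective x d h.xx hdd hxd h.xne
    (fun e => h.dnot (Or.inl e)) (fun e => h.dnot ?_), ?_⟩
  · refine Or.inr (Or.inl ?_)
    calc d = x * (x * d) := by rw [← mul_assoc, h.xx, one_mul]
      _ = x := by rw [e, mul_one]
  intro g
  have hg : g ∈ ({1, x, d, x * d} : Set E) := by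
    rcases h.cover g with hg | hg
    · rw [hy] at hg
      rcases hg with rfl | rfl | rfl | rfl <;> simp [h.xx]
    · rw [hy] at hg
      simp only [h.xx, Set.mem_insert_iff, Set.mem_singleton_iff, inv_mul_eq_iff_eq_mul, mul_one] at hg ⊢
      rcases hg with rfl | rfl | rfl | rfl <;> simp [hxd]
  rw [← kleinHom_range x d h.xx hdd hxd] at hg
  exact hg

theorem exists_dihedral (h : OuterRel x y d k) (hz : x * y ≠ 1) :
    ∃ f : DihedralGroup 4 →* E, Function.Bijective f := by
  obtain ⟨R, hR2, hRinv, hRcase⟩ :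
      ∃ R : E, R * R = x * y ∧ x * R * x⁻¹ = R⁻¹ ∧ (R = d ∨ R = d * x) := by
    have hx' : x⁻¹ = x := inv_eq_of_mul_eq_one_right h.xx
    rcases Nat.even_or_odd k with hk | hk
    · refine ⟨d * x, by rw [h.dx_sq, h.pow_odd hk.add_one], ?_, Or.inr rfl⟩
      refine eq_inv_of_mul_eq_one_left ?_
      calc x * (d * x) * x⁻¹ * (d * x) = x * (d * d) * x := by group
        _ = 1 := by rw [h.dd, h.pow_even hk, mul_one, h.xx]
    · refine ⟨d, by rw [h.dd, h.pow_odd hk], ?_, Or.inl rfl⟩
      refine eq_inv_of_mul_eq_one_left ?_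
      rw [hx']
      calc x * d * x * d = x * (d * x * d⁻¹) * (d * d) := by group
        _ = x * y * (x * y) := by rw [h.conj, h.dd, h.pow_odd hk]
        _ = 1 := h.zz
  have hR4 : R ^ 4 = 1 := by
    rw [show R ^ 4 = R * R * (R * R) by simp [pow_succ, mul_assoc], hR2, h.zz]
  have hxS : ∀ g ∈ ({1, x, y, x * y} : Set E), g * x ∈ ({1, x, y, x * y} : Set E) := by
    rintro g (rfl | rfl | rfl | rfl)
    · simp
    · simp [h.xx]
    · simp [← h.comm]
    · rw [mul_assoc, ← h.comm, ← mul_assoc, h.xx, one_mul]; simp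
  have hRnot : R ∉ ({1, x, y, x * y} : Set E) := by
    rcases hRcase with e | e
    · rw [e]; exact h.dnot
    · rw [e]; intro hmem
      have := hxS _ hmem
      rw [mul_assoc, h.xx, mul_one] at this
      exact h.dnot this
  let f := Involution.dihedralHom x R h.xx hR4 hRinv
  have hr : ∀ i, f (DihedralGroup.r i) = R ^ (ZMod.cast i : ℤ) := fun i => rfl
  have hs : ∀ i, f (DihedralGroup.sr i) = x * R ^ (ZMod.cast i : ℤ) := fun i => rfl
  have hp : R ^ (3 : ℤ) = x * y * R := by
    rw [show (3 : ℤ) = (3 : ℕ) from rfl, zpow_natCast, pow_succ, pow_two, hR2]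
  have hp2 : R ^ (2 : ℤ) = x * y := by
    rw [show (2 : ℤ) = (2 : ℕ) from rfl, zpow_natCast, pow_two, hR2]
  have h4 : ∀ i : ZMod 4, i = 0 ∨ i = 1 ∨ i = 2 ∨ i = 3 := by decide
  have c0 : ((ZMod.cast (0 : ZMod 4) : ℤ)) = 0 := rfl
  have c1 : ((ZMod.cast (1 : ZMod 4) : ℤ)) = 1 := rfl
  have c2 : ((ZMod.cast (2 : ZMod 4) : ℤ)) = 2 := rfl
  have c3 : ((ZMod.cast (3 : ZMod 4) : ℤ)) = 3 := rfl
  refine ⟨f, (injective_iff_map_eq_one f).2 ?_, ?_⟩
  · rintro (i | i) hi
    · rw [hr] at hi
      rcases h4 i with rfl | rfl | rfl | rfl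
      · rfl
      · rw [c1, zpow_one] at hi; exact absurd (Or.inl hi) hRnot
      · rw [c2, hp2] at hi; exact absurd hi hz
      · rw [c3, hp] at hi
        refine absurd (?_ : R ∈ ({1, x, y, x * y} : Set E)) hRnot
        rw [← inv_eq_of_mul_eq_one_right hi, inv_eq_of_mul_eq_one_right h.zz]; simp
    · rw [hs] at hi
      have hx : R ^ (ZMod.cast i : ℤ) = x := by
        calc R ^ (ZMod.cast i : ℤ) = x * (x * R ^ (ZMod.cast i : ℤ)) := by
              rw [← mul_assoc, h.xx, one_mul]
          _ = x := by rw [hi, mul_one]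
      rcases h4 i with rfl | rfl | rfl | rfl
      · rw [c0, zpow_zero] at hx; exact absurd hx.symm h.xne
      · rw [c1, zpow_one] at hx; exact absurd (Or.inr (Or.inl hx)) hRnot
      · rw [c2, hp2] at hx; exact absurd (mul_eq_left.1 hx) h.yne
      · rw [c3, hp] at hx
        refine absurd (?_ : R ∈ ({1, x, y, x * y} : Set E)) hRnot
        have : R = y := by
          calc R = x * y * (x * y * R) := by rw [← mul_assoc, h.zz, one_mul]
            _ = x * y * x := by rw [hx]
            _ = y := by rw [← h.xz, ← mul_assoc, h.xx, one_mul]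
        rw [this]; simp
  · intro g
    have hin : ∀ g ∈ ({1, x, y, x * y} : Set E), g ∈ f.range := by
      have hx : x ∈ f.range := ⟨DihedralGroup.sr 0, by rw [hs, c0, zpow_zero, mul_one]⟩
      have hzr : x * y ∈ f.range := ⟨DihedralGroup.r 2, by rw [hr, c2, hp2]⟩
      rintro g (rfl | rfl | rfl | rfl)
      · exact one_mem _
      · exact hx
      · have := mul_mem hx hzr
        rwa [← mul_assoc, h.xx, one_mul] at this
      · exact hzr
    have hd : d ∈ f.range := by
      have hR : R ∈ f.range := ⟨DihedralGroup.r 1, by rw [hr, c1, zpow_one]⟩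
      rcases hRcase with e | e
      · exact e ▸ hR
      · have := mul_mem hR (hin x (by simp))
        rwa [e, mul_assoc, h.xx, mul_one] at this
    rcases h.cover g with hg | hg
    · exact hin g hg
    · have := mul_mem hd (hin _ hg)
      rwa [mul_inv_cancel_left] at this

theorem exists_inner_two (h : OuterRel x y d k) (hz : x * y = 1) :
    ∃ f : Multiplicative (ZMod 2) →* E,
      Function.Injective f ∧ (f.range : Set E) = {1, x * y, d, x * y * d} := by
  have hdd : d ^ 2 = 1 := by rw [pow_two, h.dd, hz, one_pow]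
  refine ⟨cycHom d hdd, ?_, ?_⟩
  · rw [injective_iff_map_eq_one]
    intro i hi
    obtain ⟨i, rfl⟩ := Multiplicative.ofAdd.surjective i
    have h2 : ∀ i : ZMod 2, i = 0 ∨ i = 1 := by decide
    rcases h2 i with rfl | rfl
    · rfl
    · rw [cycHom_apply, show (ZMod.cast (1 : ZMod 2) : ℤ) = 1 from rfl, zpow_one] at hi
      exact absurd (Or.inl hi) h.dnot
  · rw [hz, one_mul]
    refine Set.Subset.antisymm ?_ ?_
    · rintro _ ⟨i, rfl⟩
      obtain ⟨i, rfl⟩ := Multiplicative.ofAdd.surjective i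
      have h2 : ∀ i : ZMod 2, i = 0 ∨ i = 1 := by decide
      rcases h2 i with rfl | rfl
      · exact Or.inl (map_one _)
      · refine Or.inr (Or.inr (Or.inl ?_))
        rw [cycHom_apply, show (ZMod.cast (1 : ZMod 2) : ℤ) = 1 from rfl, zpow_one]
    · intro g hg
      rcases hg with rfl | rfl | rfl | rfl
      · exact one_mem _
      · exact one_mem _
      all_goals exact ⟨Multiplicative.ofAdd 1, by
        rw [cycHom_apply, show (ZMod.cast (1 : ZMod 2) : ℤ) = 1 from rfl, zpow_one]⟩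

theorem exists_inner_klein (h : OuterRel x y d k) (hz : x * y ≠ 1) (hk : Even k) :
    ∃ f : Multiplicative (ZMod 2 × ZMod 2) →* E,
      Function.Injective f ∧ (f.range : Set E) = {1, x * y, d, x * y * d} := by
  have hdd : d * d = 1 := by rw [h.dd, h.pow_even hk]
  refine ⟨kleinHom (x * y) d h.zz hdd h.dz.symm, kleinHom_injective (x * y) d h.zz hdd h.dz.symm hz
    (fun e => h.dnot (Or.inl e)) (fun e => h.dnot ?_), kleinHom_range ..⟩
  rw [eq_inv_of_mul_eq_one_left (a := d) (b := x * y) (by rw [h.dz]; exact e),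
    inv_eq_of_mul_eq_one_right h.zz]
  simp

theorem exists_inner_cyclic (h : OuterRel x y d k) (hz : x * y ≠ 1) (hk : Odd k) :
    ∃ f : Multiplicative (ZMod 4) →* E,
      Function.Injective f ∧ (f.range : Set E) = {1, x * y, d, x * y * d} := by
  have hdd : d * d = x * y := by rw [h.dd, h.pow_odd hk]
  have hd4 : d ^ 4 = 1 := by
    rw [show d ^ 4 = d * d * (d * d) by simp [pow_succ, mul_assoc], hdd, h.zz]
  have h4 : ∀ i : ZMod 4, i = 0 ∨ i = 1 ∨ i = 2 ∨ i = 3 := by decide
  have e0 : cycHom d hd4 (Multiplicative.ofAdd 0) = 1 := map_one _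
  have e1 : cycHom d hd4 (Multiplicative.ofAdd 1) = d := by
    rw [cycHom_apply, show (ZMod.cast (1 : ZMod 4) : ℤ) = 1 from rfl, zpow_one]
  have e2 : cycHom d hd4 (Multiplicative.ofAdd 2) = x * y := by
    rw [cycHom_apply, show (ZMod.cast (2 : ZMod 4) : ℤ) = (2 : ℕ) from rfl, zpow_natCast, pow_two,
      hdd]
  have e3 : cycHom d hd4 (Multiplicative.ofAdd 3) = x * y * d := by
    rw [cycHom_apply, show (ZMod.cast (3 : ZMod 4) : ℤ) = (3 : ℕ) from rfl, zpow_natCast, pow_succ,
      pow_two, hdd]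
  refine ⟨cycHom d hd4, ?_, ?_⟩
  · rw [injective_iff_map_eq_one]
    intro i hi
    obtain ⟨i, rfl⟩ := Multiplicative.ofAdd.surjective i
    rcases h4 i with rfl | rfl | rfl | rfl
    · rfl
    · rw [e1] at hi; exact absurd (Or.inl hi) h.dnot
    · rw [e2] at hi; exact absurd hi hz
    · rw [e3] at hi
      refine absurd (?_ : d ∈ ({1, x, y, x * y} : Set E)) h.dnot
      rw [← inv_eq_of_mul_eq_one_right hi, inv_eq_of_mul_eq_one_right h.zz]; simp
  · refine Set.Subset.antisymm ?_ ?_
    · rintro _ ⟨i, rfl⟩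
      obtain ⟨i, rfl⟩ := Multiplicative.ofAdd.surjective i
      rcases h4 i with rfl | rfl | rfl | rfl
      · exact Or.inl e0
      · exact Or.inr (Or.inr (Or.inl e1))
      · exact Or.inr (Or.inl e2)
      · exact Or.inr (Or.inr (Or.inr e3))
    · intro g hg
      rcases hg with rfl | rfl | rfl | rfl
      · exact one_mem _
      · exact ⟨_, e2⟩
      · exact ⟨_, e1⟩
      · exact ⟨_, e3⟩

end OuterRel

end Cfsg.Agent.UnitaryOrthogonal
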