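/-
The similarity group of an even-dimensional quadratic form in odd characteristic acting on `PΩ`:
the images of the similarity, special orthogonal and inner-diagonal groups modulo the inner group.
-/
import Cfsg.Prelude.Def_LieTypeDatum
import Cfsg.Agent.AutPSL.Induced
import Cfsg.Agent.Lib.UnitaryOrthogonal.HypCommutator
import Cfsg.Agent.Lib.UnitaryOrthogonal.OmegaStandard
import Cfsg.Agent.Lib.UnitaryOrthogonal.SingularParity
import Cfsg.Agent.Lib.UnitaryOrthogonal.OuterGroup

set_option autoImplicit false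

namespace Cfsg.Agent.UnitaryOrthogonal

open QuadraticMap

/-- A similarity commuting with the Eichler group is scalar. -/
theorem eq_smul_of_similarity_commute_eich {F W : Type*} [Field F] [AddCommGroup W] [Module F W]
    {Q : QuadraticForm F W} (hQ : Nonsing Q) (hsurj : ∀ c : F, ∃ z, Q z = c)
    {x : ((F × F) × W) ≃ₗ[F] (F × F) × W} {c : F} (hx : ∀ v, hyp Q (x v) = c * hyp Q v)
    (h : ∀ g ∈ eichGroup (hyp Q), ∀ v, g.1 (x v) = x (g.1 v)) :
    ∃ a : F, ∀ v, x v = a • v := by
  have hfix : ∀ z, (eich (hyp Q) (eVec F W) (inW z)).1 (x (eVec F W)) = x (eVec F W) := by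
    intro z
    rw [h _ (eich_mem_eichGroup _ _)]
    congr 1
    rw [eich_eVec_inW_apply]
    simp [eVec]
  obtain ⟨⟨⟨a, β⟩, w⟩, hxe⟩ : ∃ v, v = x (eVec F W) := ⟨_, rfl⟩
  have hsing : hyp Q ((a, β), w) = 0 := by rw [hxe, hx, hyp_eVec, mul_zero]
  have hz : ∀ z : W, β • z = 0 ∧ polar Q z w + Q z * β = 0 := fun z => by
    have := hfix z
    rw [← hxe, eich_eVec_inW_apply] at this
    simp [eVec, inW_apply, Prod.ext_iff] at this
    exact ⟨by simpa using this.2, by linear_combination -this.1⟩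
  have hβ : β = 0 := by
    obtain ⟨z, hz1⟩ := hsurj 1
    refine ((smul_eq_zero.1 (hz z).1).resolve_right fun e => ?_)
    rw [e, QuadraticMap.map_zero] at hz1
    exact zero_ne_one hz1
  subst hβ
  have hw : w = 0 := hQ w (by simpa using hsing) fun z => by
    rw [polar_comm]; simpa using (hz z).2
  subst hw
  have hsingular : ∀ v, hyp Q v = 0 → x v = a • v := by
    intro v hv
    by_cases hv0 : v = 0
    · simp [hv0]
    obtain ⟨k, hk, rfl⟩ := exists_mem_map_eVec hQ hsurj (H := eichGroup (hyp Q))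
      (fun _ => eich_mem_eichGroup _ _) (fun _ => eich_mem_eichGroup _ _) hv hv0
    rw [← h k hk, ← hxe, ← map_smul]
    congr 1
    simp [eVec]
  refine ⟨a, fun v => ?_⟩
  have hm : v ∈ AddSubgroup.closure {v : (F × F) × W | hyp Q v = 0} :=
    closure_singular_eq_top (P := Q) ▸ AddSubgroup.mem_top v
  induction hm using AddSubgroup.closure_induction with
  | mem y hy => exact hsingular y hy
  | zero => simp
  | add y y' _ _ hy hy' => rw [map_add, hy, hy', smul_add]
  | neg y _ hy => rw [map_neg, hy, smul_neg]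

/-- Descending a homomorphism to the image of an action. -/
theorem exists_descend {H A T : Type*} [Group H] [Group A] [Group T] (Ψ : H →* A) (χ : H →* T)
    (K : Subgroup H) (N : Subgroup A) (hker : ∀ g ∈ K, (χ g = 1 ↔ Ψ g ∈ N))
    (hsurj : ∀ t, ∃ g ∈ K, χ g = t) :
    ∃ φ : ↥(K.map Ψ) →* T, Function.Surjective φ ∧ φ.ker = N.subgroupOf (K.map Ψ) := by
  classical
  have hmem : ∀ a : ↥(K.map Ψ), ∃ g, g ∈ K ∧ Ψ g = a.1 := fun a => Subgroup.mem_map.1 a.2
  choose s hsK hs using hmem
  have hwd : ∀ g ∈ K, ∀ g' ∈ K, Ψ g = Ψ g' → χ g = χ g' := by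
    intro g hg g' hg' e
    refine eq_of_inv_mul_eq_one ?_
    rw [← map_inv, ← map_mul, hker _ (mul_mem (inv_mem hg) hg'), map_mul, map_inv, e,
      inv_mul_cancel]
    exact one_mem _
  let φ : ↥(K.map Ψ) →* T := MonoidHom.mk' (fun a => χ (s a)) fun a b => by
    rw [← map_mul]
    exact hwd _ (hsK _) _ (mul_mem (hsK a) (hsK b))
      (by rw [hs, map_mul, hs, hs]; rfl)
  refine ⟨φ, fun t => ?_, ?_⟩
  · obtain ⟨g, hg, rfl⟩ := hsurj t
    exact ⟨⟨Ψ g, Subgroup.mem_map_of_mem Ψ hg⟩, hwd _ (hsK _) _ hg (hs _)⟩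
  · ext a
    rw [MonoidHom.mem_ker, Subgroup.mem_subgroupOf]
    show χ (s a) = 1 ↔ _
    rw [hker _ (hsK a), hs]

/-- The similarity data of a form: a similarity `δ` of multiplier `ν` and determinant `ν^n` whose
square is `ν` times a product of `k` pairs of reflections in vectors with values `c`, `ν c`. -/
def SimData {F V : Type*} [Field F] [AddCommGroup V] [Module F V] (Q : QuadraticForm F V) (ν : F)
    (n k : ℕ) : Prop :=
  ∃ (δ : V ≃ₗ[F] V) (L : List (V × V)),
    (∀ v, Q (δ v) = ν * Q v) ∧ LinearMap.det δ.toLinearMap = ν ^ n ∧ L.length = k ∧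
    (∀ p ∈ L, Q p.1 ≠ 0 ∧ Q p.2 = ν * Q p.1) ∧
    ∀ v, δ (δ v) = ν • ((L.map fun p => rf Q p.1 * rf Q p.2).prod).1 v

section model

variable {F : Type*} [Field F] [Finite F] {U : Type*} [AddCommGroup U] [Module F U] [Finite U]
  {M : QuadraticForm F U} {ι : Type} [Fintype ι] [DecidableEq ι] {Q0 : (ι → F) → F}

/-- Matrices as linear automorphisms of the model space. -/
noncomputable def toModel (e : (ι → F) ≃ₗ[F] (F × F) × ((F × F) × U)) :
    GL ι F ≃* (((F × F) × ((F × F) × U)) ≃ₗ[F] (F × F) × ((F × F) × U)) where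
  toFun g := e.symm.trans ((LinearMap.GeneralLinearGroup.generalLinearEquiv F _
    (Matrix.GeneralLinearGroup.toLin g)).trans e)
  invFun f := Matrix.GeneralLinearGroup.toLin.symm
    ((LinearMap.GeneralLinearGroup.generalLinearEquiv F _).symm (e.trans (f.trans e.symm)))
  left_inv g := by
    have : e.trans ((e.symm.trans ((LinearMap.GeneralLinearGroup.generalLinearEquiv F _
        (Matrix.GeneralLinearGroup.toLin g)).trans e)).trans e.symm) =
        LinearMap.GeneralLinearGroup.generalLinearEquiv F _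
          (Matrix.GeneralLinearGroup.toLin g) := LinearEquiv.ext fun x => by simp
    simp [this]
  right_inv f := by
    refine LinearEquiv.ext fun x => ?_
    simp
  map_mul' g h := by
    refine LinearEquiv.ext fun x => ?_
    simp

theorem toModel_apply (e : (ι → F) ≃ₗ[F] (F × F) × ((F × F) × U)) (g : GL ι F) (v : ι → F) :
    toModel e g (e v) = e ((g : Matrix ι ι F).mulVec v) := by
  show e ((LinearMap.GeneralLinearGroup.generalLinearEquiv F _
    (Matrix.GeneralLinearGroup.toLin g)) (e.symm (e v))) = _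
  rw [e.symm_apply_apply]
  rfl

theorem det_toModel (e : (ι → F) ≃ₗ[F] (F × F) × ((F × F) × U)) (g : GL ι F) :
    LinearMap.det (toModel e g).toLinearMap = (g : Matrix ι ι F).det := by
  rw [← LinearMap.det_toLin']
  exact LinearMap.det_conj (Matrix.toLin' (g : Matrix ι ι F)) e

variable (e : (ι → F) ≃ₗ[F] (F × F) × ((F × F) × U))
  (he : ∀ v, hyp (hyp M) (e v) = Q0 v)
include he

theorem sim_iff {g : GL ι F} {c : F} :
    (∀ v, Q0 ((g : Matrix ι ι F).mulVec v) = c * Q0 v) ↔
      ∀ x, hyp (hyp M) (toModel e g x) = c * hyp (hyp M) x := by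
  constructor
  · intro h x
    obtain ⟨v, rfl⟩ := e.surjective x
    rw [toModel_apply, he, he, h]
  · intro h v
    rw [← he, ← he, ← toModel_apply, h]

theorem mem_isometryGroup_iff {g : GL ι F} :
    g ∈ Cfsg.isometryGroup F Q0 ↔ toModel e g ∈ orth (hyp (hyp M)) := by
  rw [mem_orth]
  have := sim_iff e he (g := g) (c := 1)
  simp only [one_mul] at this
  rw [← this]
  exact ⟨fun h v => h v 0, fun h u _ => h u⟩

/-- `isometryGroup` as the orthogonal group of the model. -/
noncomputable def isoModel : Cfsg.isometryGroup F Q0 ≃* orth (hyp (hyp M)) where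
  toFun g := ⟨toModel e g.1, (mem_isometryGroup_iff e he).1 g.2⟩
  invFun h := ⟨(toModel e).symm h.1, (mem_isometryGroup_iff e he).2 (by simp)⟩
  left_inv g := Subtype.ext (by simp)
  right_inv h := Subtype.ext (by simp)
  map_mul' g h := Subtype.ext (map_mul _ _ _)

/-- An isometry of the model as a similarity matrix. -/
noncomputable def toSim : orth (hyp (hyp M)) →* ↥(Geo.quadSimilarityGroup (F := F) Q0) where
  toFun h := ⟨(toModel e).symm h.1, 1, fun v => by
    rw [Units.val_one, one_mul, ← he, ← he, ← toModel_apply]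
    simp⟩
  map_one' := Subtype.ext (map_one (toModel e).symm)
  map_mul' g h := Subtype.ext (map_mul (toModel e).symm _ _)

variable (hM : PolarND M) (hex : ∃ a, M a ≠ 0) (hgen : elemGroup (hyp (hyp M)) = ⊤)
include hM hex hgen

theorem mem_omega_iff {g : Cfsg.isometryGroup F Q0} :
    g ∈ Cfsg.Omega F Q0 ↔ isoModel e he g ∈ eichGroup (hyp (hyp M)) := by
  have : (Cfsg.Omega F Q0).map (isoModel e he).toMonoidHom = eichGroup (hyp (hyp M)) := by
    rw [← commutator_eq_eichGroup hM hex hgen]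
    show (commutator (Cfsg.isometryGroup F Q0)).map _ = _
    rw [commutator_def, commutator_def, Subgroup.map_commutator,
      Subgroup.map_top_of_surjective _ (isoModel e he).surjective]
  rw [← this]
  exact (Subgroup.mem_map_iff_mem (isoModel e he).injective).symm

omit [Finite U] hM hex hgen he [Finite F] in
/-- The inclusion of `Ω` in the matrix group. -/
def omegaIncl (Q0 : (ι → F) → F) : ↥(Cfsg.Omega F Q0) →* GL ι F :=
  (Cfsg.isometryGroup F Q0).subtype.comp (Cfsg.Omega F Q0).subtype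

omit [Finite U] hM hex hgen he [Finite F] in
theorem omegaIncl_injective : Function.Injective (omegaIncl (F := F) Q0) := fun _ _ h =>
  Subtype.ext (Subtype.ext h)

omit [Finite U] hM hex hgen he [Finite F] in
theorem induced_iff (g : GL ι F) (β : MulAut (Cfsg.POmega F Q0)) :
    Cfsg.IsInducedBySemilinearPOmega Q0 g (RingEquiv.refl F) β ↔
      AutPSL.Induced (omegaIncl Q0) g (RingEquiv.refl F) β :=
  ⟨fun h s s' hs => h s s' (congrArg Units.val hs), fun h s s' hs => h s s' (Units.ext hs)⟩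

omit [Finite U] hM hex hgen he [Finite F] in
theorem act_refl (g x : GL ι F) : AutPSL.act g (RingEquiv.refl F) x = g * x * g⁻¹ :=
  congrArg (fun y => g * y * g⁻¹) (AutPSL.fieldMap_one x)

omit [Finite U] hM hex hgen he [Finite F] in
theorem isometry_conj {g : GL ι F} (hg : g ∈ Geo.quadSimilarityGroup (F := F) Q0) {s : GL ι F}
    (hs : s ∈ Cfsg.isometryGroup F Q0) : g * s * g⁻¹ ∈ Cfsg.isometryGroup F Q0 := by
  obtain ⟨c, hc⟩ := hg
  intro u _
  show Q0 (((g * s * g⁻¹ : GL ι F) : Matrix ι ι F).mulVec u) = Q0 u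
  rw [Units.val_mul, Units.val_mul, ← Matrix.mulVec_mulVec, ← Matrix.mulVec_mulVec, hc]
  obtain ⟨w, rfl⟩ : ∃ w, u = (g : Matrix ι ι F).mulVec w := ⟨((g⁻¹ : GL ι F) : Matrix ι ι F).mulVec u,
    by rw [Matrix.mulVec_mulVec, ← Units.val_mul, mul_inv_cancel, Units.val_one,
      Matrix.one_mulVec]⟩
  rw [Matrix.mulVec_mulVec w, ← Units.val_mul, inv_mul_cancel, Units.val_one, Matrix.one_mulVec,
    hc]
  exact congrArg _ (hs w 0)

omit [Finite U] hM hex hgen he [Finite F] in
theorem normalises {g : GL ι F} (hg : g ∈ Geo.quadSimilarityGroup (F := F) Q0) :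
    AutPSL.Normalises (omegaIncl Q0) g (RingEquiv.refl F) := by
  intro s
  let cg : Cfsg.isometryGroup F Q0 →* Cfsg.isometryGroup F Q0 :=
    MonoidHom.mk' (fun t => ⟨g * t.1 * g⁻¹, isometry_conj hg t.2⟩) fun t t' =>
      Subtype.ext (by simp [mul_assoc])
  have : cg s.1 ∈ Cfsg.Omega F Q0 := by
    have h : (commutator (Cfsg.isometryGroup F Q0)).map cg ≤ commutator (Cfsg.isometryGroup F Q0) := by
      rw [commutator_def, Subgroup.map_commutator]
      exact Subgroup.commutator_mono le_top le_top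
    exact h (Subgroup.mem_map_of_mem cg s.2)
  exact ⟨⟨_, this⟩, (act_refl g _).symm⟩

omit hM hex hgen he in
theorem exists_action : ∃ Ψ : ↥(Geo.quadSimilarityGroup (F := F) Q0) →* MulAut (Cfsg.POmega F Q0),
    ∀ g, AutPSL.Induced (omegaIncl Q0) g.1 (RingEquiv.refl F) (Ψ g) := by
  cases nonempty_fintype F
  haveI : Finite (GL ι F) := inferInstance
  choose f hf using fun g : ↥(Geo.quadSimilarityGroup (F := F) Q0) =>
    AutPSL.exists_induced omegaIncl_injective (normalises g.2)
  refine ⟨MonoidHom.mk' f fun g h => ?_, hf⟩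
  refine AutPSL.Induced.ext (normalises (g * h).2) (hf _) ?_
  have := (hf g).comp (normalises h.2) (hf h)
  intro s s' hs
  refine this s s' ?_
  rw [hs, show AutPSL.fieldMap (RingEquiv.refl F) h.1 = h.1 from AutPSL.fieldMap_one _]
  rfl

omit [Finite U] hM hex hgen he [Finite F] in
theorem autSubgroupOf_eq_map {Ψ : ↥(Geo.quadSimilarityGroup (F := F) Q0) →* MulAut (Cfsg.POmega F Q0)}
    (hΨ : ∀ g, AutPSL.Induced (omegaIncl Q0) g.1 (RingEquiv.refl F) (Ψ g))
    (K : Subgroup ↥(Geo.quadSimilarityGroup (F := F) Q0)) (P : MulAut (Cfsg.POmega F Q0) → Prop)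
    (hP : ∀ β, P β ↔ ∃ g ∈ K, Cfsg.IsInducedBySemilinearPOmega Q0 g.1 (RingEquiv.refl F) β) :
    Cfsg.autSubgroupOf P = K.map Ψ := by
  refine le_antisymm ((Subgroup.closure_le _).2 fun β hβ => ?_) ?_
  · obtain ⟨g, hg, hgβ⟩ := (hP β).1 hβ
    exact ⟨g, hg, AutPSL.Induced.ext (normalises g.2) (hΨ g) ((induced_iff _ _).1 hgβ)⟩
  · rintro _ ⟨g, hg, rfl⟩
    exact Subgroup.subset_closure ((hP _).2 ⟨g, hg, (induced_iff _ _).2 (hΨ g)⟩)

omit [Finite U] hM hex hgen he [Finite F] in
theorem action_omega {Ψ : ↥(Geo.quadSimilarityGroup (F := F) Q0) →* MulAut (Cfsg.POmega F Q0)}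
    (hΨ : ∀ g, AutPSL.Induced (omegaIncl Q0) g.1 (RingEquiv.refl F) (Ψ g))
    (g : ↥(Geo.quadSimilarityGroup (F := F) Q0)) (s : ↥(Cfsg.Omega F Q0))
    (h : g.1 = omegaIncl Q0 s) : Ψ g = MulAut.conj (QuotientGroup.mk s) := by
  refine AutPSL.Induced.ext (normalises g.2) (hΨ g) fun t t' ht => ?_
  rw [act_refl, h, ← map_inv, ← map_mul, ← map_mul] at ht
  rw [omegaIncl_injective ht]
  rfl

/-- The kernel of the action consists of scalars. -/
theorem exists_scalar_of_action_eq_one
    {Ψ : ↥(Geo.quadSimilarityGroup (F := F) Q0) →* MulAut (Cfsg.POmega F Q0)}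
    (hΨ : ∀ g, AutPSL.Induced (omegaIncl Q0) g.1 (RingEquiv.refl F) (Ψ g))
    {g : ↥(Geo.quadSimilarityGroup (F := F) Q0)} (hg : Ψ g = 1) :
    ∃ a : F, ∀ x, toModel e g.1 x = a • x := by
  choose f hf using normalises g.2
  have hcomm : ∀ s, f s = s := by
    have hz : ∀ s, s⁻¹ * f s ∈ Subgroup.center ↥(Cfsg.Omega F Q0) := fun s => by
      have := hΨ g s (f s) (hf s)
      rw [hg] at this
      exact QuotientGroup.eq.1 this
    let ζ : ↥(Cfsg.Omega F Q0) →* ↥(Subgroup.center ↥(Cfsg.Omega F Q0)) :=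
      MonoidHom.mk' (fun s => ⟨s⁻¹ * f s, hz s⟩) fun s t => Subtype.ext (by
        have hmul : f (s * t) = f s * f t := omegaIncl_injective (by
          rw [map_mul, hf, hf, hf, map_mul, map_mul])
        show (s * t)⁻¹ * f (s * t) = s⁻¹ * f s * (t⁻¹ * f t)
        rw [hmul, mul_inv_rev, mul_assoc, ← mul_assoc s⁻¹,
          show t⁻¹ * (s⁻¹ * f s * f t) = t⁻¹ * (s⁻¹ * f s) * f t from (mul_assoc _ _ _).symm,
          (Subgroup.mem_center_iff.1 (hz s) t⁻¹), mul_assoc (s⁻¹ * f s)])
    have htop : commutator ↥(Cfsg.Omega F Q0) = ⊤ := by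
      refine Subgroup.map_injective
        (f := (isoModel e he).toMonoidHom.comp (Cfsg.Omega F Q0).subtype)
        ((isoModel e he).injective.comp Subtype.val_injective) ?_
      have hrange : (⊤ : Subgroup ↥(Cfsg.Omega F Q0)).map
          ((isoModel e he).toMonoidHom.comp (Cfsg.Omega F Q0).subtype) =
          eichGroup (hyp (hyp M)) := by
        refine le_antisymm ?_ fun h hh => ?_
        · rintro _ ⟨s, -, rfl⟩
          exact (mem_omega_iff e he hM hex hgen).1 s.2
        · refine ⟨⟨(isoModel e he).symm h, (mem_omega_iff e he hM hex hgen).2 ?_⟩, trivial, ?_⟩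
          · simpa using hh
          · simp
      rw [commutator_def, Subgroup.map_commutator, hrange, eichGroup_perfect hM hex]
    intro s
    have h1 : ζ s = 1 := by
      have hk : (⊤ : Subgroup ↥(Cfsg.Omega F Q0)) ≤ ζ.ker := by
        rw [← htop, commutator_def, Subgroup.commutator_le]
        intro x _ y _
        rw [MonoidHom.mem_ker, map_commutatorElement, commutatorElement_eq_one_iff_mul_comm]
        exact Subtype.ext (Subgroup.mem_center_iff.1 (ζ y).2 _)
      exact hk (Subgroup.mem_top s)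
    have := congrArg Subtype.val h1
    exact (inv_mul_eq_one.1 this).symm
  obtain ⟨c, hc⟩ := g.2
  refine eq_smul_of_similarity_commute_eich hM.hyp.nonsing
    (fun c => ⟨((c, 1), 0), by simp⟩) ((sim_iff e he).1 hc) fun k hk v => ?_
  obtain ⟨v, rfl⟩ := e.surjective v
  let s : ↥(Cfsg.Omega F Q0) :=
    ⟨(isoModel e he).symm k, (mem_omega_iff e he hM hex hgen).2 (by simpa using hk)⟩
  have hks : k.1 = toModel e (omegaIncl Q0 s) := by
    show k.1 = toModel e ((toModel e).symm k.1)
    rw [MulEquiv.apply_symm_apply]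
  have hgs : omegaIncl Q0 s * g.1 = g.1 * omegaIncl Q0 s := by
    have := hf s
    rw [hcomm, act_refl] at this
    conv_lhs => rw [this]
    rw [inv_mul_cancel_right]
  rw [hks]
  exact DFunLike.congr_fun ((map_mul (toModel e) _ _).symm.trans
    ((congrArg (toModel e) hgs).trans (map_mul (toModel e) _ _))) (e v)

variable (hsep : ∀ c : F, ¬IsSquare c →
      ((mixedCount (hyp M) 1 : ℤ) - mixedCount (hyp M) c) % 4 = 2)
include hsep

set_option maxHeartbeats 4000000 in
/-- The quotients by the inner automorphism group and by the special orthogonal group. -/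
theorem outer_package (h2 : (2 : F) ≠ 0) {n k : ℕ}
    (hn : Module.finrank F ((F × F) × ((F × F) × U)) = 2 * n)
    (hdata : ∀ ν : F, ν ≠ 0 → SimData (hyp (hyp M)) ν n k)
    (P : GL ι F → Prop)
    (hP : ∀ (g : GL ι F) (c : F), c ≠ 0 → (∀ v, Q0 ((g : Matrix ι ι F).mulVec v) = c * Q0 v) →
      (P g ↔ (g : Matrix ι ι F).det = c ^ n))
    (InnD : Subgroup (MulAut (Cfsg.POmega F Q0)))
    (hInnD : InnD = Cfsg.autSubgroupOf fun β => ∃ g : GL ι F,
      g ∈ Geo.quadSimilarityGroup (F := F) Q0 ∧ P g ∧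
      Cfsg.IsInducedBySemilinearPOmega Q0 g (RingEquiv.refl F) β) :
    (∃ φ : ↥(Cfsg.pgoAut F Q0) →* Multiplicative (ZMod 2 × ZMod 2), Function.Surjective φ ∧
      φ.ker = (Cfsg.psoAut F Q0).subgroupOf (Cfsg.pgoAut F Q0)) ∧
    (levelSign (hyp (hyp M)) (negOne (hyp (hyp M))) = 1 →
      (Cfsg.Inn (Cfsg.POmega F Q0)).relIndex (Cfsg.psoAut F Q0) = 2 ∧
      (∃ φ : ↥(Cfsg.pgoAut F Q0) →* DihedralGroup 4, Function.Surjective φ ∧
        φ.ker = (Cfsg.Inn (Cfsg.POmega F Q0)).subgroupOf (Cfsg.pgoAut F Q0)) ∧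
      (Even k → ∃ φ : ↥InnD →* Multiplicative (ZMod 2 × ZMod 2), Function.Surjective φ ∧
        φ.ker = (Cfsg.Inn (Cfsg.POmega F Q0)).subgroupOf InnD) ∧
      (Odd k → ∃ φ : ↥InnD →* Multiplicative (ZMod 4), Function.Surjective φ ∧
        φ.ker = (Cfsg.Inn (Cfsg.POmega F Q0)).subgroupOf InnD)) ∧
    (levelSign (hyp (hyp M)) (negOne (hyp (hyp M))) ≠ 1 →
      (Cfsg.Inn (Cfsg.POmega F Q0)).relIndex (Cfsg.psoAut F Q0) = 1 ∧
      (∃ φ : ↥(Cfsg.pgoAut F Q0) →* Multiplicative (ZMod 2 × ZMod 2), Function.Surjective φ ∧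
        φ.ker = (Cfsg.Inn (Cfsg.POmega F Q0)).subgroupOf (Cfsg.pgoAut F Q0)) ∧
      ∃ φ : ↥InnD →* Multiplicative (ZMod 2), Function.Surjective φ ∧
        φ.ker = (Cfsg.Inn (Cfsg.POmega F Q0)).subgroupOf InnD) := by
  classical
  cases nonempty_fintype F
  obtain ⟨ν, hν0, hν, -⟩ := exists_nonsquare_neg (F := F) h2
  have hne : (-1 : F) ≠ 1 := fun h => h2 (by linear_combination -h)
  obtain ⟨Ψ, hΨ⟩ := exists_action (F := F) (Q0 := Q0)
  let GS := Geo.quadSimilarityGroup (F := F) Q0
  -- multiplier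
  obtain ⟨v₁, hv₁⟩ : ∃ v, Q0 v = 1 := ⟨e.symm ((1, 1), 0), by rw [← he]; simp⟩
  have hmultex : ∀ g : ↥GS, ∃ c : Fˣ, ∀ v, Q0 ((g.1 : Matrix ι ι F).mulVec v) = (c : F) * Q0 v :=
    fun g => g.2
  choose mu hmu using hmultex
  have hmu_unique : ∀ (g : ↥GS) (c : F),
      (∀ v, Q0 ((g.1 : Matrix ι ι F).mulVec v) = c * Q0 v) → (mu g : F) = c := fun g c h => by
    have := (hmu g v₁).symm.trans (h v₁)
    rwa [hv₁, mul_one, mul_one] at this
  let μ : ↥GS →* Fˣ := MonoidHom.mk' mu fun g h => Units.ext (by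
    refine hmu_unique _ _ fun v => ?_
    rw [show ((g * h : ↥GS).1 : Matrix ι ι F) = (g.1 : Matrix ι ι F) * (h.1 : Matrix ι ι F) from rfl,
      ← Matrix.mulVec_mulVec, hmu, hmu, Units.val_mul, mul_assoc])
  let D : ↥GS →* Fˣ :=
    (Matrix.GeneralLinearGroup.det.comp GS.subtype) * (μ ^ n)⁻¹
  have hDiff : ∀ g, D g = 1 ↔ ((g.1 : GL ι F) : Matrix ι ι F).det = (mu g : F) ^ n := fun g => by
    show Matrix.GeneralLinearGroup.det g.1 * (mu g ^ n)⁻¹ = 1 ↔ _
    rw [mul_inv_eq_one, ← Units.val_inj, Units.val_pow_eq_pow_val]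
    rfl
  let ι₀ := toSim e he
  have hι₀ : ∀ h, toModel e (ι₀ h).1 = h.1 := fun h => (toModel e).apply_symm_apply _
  have hιmu : ∀ h, μ (ι₀ h) = 1 := fun h => Units.ext (hmu_unique _ _ fun v => by
    rw [← he, ← he, ← toModel_apply, hι₀, map_form, Units.val_one, one_mul])
  have hιD : ∀ h, ((D (ι₀ h) : Fˣ) : F) = LinearMap.det h.1.toLinearMap := fun h => by
    show ((Matrix.GeneralLinearGroup.det (ι₀ h).1 * (μ (ι₀ h) ^ n)⁻¹ : Fˣ) : F) = _
    rw [hιmu, one_pow, inv_one, mul_one, ← hι₀, det_toModel]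
    rfl
  -- the quotient group
  let N := (Cfsg.Inn (Cfsg.POmega F Q0)).comap Ψ
  let π := QuotientGroup.mk' N
  let πo := π.comp ι₀
  have hπ1 : ∀ g, π g = 1 ↔ Ψ g ∈ Cfsg.Inn (Cfsg.POmega F Q0) := fun g =>
    QuotientGroup.eq_one_iff g
  have hπo_eich : ∀ h ∈ eichGroup (hyp (hyp M)), πo h = 1 := fun h hh => by
    rw [MonoidHom.comp_apply, hπ1]
    refine ⟨QuotientGroup.mk (⟨(isoModel e he).symm h, (mem_omega_iff e he hM hex hgen).2
      (by simpa using hh)⟩ : ↥(Cfsg.Omega F Q0)), (action_omega hΨ _ _ rfl).symm⟩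
  have hscalar : ∀ (g : ↥GS) (a : F), (∀ x, toModel e g.1 x = a • x) → π g = 1 := by
    intro g a ha
    rw [hπ1]
    refine ⟨1, ?_⟩
    rw [map_one]
    refine AutPSL.Induced.ext (normalises g.2) ?_ (hΨ g)
    intro s s' hs
    rw [act_refl] at hs
    have : omegaIncl Q0 s' = omegaIncl Q0 s := (toModel e).injective (by
      rw [hs, map_mul, map_mul, map_inv, mul_inv_eq_iff_eq_mul]
      refine LinearEquiv.ext fun x => ?_
      show toModel e g.1 (toModel e (omegaIncl Q0 s) x) = toModel e (omegaIncl Q0 s) (toModel e g.1 x)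
      rw [ha, ha, map_smul])
    rw [omegaIncl_injective this]
    rfl
  -- the two classes of reflections
  have ha : hyp (hyp M) ((1, 1), 0) ≠ 0 := by simp
  have hb : hyp (hyp M) ((1, ν), 0) ≠ 0 := by simpa using hν0
  let ra : orth (hyp (hyp M)) := rf _ ((1, 1), 0)
  let rb : orth (hyp (hyp M)) := rf _ ((1, ν), 0)
  let X := πo ra
  let Y := πo rb
  have hsame : ∀ a b : (F × F) × ((F × F) × U), hyp (hyp M) a ≠ 0 → ∀ t : F, t ≠ 0 →
      hyp (hyp M) a = t * t * hyp (hyp M) b → πo (rf _ a) = πo (rf _ b) := by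
    intro a b ha t ht h
    have := QuotientGroup.eq.1 (mk_rf_eq hM (b := b) ha ht h)
    have := hπo_eich _ this
    rwa [map_mul, map_inv, inv_mul_eq_one] at this
  have hrfX : ∀ a, hyp (hyp M) a ≠ 0 → IsSquare (hyp (hyp M) a) → πo (rf _ a) = X := by
    rintro a ha ⟨t, ht⟩
    refine hsame a _ ha t (fun e => ha (by rw [ht, e, mul_zero])) (by rw [ht]; simp)
  have hrfY : ∀ a, hyp (hyp M) a ≠ 0 → ¬IsSquare (hyp (hyp M) a) → πo (rf _ a) = Y := by
    intro a ha hsq
    have : IsSquare (hyp (hyp M) a / ν) := by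
      rw [← quadraticChar_one_iff_isSquare (div_ne_zero ha hν0), div_eq_mul_inv, map_mul,
        quadraticChar_neg_one_iff_not_isSquare.2 hsq,
        quadraticChar_neg_one_iff_not_isSquare.2 (fun h => hν (isSquare_inv.1 h))]
      norm_num
    obtain ⟨t, ht⟩ := this
    refine hsame a _ ha t (fun e => by rw [e, mul_zero, div_eq_zero_iff] at ht; tauto)
      (by rw [← ht]; simp; field_simp)
  have hsqν : ∀ c : F, c ≠ 0 → (IsSquare (ν * c) ↔ ¬IsSquare c) := by
    intro c hc
    rw [← quadraticChar_one_iff_isSquare (mul_ne_zero hν0 hc), map_mul,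
      quadraticChar_neg_one_iff_not_isSquare.2 hν, ← quadraticChar_one_iff_isSquare hc]
    rcases quadraticChar_dichotomy hc with e | e <;> rw [e] <;> decide
  have hXX : X * X = 1 := by rw [← map_mul, rf_mul_self, map_one]
  have hYY : Y * Y = 1 := by rw [← map_mul, rf_mul_self, map_one]
  have hXY : X * Y = Y * X := by
    refine commutatorElement_eq_one_iff_mul_comm.1 ?_
    rw [← map_commutatorElement]
    refine hπo_eich _ ?_
    rw [← commutator_eq_eichGroup hM hex hgen, commutator_def]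
    exact Subgroup.commutator_mem_commutator (Subgroup.mem_top _) (Subgroup.mem_top _)
  -- the similarity
  obtain ⟨δ, L, hδ, hδdet, hLlen, hL, hδδ⟩ := hdata ν hν0
  let dd : ↥GS := ⟨(toModel e).symm δ, Units.mk0 ν hν0, fun v => by
    rw [Units.val_mk0, ← he, ← he, ← toModel_apply, MulEquiv.apply_symm_apply, hδ]⟩
  have hdd : toModel e dd.1 = δ := (toModel e).apply_symm_apply _
  have hddmu : (μ dd : F) = ν := hmu_unique _ _ fun v => by
    rw [← he, ← he, ← toModel_apply, hdd, hδ]
  let d := π dd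
  have hconj : ∀ h, d * πo h * d⁻¹ = πo (simConj δ hδ h) := by
    intro h
    show π dd * π (ι₀ h) * (π dd)⁻¹ = π (ι₀ (simConj δ hδ h))
    rw [← map_inv, ← map_mul, ← map_mul]
    congr 1
    refine Subtype.ext ((toModel e).injective ?_)
    show toModel e (dd.1 * (ι₀ h).1 * dd.1⁻¹) = toModel e (ι₀ (simConj δ hδ h)).1
    rw [map_mul, map_mul, map_inv, hdd, hι₀, hι₀]
    rfl
  have hconjX : d * X * d⁻¹ = Y := by
    rw [hconj, simConj_rf δ hδ hν0]
    refine hrfY _ (by rw [hδ]; exact mul_ne_zero hν0 ha) fun h => ?_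
    rw [hδ, hsqν _ ha] at h
    exact h ⟨1, by simp⟩
  have hconjY : d * Y * d⁻¹ = X := by
    rw [hconj, simConj_rf δ hδ hν0]
    refine hrfX _ (by rw [hδ]; exact mul_ne_zero hν0 hb) ?_
    rw [hδ]
    exact ⟨ν, by simp⟩
  have hddk : d * d = (X * Y) ^ k := by
    obtain ⟨sc, hsc⟩ : ∃ sc : ↥GS, ∀ x, toModel e sc.1 x = ν • x := by
      refine ⟨⟨(toModel e).symm (LinearEquiv.smulOfUnit (Units.mk0 ν hν0)),
        Units.mk0 (ν * ν) (mul_ne_zero hν0 hν0), fun v => ?_⟩, fun x => ?_⟩
      · rw [Units.val_mk0, ← he, ← he, ← toModel_apply, MulEquiv.apply_symm_apply]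
        exact form_smul ν _
      · rw [MulEquiv.apply_symm_apply]; rfl
    have h1 : dd * dd = sc * ι₀ (L.map fun p => rf _ p.1 * rf _ p.2).prod := by
      refine Subtype.ext ((toModel e).injective (LinearEquiv.ext fun x => ?_))
      rw [Subgroup.coe_mul, Subgroup.coe_mul, map_mul, map_mul, hdd, hι₀]
      show δ (δ x) = toModel e sc.1 _
      rw [hsc, hδδ]
      rfl
    show π dd * π dd = _
    rw [← map_mul, h1, map_mul, hscalar sc ν hsc, one_mul, ← hLlen]
    clear hδδ h1 hLlen
    induction L with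
    | nil => rw [List.map_nil, List.prod_nil, map_one, map_one, List.length_nil, pow_zero]
    | cons p L ih =>
        obtain ⟨hp1, hp2⟩ := hL p (by simp)
        rw [List.map_cons, List.prod_cons, map_mul, map_mul, ih fun q hq => hL q (by simp [hq]),
          List.length_cons, pow_succ']
        congr 1
        show π (ι₀ (rf _ p.1 * rf _ p.2)) = _
        rw [map_mul, map_mul]
        show πo (rf _ p.1) * πo (rf _ p.2) = _
        by_cases hsq : IsSquare (hyp (hyp M) p.1)
        · rw [hrfX _ hp1 hsq, hrfY _ (hp2 ▸ mul_ne_zero hν0 hp1)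
            (fun h => (hsqν _ hp1).1 (hp2 ▸ h) hsq)]
        · rw [hrfY _ hp1 hsq, hrfX _ (hp2 ▸ mul_ne_zero hν0 hp1)
            (hp2 ▸ (hsqν _ hp1).2 hsq), hXY]
  -- the two characters on the orthogonal group
  obtain ⟨hker, -⟩ := eichGroup_eq_ker_of_odd hM hex hgen h2 hsep
  have hlne : levelSign (hyp (hyp M)) ra ≠ levelSign (hyp (hyp M)) rb :=
    levelSign_rf_ne ha hb (by rw [card_level_perp, card_level_perp]; exact hsep ν hν)
  let Φ := (dickson hM.hyp.hyp (reflGroup_eq_top_of_elem hM hex hgen)).prod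
    (levelSign (hyp (hyp M)))
  have hΦa : Φ ra = (Multiplicative.ofAdd 1, levelSign (hyp (hyp M)) ra) :=
    Prod.ext (dickson_rf _ _ ha) rfl
  have hΦb : Φ rb = (Multiplicative.ofAdd 1, levelSign (hyp (hyp M)) rb) :=
    Prod.ext (dickson_rf _ _ hb) rfl
  have hΦab : Φ (ra * rb) = (1, -1) := by
    rw [map_mul, hΦa, hΦb]
    refine Prod.ext ?_ ?_
    · show Multiplicative.ofAdd (1 : ZMod 2) * Multiplicative.ofAdd 1 = 1
      decide
    · show levelSign (hyp (hyp M)) ra * levelSign (hyp (hyp M)) rb = -1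
      rcases Int.units_eq_one_or (levelSign (hyp (hyp M)) ra) with u | u <;>
        rcases Int.units_eq_one_or (levelSign (hyp (hyp M)) rb) with u' | u' <;>
        simp [u, u'] at hlne ⊢
  have hΦn : Φ (negOne _) = (1, levelSign (hyp (hyp M)) (negOne _)) := by
    refine Prod.ext ?_ rfl
    show dickson _ _ (negOne _) = 1
    rw [dickson_apply, moved_neg_one h2 (fun v => rfl), hn, ofAdd_eq_one,
      ZMod.natCast_eq_zero_iff_even]
    exact even_two_mul n
  have hcov : ∀ h, ∃ w ∈ ({1, ra, rb, ra * rb} : Set (orth (hyp (hyp M)))), Φ h = Φ w := by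
    intro h
    obtain ⟨u, hu⟩ : ∃ u, Φ h = u := ⟨_, rfl⟩
    obtain ⟨i, j⟩ := u
    have hi : i = 1 ∨ i = Multiplicative.ofAdd (1 : ZMod 2) :=
      (by decide : ∀ i : Multiplicative (ZMod 2), i = 1 ∨ i = Multiplicative.ofAdd 1) i
    rcases hi with rfl | rfl
    · rcases Int.units_eq_one_or j with rfl | rfl
      · exact ⟨1, by simp, by rw [hu, map_one]; rfl⟩
      · exact ⟨ra * rb, by simp, by rw [hu, hΦab]⟩
    · by_cases hj : j = levelSign (hyp (hyp M)) ra
      · exact ⟨ra, by simp, by rw [hu, hΦa, hj]⟩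
      · refine ⟨rb, by simp, ?_⟩
        rw [hu, hΦb]
        refine Prod.ext rfl ?_
        rcases Int.units_eq_one_or j with rfl | rfl <;>
          rcases Int.units_eq_one_or (levelSign (hyp (hyp M)) ra) with u | u <;>
          rcases Int.units_eq_one_or (levelSign (hyp (hyp M)) rb) with u' | u' <;>
          simp [u, u'] at hlne hj ⊢
  have hπS : ∀ h, πo h ∈ ({1, X, Y, X * Y} : Set (↥GS ⧸ N)) := by
    intro h
    obtain ⟨w, hw, hΦ⟩ := hcov h
    have hmem : h * w⁻¹ ∈ eichGroup (hyp (hyp M)) := by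
      rw [hker, MonoidHom.mem_ker, map_mul, map_inv, hΦ, mul_inv_cancel]
    have := hπo_eich _ hmem
    rw [map_mul, map_inv, mul_inv_eq_one] at this
    rw [this]
    rcases hw with rfl | rfl | rfl | rfl
    · exact Or.inl (map_one _)
    · exact Or.inr (Or.inl rfl)
    · exact Or.inr (Or.inr (Or.inl rfl))
    · exact Or.inr (Or.inr (Or.inr (map_mul _ _ _)))
  -- decomposition of a similarity
  have hdecomp : ∀ g : ↥GS, (IsSquare (μ g : F) ∧ ∃ h, π g = πo h) ∨
      (¬IsSquare (μ g : F) ∧ ∃ h, π g = d * πo h) := by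
    have hsq : ∀ (g : ↥GS) (l : F), l ≠ 0 → (μ g : F) = l * l → ∃ h, π g = πo h := by
      intro g l hl hgl
      have hg' := (sim_iff e he).1 (hmu g)
      let h : orth (hyp (hyp M)) := ⟨(toModel e g.1).trans (LinearEquiv.smulOfUnit (Units.mk0 l hl)⁻¹),
        fun x => by
          show hyp (hyp M) ((l⁻¹ : F) • toModel e g.1 x) = _
          rw [form_smul, hg', show (mu g : F) = l * l from hgl]
          field_simp⟩
      refine ⟨h, ?_⟩
      have hh : π g * (πo h)⁻¹ = 1 := by
        rw [MonoidHom.comp_apply, ← map_inv, ← map_mul]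
        refine hscalar _ l fun x => ?_
        show toModel e (g.1 * (ι₀ h).1⁻¹) x = l • x
        rw [map_mul, map_inv, hι₀]
        obtain ⟨y, rfl⟩ := h.1.surjective x
        show toModel e g.1 (h.1.symm (h.1 y)) = l • h.1 y
        rw [h.1.symm_apply_apply]
        show _ = l • ((l⁻¹ : F) • toModel e g.1 y)
        rw [smul_inv_smul₀ hl]
      exact mul_inv_eq_one.1 hh
    intro g
    have hg0 := (μ g).ne_zero
    by_cases hs : IsSquare (μ g : F)
    · obtain ⟨l, hl⟩ := hs
      exact Or.inl ⟨⟨l, hl⟩, hsq g l (fun e => hg0 (by rw [hl, e, mul_zero])) hl⟩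
    · right
      refine ⟨hs, ?_⟩
      have hs' : IsSquare ((μ g : F) / ν) := by
        rw [← quadraticChar_one_iff_isSquare (div_ne_zero hg0 hν0), div_eq_mul_inv, map_mul,
          quadraticChar_neg_one_iff_not_isSquare.2 hs,
          quadraticChar_neg_one_iff_not_isSquare.2 (fun h => hν (isSquare_inv.1 h))]
        norm_num
      obtain ⟨l, hl⟩ := hs'
      obtain ⟨h, hh⟩ := hsq (dd⁻¹ * g) l (fun e => by
        rw [e, mul_zero, div_eq_zero_iff] at hl; tauto) (by
        rw [map_mul, map_inv, Units.val_mul, Units.val_inv_eq_inv_val, hddmu, ← hl, div_eq_inv_mul])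
      refine ⟨h, ?_⟩
      rw [← hh, map_mul, map_inv, mul_inv_cancel_left]
  -- the kernel of `π`
  have hkerπ : ∀ g : ↥GS, π g = 1 → IsSquare (μ g : F) ∧ D g = 1 ∧
      ∀ h, g = ι₀ h → h ∈ eichGroup (hyp (hyp M)) ∨
        h * negOne _ ∈ eichGroup (hyp (hyp M)) := by
    intro g hg
    obtain ⟨q, hq⟩ := (hπ1 g).1 hg
    obtain ⟨s, rfl⟩ := QuotientGroup.mk_surjective q
    let gs : ↥GS := ⟨omegaIncl Q0 s, 1, fun v => by
      rw [Units.val_one, one_mul]; exact s.1.2 v 0⟩
    have hgs : Ψ (g * gs⁻¹) = 1 := by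
      rw [map_mul, map_inv, action_omega hΨ gs s rfl, ← hq, mul_inv_cancel]
    obtain ⟨l, hl⟩ := exists_scalar_of_action_eq_one e he hM hex hgen hΨ hgs
    let hs' := isoModel e he s.1
    have hsm : hs' ∈ eichGroup (hyp (hyp M)) := (mem_omega_iff e he hM hex hgen).1 s.2
    have hgs' : gs = ι₀ hs' := Subtype.ext ((toModel e).symm_apply_apply _).symm
    have hgx : ∀ x, toModel e g.1 x = l • hs'.1 x := fun x => by
      have := hl (hs'.1 x)
      rw [hgs', Subgroup.coe_mul, Subgroup.coe_inv, map_mul, map_inv, hι₀] at this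
      rw [← this]
      show _ = toModel e g.1 (hs'.1.symm (hs'.1 x))
      rw [hs'.1.symm_apply_apply]
    have hmug : (μ g : F) = l * l := hmu_unique _ _ fun v => by
      rw [← he, ← he, ← toModel_apply, hgx, form_smul, map_form]
    refine ⟨⟨l, hmug⟩, ?_, ?_⟩
    · rw [hDiff, ← det_toModel e, show (mu g : F) = l * l from hmug]
      have hlin : (toModel e g.1).toLinearMap = l • hs'.1.toLinearMap := LinearMap.ext fun x => hgx x
      rw [hlin, LinearMap.det_smul, hn]
      have hdet : LinearMap.det hs'.1.toLinearMap = 1 := by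
        have := hom_eq_one_of_mem_eichGroup hM hex (D.comp ι₀) hsm
        rw [← hιD, show D (ι₀ hs') = 1 from this, Units.val_one]
      rw [hdet, mul_one, pow_mul, pow_two]
    · intro h hgh
      have hx : ∀ x, h.1 x = l • hs'.1 x := fun x => by rw [← hgx, hgh, hι₀]
      have hl2 : l * l = 1 := by
        have h1 := map_form h ((1, 1), 0)
        rw [hx, form_smul, map_form] at h1
        simpa using h1
      rcases mul_self_eq_one_iff.1 hl2 with rfl | rfl
      · left
        rwa [show h = hs' from orth_ext fun x => by rw [hx, one_smul]]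
      · right
        rwa [show h * negOne _ = hs' from orth_ext fun x => by
          rw [coe_mul_apply, negOne_apply, map_neg, hx]; simp]
  have hXne : X ≠ 1 := fun h => by
    have h1 : Multiplicative.ofAdd (1 : ZMod 2) ≠ 1 := by decide
    rcases (hkerπ _ h).2.2 ra rfl with hm | hm <;> rw [hker, MonoidHom.mem_ker] at hm
    · exact h1 (congrArg Prod.fst (hΦa.symm.trans hm))
    · rw [map_mul, hΦa, hΦn] at hm
      exact h1 (by simpa using congrArg Prod.fst hm)
  have hz : X * Y = 1 ↔ levelSign (hyp (hyp M)) (negOne _) ≠ 1 := by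
    rw [← map_mul]
    constructor
    · intro h hl
      rcases (hkerπ _ h).2.2 (ra * rb) rfl with hm | hm <;> rw [hker, MonoidHom.mem_ker] at hm
      · rw [hΦab] at hm
        exact absurd (congrArg Prod.snd hm) (by decide)
      · rw [map_mul, hΦab, hΦn, hl] at hm
        exact absurd (congrArg Prod.snd hm) (by decide)
    · intro hl
      have hmem : ra * rb * negOne _ ∈ eichGroup (hyp (hyp M)) := by
        rw [hker, MonoidHom.mem_ker, map_mul, hΦab, hΦn,
          (Int.units_eq_one_or (levelSign (hyp (hyp M)) (negOne _))).resolve_left hl]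
        decide
      have h1 := hπo_eich _ hmem
      have hn1 : πo (negOne _) = 1 := hscalar _ (-1) fun x => by rw [hι₀]; simp
      rwa [map_mul, hn1, mul_one] at h1
  have hμS : ∀ g : ↥GS, π g ∈ ({1, X, Y, X * Y} : Set (↥GS ⧸ N)) → IsSquare (μ g : F) := by
    intro g hg
    obtain ⟨h, hh⟩ : ∃ h, π g = πo h := by
      rcases hg with e | e | e | e
      · exact ⟨1, by rw [e, map_one]⟩
      · exact ⟨ra, e⟩
      · exact ⟨rb, e⟩
      · exact ⟨ra * rb, by rw [e, map_mul]⟩
    have hk : π (g * (ι₀ h)⁻¹) = 1 := by rw [map_mul, map_inv, hh]; exact mul_inv_cancel _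
    have := (hkerπ _ hk).1
    rwa [map_mul, map_inv, hιmu, inv_one, mul_one] at this
  have hrel : OuterRel X Y d k :=
    { xx := hXX, yy := hYY, comm := hXY, conj := hconjX, conj' := hconjY, dd := hddk
      xne := hXne
      dnot := fun h => hν (hddmu ▸ hμS dd h)
      cover := fun q => by
        obtain ⟨g, rfl⟩ := QuotientGroup.mk'_surjective N q
        rcases hdecomp g with ⟨-, h, hh⟩ | ⟨-, h, hh⟩
        · exact Or.inl (hh ▸ hπS h)
        · refine Or.inr ?_
          show d⁻¹ * π g ∈ _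
          rw [hh, inv_mul_cancel_left]
          exact hπS h }
  -- determinants
  have hDX : ((D (ι₀ ra) : Fˣ) : F) = -1 := by rw [hιD, det_rf ha]
  have hDY : ((D (ι₀ rb) : Fˣ) : F) = -1 := by rw [hιD, det_rf hb]
  have hDd : D dd = 1 := by
    rw [hDiff, ← det_toModel e, hdd, hδdet, show (mu dd : F) = ν from hddmu]
  have hDπ : ∀ g g' : ↥GS, π g = π g' → D g = D g' := fun g g' h => by
    have := (hkerπ (g⁻¹ * g') (by rw [map_mul, map_inv, h, inv_mul_cancel])).2.1
    rwa [map_mul, map_inv, inv_mul_eq_one] at this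
  -- the three subgroups
  let SO : Subgroup ↥GS := (specialIsometryGL F Q0).subgroupOf GS
  let GI : Subgroup ↥GS := D.ker
  have hpgo : Cfsg.pgoAut F Q0 = (⊤ : Subgroup ↥GS).map Ψ :=
    autSubgroupOf_eq_map hΨ ⊤ _ fun β =>
      ⟨fun ⟨g, hg, hgβ⟩ => ⟨⟨g, hg⟩, trivial, hgβ⟩, fun ⟨g, _, hgβ⟩ => ⟨g.1, g.2, hgβ⟩⟩
  have hpso : Cfsg.psoAut F Q0 = SO.map Ψ :=
    autSubgroupOf_eq_map hΨ SO _ fun β =>
      ⟨fun ⟨g, hg, hgβ⟩ => ⟨⟨g, 1, fun v => by
        rw [Units.val_one, one_mul]; exact hg.1 v 0⟩, hg, hgβ⟩,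
        fun ⟨g, hg, hgβ⟩ => ⟨g.1, hg, hgβ⟩⟩
  have hinn : InnD = GI.map Ψ := by
    rw [hInnD]
    refine autSubgroupOf_eq_map hΨ GI _ fun β => ⟨?_, ?_⟩
    · rintro ⟨g, hg, hPg, hgβ⟩
      exact ⟨⟨g, hg⟩, (hDiff _).2 ((hP g _ (mu ⟨g, hg⟩).ne_zero (hmu ⟨g, hg⟩)).1 hPg), hgβ⟩
    · rintro ⟨g, hg, hgβ⟩
      exact ⟨g.1, g.2, (hP g.1 _ (mu g).ne_zero (hmu g)).2 ((hDiff g).1 hg), hgβ⟩
  -- images
  have himgSO : (SO.map π : Set (↥GS ⧸ N)) = {1, X * Y} := by
    refine Set.Subset.antisymm ?_ ?_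
    · rintro _ ⟨g, hg, rfl⟩
      let hg' : orth (hyp (hyp M)) := ⟨toModel e g.1, (mem_isometryGroup_iff e he).1 hg.1⟩
      have hgh : g = ι₀ hg' := Subtype.ext ((toModel e).symm_apply_apply _).symm
      have hD1 : D g = 1 := by
        refine Units.ext ?_
        rw [hgh, hιD, Units.val_one, det_toModel]
        exact congrArg Units.val (show Matrix.GeneralLinearGroup.det g.1 = 1 from hg.2)
      have hmem := hπS hg'
      rw [show πo hg' = π g by rw [hgh]; rfl] at hmem
      rcases hmem with h | h | h | h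
      · exact Or.inl h
      · have := hDπ g (ι₀ ra) h
        rw [hD1] at this
        exact absurd (by rw [← hDX, ← this, Units.val_one]) hne.symm
      · have := hDπ g (ι₀ rb) h
        rw [hD1] at this
        exact absurd (by rw [← hDY, ← this, Units.val_one]) hne.symm
      · exact Or.inr h
    · rintro _ (rfl | rfl)
      · exact one_mem _
      · refine ⟨ι₀ (ra * rb), ⟨fun u w => ?_, ?_⟩, by rw [map_mul, map_mul]; rfl⟩
        · exact ((isoModel e he).symm (ra * rb)).2 u w
        · refine Units.ext ?_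
          show ((ι₀ (ra * rb)).1 : Matrix ι ι F).det = 1
          rw [← det_toModel e, hι₀, show (ra * rb).1.toLinearMap =
            ra.1.toLinearMap ∘ₗ rb.1.toLinearMap from rfl, LinearMap.det_comp, det_rf ha, det_rf hb]
          ring
  have himgGI : (GI.map π : Set (↥GS ⧸ N)) = {1, X * Y, d, X * Y * d} := by
    have hDz : D (ι₀ (ra * rb)) = 1 := Units.ext (by
      rw [map_mul, map_mul, Units.val_mul, hDX, hDY, Units.val_one]; ring)
    have hz' : π (ι₀ (ra * rb)) = X * Y := by rw [map_mul, map_mul]; rfl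
    refine Set.Subset.antisymm ?_ ?_
    · rintro _ ⟨g, hg, rfl⟩
      have hg1 : D g = 1 := hg
      rcases hdecomp g with ⟨-, h, hh⟩ | ⟨-, h, hh⟩
      · rcases hh ▸ hπS h with e | e | e | e
        · exact Or.inl e
        · have := hDπ g (ι₀ ra) e
          rw [hg1] at this
          exact absurd (by rw [← hDX, ← this, Units.val_one]) hne.symm
        · have := hDπ g (ι₀ rb) e
          rw [hg1] at this
          exact absurd (by rw [← hDY, ← this, Units.val_one]) hne.symm
        · exact Or.inr (Or.inl e)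
      · rcases hπS h with e | e | e | e <;> rw [e] at hh
        · rw [mul_one] at hh; exact Or.inr (Or.inr (Or.inl hh))
        · have := hDπ g (dd * ι₀ ra) (by rw [hh, map_mul]; rfl)
          rw [hg1, map_mul, hDd, one_mul] at this
          exact absurd (by rw [← hDX, ← this, Units.val_one]) hne.symm
        · have := hDπ g (dd * ι₀ rb) (by rw [hh, map_mul]; rfl)
          rw [hg1, map_mul, hDd, one_mul] at this
          exact absurd (by rw [← hDY, ← this, Units.val_one]) hne.symm
        · exact Or.inr (Or.inr (Or.inr (hh.trans hrel.dz)))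
    · rintro _ (rfl | rfl | rfl | rfl)
      · exact one_mem _
      · exact ⟨_, hDz, hz'⟩
      · exact ⟨dd, hDd, rfl⟩
      · exact ⟨ι₀ (ra * rb) * dd, mul_mem (show ι₀ (ra * rb) ∈ GI from hDz) hDd,
          by rw [map_mul, hz']⟩
  have hrelIndex : (Cfsg.Inn (Cfsg.POmega F Q0)).relIndex (Cfsg.psoAut F Q0) =
      Nat.card ({1, X * Y} : Set (↥GS ⧸ N)) := by
    rw [hpso, ← Subgroup.relIndex_comap, ← himgSO]
    rw [show (Cfsg.Inn (Cfsg.POmega F Q0)).comap Ψ = π.ker from (QuotientGroup.ker_mk' N).symm,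
      Subgroup.relIndex_ker]
    rfl
  have hfromE : ∀ {T : Type} [Group T] (K : Subgroup ↥GS) (f : T →* ↥GS ⧸ N),
      Function.Injective f → (f.range : Set (↥GS ⧸ N)) = K.map π →
      ∃ φ : ↥(K.map Ψ) →* T, Function.Surjective φ ∧
        φ.ker = (Cfsg.Inn (Cfsg.POmega F Q0)).subgroupOf (K.map Ψ) := by
    intro T _ K f hf hrange
    have hex' : ∀ g : ↥K, ∃ t, f t = π g.1 := fun g => by
      have : π g.1 ∈ (f.range : Set (↥GS ⧸ N)) := hrange ▸ Subgroup.mem_map_of_mem π g.2
      exact this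
    choose t ht using hex'
    let χ : ↥K →* T := MonoidHom.mk' t fun a b => hf (by
      rw [map_mul, ht, ht, ht, ← map_mul]; rfl)
    have := exists_descend (Ψ.comp K.subtype) χ ⊤ (Cfsg.Inn (Cfsg.POmega F Q0))
      (fun g _ => by
        rw [← hf.eq_iff, map_one, show f (χ g) = π g.1 from ht g, hπ1]
        rfl)
      (fun s => by
        have : f s ∈ (K.map π : Set (↥GS ⧸ N)) := hrange ▸ ⟨s, rfl⟩
        obtain ⟨g, hg, hgs⟩ := this
        exact ⟨⟨g, hg⟩, trivial, hf ((ht _).trans hgs)⟩)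
    rwa [← Subgroup.map_map, ← MonoidHom.range_eq_map, Subgroup.range_subtype] at this
  have hfromTop : ∀ {T : Type} [Group T] (f : T →* ↥GS ⧸ N), Function.Bijective f →
      ∃ φ : ↥(Cfsg.pgoAut F Q0) →* T, Function.Surjective φ ∧
        φ.ker = (Cfsg.Inn (Cfsg.POmega F Q0)).subgroupOf (Cfsg.pgoAut F Q0) := by
    intro T _ f hf
    rw [hpgo]
    exact hfromE ⊤ f hf.1 (by
      rw [MonoidHom.range_eq_top.2 hf.2,
        Subgroup.map_top_of_surjective π (QuotientGroup.mk'_surjective N)])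
  refine ⟨?_, fun hl => ?_, fun hl => ?_⟩
  · rw [hpgo, hpso]
    let χ1 : ↥GS →* Multiplicative (ZMod 2) :=
      MonoidHom.mk' (fun g => if D g = 1 then 1 else Multiplicative.ofAdd 1) fun g h => by
        have hval : ∀ g, D g = 1 ∨ ((D g : Fˣ) : F) = -1 := by
          intro g
          rcases hdecomp g with ⟨-, h, hh⟩ | ⟨-, h, hh⟩
          · rcases hπS h with e | e | e | e <;> rw [e] at hh
            · exact Or.inl ((hDπ g 1 (by rw [hh, map_one])).trans (map_one D))
            · exact Or.inr (by rw [hDπ g (ι₀ ra) hh, hDX])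
            · exact Or.inr (by rw [hDπ g (ι₀ rb) hh, hDY])
            · refine Or.inl (Units.ext ?_)
              rw [hDπ g (ι₀ (ra * rb)) (by rw [hh, map_mul, map_mul]; rfl), map_mul, map_mul,
                Units.val_mul, hDX, hDY, Units.val_one]
              ring
          · rcases hπS h with e | e | e | e <;> rw [e] at hh
            · exact Or.inl ((hDπ g dd (by rw [hh, mul_one])).trans hDd)
            · exact Or.inr (by
                rw [hDπ g (dd * ι₀ ra) (by rw [hh, map_mul]; rfl), map_mul, hDd, one_mul, hDX])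
            · exact Or.inr (by
                rw [hDπ g (dd * ι₀ rb) (by rw [hh, map_mul]; rfl), map_mul, hDd, one_mul, hDY])
            · refine Or.inl (Units.ext ?_)
              rw [hDπ g (dd * ι₀ (ra * rb)) (by rw [hh, map_mul, map_mul, map_mul]; rfl), map_mul,
                hDd, one_mul, map_mul, map_mul, Units.val_mul, hDX, hDY, Units.val_one]
              ring
        have hn1 : ∀ u : Fˣ, (u : F) = -1 → u ≠ 1 := fun u hu e => hne (by rw [← hu, e]; rfl)
        show (if D (g * h) = 1 then (1 : Multiplicative (ZMod 2)) else _) = _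
        rcases hval g with a | a <;> rcases hval h with b | b
        · simp [a, b]
        · simp [a, hn1 _ b]
        · simp [b, hn1 _ a]
        · have : D g * D h = 1 := Units.ext (by rw [Units.val_mul, a, b, Units.val_one]; ring)
          rw [map_mul, if_pos this, if_neg (hn1 _ a), if_neg (hn1 _ b)]
          rfl
    let χ2 : ↥GS →* Multiplicative (ZMod 2) :=
      MonoidHom.mk' (fun g => if IsSquare (μ g : F) then 1 else Multiplicative.ofAdd 1) fun g h => by
        show (if IsSquare (μ (g * h) : F) then (1 : Multiplicative (ZMod 2)) else _) = _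
        have hq : IsSquare (μ (g * h) : F) ↔ (IsSquare (μ g : F) ↔ IsSquare (μ h : F)) := by
          rw [map_mul, Units.val_mul,
            ← quadraticChar_one_iff_isSquare (mul_ne_zero (μ g).ne_zero (μ h).ne_zero), map_mul,
            ← quadraticChar_one_iff_isSquare (μ g).ne_zero,
            ← quadraticChar_one_iff_isSquare (μ h).ne_zero]
          rcases quadraticChar_dichotomy (μ g).ne_zero with a | a <;>
            rcases quadraticChar_dichotomy (μ h).ne_zero with b | b <;> rw [a, b] <;> decide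
        by_cases a : IsSquare (μ g : F) <;> by_cases b : IsSquare (μ h : F) <;>
          simp only [hq, a, b, iff_self, if_true, if_false, true_iff, false_iff, not_true,
            one_mul, mul_one]
        all_goals rfl
    let eq : Multiplicative (ZMod 2) × Multiplicative (ZMod 2) ≃* Multiplicative (ZMod 2 × ZMod 2) :=
      MulEquiv.prodMultiplicative (ZMod 2) (ZMod 2) |>.symm
    refine exists_descend Ψ (eq.toMonoidHom.comp (χ1.prod χ2)) ⊤ _ (fun g _ => ?_) ?_
    · show eq (χ1 g, χ2 g) = 1 ↔ _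
      rw [MulEquiv.map_eq_one_iff, Prod.mk_eq_one]
      show ((if D g = 1 then (1 : Multiplicative (ZMod 2)) else Multiplicative.ofAdd 1) = 1 ∧
        (if IsSquare (μ g : F) then (1 : Multiplicative (ZMod 2)) else Multiplicative.ofAdd 1) = 1)
        ↔ _
      have h1 : Multiplicative.ofAdd (1 : ZMod 2) ≠ 1 := by decide
      simp only [ite_eq_left_iff, h1, imp_false, not_not]
      constructor
      · rintro ⟨hD, hs⟩
        have : π g ∈ (SO.map π : Set (↥GS ⧸ N)) := by
          have hmem : π g ∈ (GI.map π : Set (↥GS ⧸ N)) := ⟨g, hD, rfl⟩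
          rw [himgGI] at hmem
          rw [himgSO]
          rcases hmem with e | e | e | e
          · exact Or.inl e
          · exact Or.inr e
          · exact absurd (show d ∈ ({1, X, Y, X * Y} : Set _) by
              rcases hdecomp g with ⟨-, h, hh⟩ | ⟨hns, -⟩
              · rw [← e, hh]; exact hπS h
              · exact absurd hs hns) hrel.dnot
          · exact absurd (show d ∈ ({1, X, Y, X * Y} : Set _) by
              rcases hdecomp g with ⟨-, h, hh⟩ | ⟨hns, -⟩
              · have := hπS (ra * rb * h)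
                rw [map_mul, map_mul, ← hh, e, ← mul_assoc, hrel.zz, one_mul] at this
                exact this
              · exact absurd hs hns) hrel.dnot
        obtain ⟨g', hg', he'⟩ := this
        obtain ⟨q, hq⟩ := (hπ1 (g'⁻¹ * g)).1 (by rw [map_mul, map_inv, he', inv_mul_cancel])
        obtain ⟨s, rfl⟩ := QuotientGroup.mk_surjective q
        let gs : ↥GS := ⟨omegaIncl Q0 s, 1, fun v => by
          rw [Units.val_one, one_mul]; exact s.1.2 v 0⟩
        refine ⟨g' * gs, mul_mem hg' ⟨s.1.2, ?_⟩, ?_⟩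
        · show Matrix.GeneralLinearGroup.det (omegaIncl Q0 s) = 1
          exact MonoidHom.mem_ker.1 (Abelianization.commutator_subset_ker
            (Matrix.GeneralLinearGroup.det.comp (Cfsg.isometryGroup F Q0).subtype) s.2)
        · rw [map_mul, action_omega hΨ gs s rfl, hq, ← map_mul, mul_inv_cancel_left]
      · rintro ⟨g', hg', he'⟩
        have hmem : π g ∈ (SO.map π : Set (↥GS ⧸ N)) := by
          refine ⟨g', hg', ?_⟩
          refine QuotientGroup.eq.2 ?_
          show Ψ (g'⁻¹ * g) ∈ Cfsg.Inn (Cfsg.POmega F Q0)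
          rw [map_mul, map_inv, he', inv_mul_cancel]
          exact one_mem _
        refine ⟨?_, hμS g ?_⟩
        · rw [himgSO] at hmem
          rcases hmem with e | e
          · exact (hDπ g 1 (by rw [e, map_one])).trans (map_one D)
          · rw [hDπ g (ι₀ (ra * rb)) (by rw [e, map_mul, map_mul]; rfl)]
            refine Units.ext ?_
            rw [map_mul, map_mul, Units.val_mul, hDX, hDY, Units.val_one]; ring
        · rw [himgSO] at hmem
          rcases hmem with e | e
          · exact Or.inl e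
          · exact Or.inr (Or.inr (Or.inr e))
    · intro t
      obtain ⟨⟨t1, t2⟩, rfl⟩ := eq.surjective t
      have h1 : Multiplicative.ofAdd (1 : ZMod 2) ≠ 1 := by decide
      have hc : ∀ u : Multiplicative (ZMod 2), u = 1 ∨ u = Multiplicative.ofAdd 1 := by decide
      have hXD : D (ι₀ ra) ≠ 1 := fun h => hne (by rw [← hDX, h]; rfl)
      have hra : (μ (ι₀ ra) : F) = 1 := by rw [hιmu]; rfl
      rcases hc t1 with rfl | rfl <;> rcases hc t2 with rfl | rfl
      · exact ⟨1, trivial, by simp⟩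
      · refine ⟨dd, trivial, ?_⟩
        show eq (χ1 (dd), χ2 (dd)) = eq _
        refine congrArg eq (Prod.ext (if_pos hDd) (if_neg (hddmu ▸ hν)))
      · refine ⟨ι₀ ra, trivial, ?_⟩
        show eq (χ1 (ι₀ ra), χ2 (ι₀ ra)) = eq _
        refine congrArg eq (Prod.ext (if_neg hXD)
          (if_pos (hra ▸ ⟨1, (one_mul 1).symm⟩)))
      · refine ⟨dd * ι₀ ra, trivial, ?_⟩
        show eq (χ1 (dd * ι₀ ra), χ2 (dd * ι₀ ra)) = eq _
        refine congrArg eq (Prod.ext (if_neg ?_) (if_neg ?_))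
        · rw [map_mul, hDd, one_mul]; exact hXD
        · rw [map_mul, Units.val_mul, hddmu, hra, mul_one]; exact hν
  · have hz1 : X * Y ≠ 1 := fun h => hz.1 h hl
    refine ⟨?_, ?_, fun hk => ?_, fun hk => ?_⟩
    · rw [hrelIndex, Nat.card_coe_set_eq, Set.ncard_pair (Ne.symm hz1)]
    · obtain ⟨f, hf⟩ := hrel.exists_dihedral hz1
      exact hfromTop f hf
    · obtain ⟨f, hf, hr⟩ := hrel.exists_inner_klein hz1 hk
      rw [hinn]; exact hfromE GI f hf (hr.trans himgGI.symm)
    · obtain ⟨f, hf, hr⟩ := hrel.exists_inner_cyclic hz1 hk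
      rw [hinn]; exact hfromE GI f hf (hr.trans himgGI.symm)
  · have hz1 : X * Y = 1 := hz.2 hl
    refine ⟨?_, ?_, ?_⟩
    · rw [hrelIndex, hz1, Set.insert_eq_of_mem (Set.mem_singleton _)]
      simp
    · obtain ⟨f, hf⟩ := hrel.exists_klein hz1
      exact hfromTop f hf
    · obtain ⟨f, hf, hr⟩ := hrel.exists_inner_two hz1
      rw [hinn]; exact hfromE GI f hf (hr.trans himgGI.symm)

end model

end Cfsg.Agent.UnitaryOrthogonal
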