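/-
Similarities of non-square multiplier for the standard forms, and the value of the second
character at `-1`.
-/
import Cfsg.Agent.Lib.UnitaryOrthogonal.OrthOuter

set_option autoImplicit false

namespace Cfsg.Agent.UnitaryOrthogonal

open QuadraticMap

variable {F : Type*} [Field F]

theorem SimData.congr {V V' : Type*} [AddCommGroup V] [Module F V] [AddCommGroup V'] [Module F V']
    {Q : QuadraticForm F V} {Q' : QuadraticForm F V'} (e : Q.IsometryEquiv Q') {ν : F} {n k : ℕ}
    (h : SimData Q ν n k) : SimData Q' ν n k := by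
  obtain ⟨δ, L, hδ, hdet, hlen, hL, hδδ⟩ := h
  refine ⟨e.toLinearEquiv.symm.trans (δ.trans e.toLinearEquiv),
    L.map fun p => (e p.1, e p.2), fun v => ?_, ?_, ?_, ?_, fun v => ?_⟩
  · obtain ⟨w, rfl⟩ := e.toLinearEquiv.surjective v
    show Q' (e (δ (e.toLinearEquiv.symm (e.toLinearEquiv w)))) = ν * Q' (e w)
    rw [e.toLinearEquiv.symm_apply_apply, e.map_app, e.map_app, hδ]
  · rw [← hdet]
    exact LinearMap.det_conj δ.toLinearMap e.toLinearEquiv
  · rw [List.length_map, hlen]
  · intro p hp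
    obtain ⟨q, hq, rfl⟩ := List.mem_map.1 hp
    rw [e.map_app, e.map_app]
    exact hL q hq
  · obtain ⟨w, rfl⟩ := e.toLinearEquiv.surjective v
    show e (δ (e.toLinearEquiv.symm (e (δ (e.toLinearEquiv.symm (e.toLinearEquiv w)))))) = _
    rw [e.toLinearEquiv.symm_apply_apply]
    show e (δ (e.toLinearEquiv.symm (e.toLinearEquiv (δ w)))) = _
    rw [e.toLinearEquiv.symm_apply_apply, hδδ]
    clear hδδ hlen hL
    have key : ∀ L : List (V × V), (((L.map fun p => (e p.1, e p.2)).map
        fun p => rf Q' p.1 * rf Q' p.2).prod) =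
        orthCongr e ((L.map fun p => rf Q p.1 * rf Q p.2).prod) := by
      intro L
      have hrf : ∀ a, orthCongr e (rf Q a) = rf Q' (e a) := fun a => orth_ext fun x => by
        obtain ⟨y, rfl⟩ := e.toLinearEquiv.surjective x
        show (orthCongr e (rf Q a)).1 (e y) = (rf Q' (e a)).1 (e y)
        rw [orthCongr_apply, rf_apply, rf_apply, e.map_app, polar_isometryEquiv]
        simp [map_sub, map_smul]
      induction L with
      | nil => simp
      | cons p L ih =>
          rw [List.map_cons, List.map_cons, List.prod_cons, List.map_cons, List.prod_cons, ih,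
            map_mul, map_mul, hrf, hrf]
    rw [key]
    show e.toLinearEquiv (ν • _) = _
    rw [map_smul]
    congr 1
    exact (orthCongr_apply e _ w).symm

theorem simData_zeroForm (ν : F) : SimData (zeroForm F) ν 0 0 :=
  ⟨LinearEquiv.refl F _, [], fun v => by simp [zeroForm],
    (LinearMap.det_id : LinearMap.det (LinearMap.id (R := F) (M := Fin 0 → F)) = 1).trans (pow_zero ν).symm,
    rfl, by simp, fun v => Subsingleton.elim _ _⟩

theorem SimData.hyp {W : Type*} [AddCommGroup W] [Module F W] [FiniteDimensional F W]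
    {Q : QuadraticForm F W} {ν : F} (hν : ν ≠ 0) {n k : ℕ} (h : SimData Q ν n k) :
    SimData (hyp Q) ν (n + 1) (k + 1) := by
  obtain ⟨δ, L, hδ, hdet, hlen, hL, hδδ⟩ := h
  let δ₂ : (F × F) ≃ₗ[F] F × F :=
    (LinearEquiv.smulOfUnit (Units.mk0 ν hν)).prodCongr (LinearEquiv.refl F F)
  refine ⟨δ₂.prodCongr δ,
    (((1, 1), 0), ((1, ν), 0)) :: L.map fun p => (((0, 0), p.1), ((0, 0), p.2)),
    fun v => ?_, ?_, by simp [hlen], ?_, fun v => ?_⟩
  · show UnitaryOrthogonal.hyp Q ((ν * v.1.1, v.1.2), δ v.2) = _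
    simp [hδ]; ring
  · rw [show (δ₂.prodCongr δ).toLinearMap = δ₂.toLinearMap.prodMap δ.toLinearMap from rfl,
      LinearMap.det_prodMap, hdet,
      show δ₂.toLinearMap = (ν • (LinearMap.id : F →ₗ[F] F)).prodMap LinearMap.id from rfl,
      LinearMap.det_prodMap, LinearMap.det_smul, LinearMap.det_id, Module.finrank_self]
    ring
  · intro p hp
    rcases List.mem_cons.1 hp with rfl | hp
    · simp
    · obtain ⟨q, hq, rfl⟩ := List.mem_map.1 hp
      simpa using hL q hq
  · have hkey : ∀ L : List (W × W), ((L.map fun p => ((((0 : F), (0 : F)), p.1),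
        (((0 : F), (0 : F)), p.2))).map fun p => rf (UnitaryOrthogonal.hyp Q) p.1 * rf _ p.2).prod =
        emb ((L.map fun p => rf Q p.1 * rf Q p.2).prod) := by
      intro L
      induction L with
      | nil => simp
      | cons p L ih =>
          rw [List.map_cons, List.map_cons, List.prod_cons, List.map_cons, List.prod_cons, ih,
            map_mul, map_mul, emb_rf, emb_rf]
    obtain ⟨⟨x, y⟩, w⟩ := v
    rw [List.map_cons, List.prod_cons, hkey, coe_mul_apply, coe_mul_apply, emb_apply]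
    show ((ν * (ν * x), y), δ (δ w)) = _
    rw [hδδ]
    simp [rf_apply, polar_hyp, Prod.ext_iff]
    constructor <;> field_simp <;> ring_nf <;> simp

theorem SimData.hypSum {W : Type*} [AddCommGroup W] [Module F W] [Finite F] [Finite W]
    {Q : QuadraticForm F W} {ν : F} (hν : ν ≠ 0) {n k : ℕ} (h : SimData Q ν n k) :
    ∀ m, SimData (hypSum m Q) ν (n + m) (k + m)
  | 0 => h.congr (hypSumZero Q).symm
  | m + 1 => by
      haveI : Module.Finite F W := Module.Finite.of_finite
      exact ((SimData.hypSum hν h m).hyp hν).congr (hypSumSucc Q m).symm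

theorem simData_binForm [Finite F] {a b : F} (hab : BinAniso a b) {ν : F} (hν : ν ≠ 0) :
    SimData (binForm a b) ν 1 1 := by
  obtain ⟨z, hz⟩ := hab.exists_form_eq ν
  have hdet : LinearMap.det (binMul a b z) = ν := by
    rw [← LinearMap.det_toMatrix (Module.Basis.finTwoProd F), Matrix.det_fin_two]
    simp [LinearMap.toMatrix_apply, binMul]
    rw [← hz, binForm_apply]
    ring
  refine ⟨LinearEquiv.ofBijective (binMul a b z) ?_, [((1, 0), (z.1 + a * z.2, -z.2))],
    fun v => ?_, ?_, rfl, ?_, fun v => ?_⟩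
  · have hinj : Function.Injective (binMul a b z) := by
      rw [← LinearMap.ker_eq_bot]
      refine LinearMap.ker_eq_bot'.2 fun v hv => ?_
      have := binForm_binMul (a := a) (b := b) z v
      rw [hv, QuadraticMap.map_zero, hz, eq_comm, mul_eq_zero] at this
      exact hab.eq_zero (this.resolve_left hν)
    exact ⟨hinj, (LinearMap.injective_iff_surjective.1 hinj)⟩
  · show binForm a b (binMul a b z v) = _
    rw [binForm_binMul, hz]
  · rw [pow_one]; exact hdet
  · intro p hp
    rw [List.mem_singleton] at hp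
    subst hp
    constructor
    · simp [binForm_apply]
    · rw [← hz, binForm_apply, binForm_apply, binForm_apply]; ring
  · have hz' : binForm a b (z.1 + a * z.2, -z.2) = ν := by
      rw [← hz, binForm_apply, binForm_apply]; ring
    have h1 : binForm a b (1, 0) = 1 := by rw [binForm_apply]; ring
    show binMul a b z (binMul a b z v) = _
    rw [List.map_singleton, List.prod_singleton, coe_mul_apply]
    show _ = ν • ((rf (binForm a b) (1, 0)).1 ((rf (binForm a b) (z.1 + a * z.2, -z.2)).1 v))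
    rw [rf_apply, rf_apply, h1, hz']
    simp only [polar_binForm, binMul, LinearMap.coe_mk, AddHom.coe_mk, Prod.smul_mk, Prod.fst_sub,
      Prod.snd_sub, Prod.smul_fst, Prod.smul_snd, smul_eq_mul]
    have hν' : ν = z.1 * z.1 + a * (z.1 * z.2) + b * (z.2 * z.2) := by
      rw [← hz, binForm_apply]; ring
    refine Prod.ext ?_ ?_ <;> simp <;> field_simp <;> rw [hν'] <;> ring

section sign

variable [Finite F]

theorem hypSum_two_neg_one_sign (h2 : (2 : F) ≠ 0) {W : Type*} [AddCommGroup W] [Module F W]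
    [Finite W] (Q : QuadraticForm F W) (j : ℕ) :
    levelSign (hyp (hyp (hypSum j Q))) (negOne _) = 1 ↔
      Even (level (hypSum (j + 2) Q) 1 / 2) := by
  rw [levelSign_neg_one h2 (fun v => rfl), ← level_congr (hypSumTwo Q j)]
  exact neg_one_pow_eq_one_iff_even (by decide)

theorem even_half_level_plus (h2 : (2 : F) ≠ 0) (k : ℕ) :
    Even (level (hypSum (k + 2) (zeroForm F)) 1 / 2) ↔ Nat.card F ^ (k + 2) % 4 = 1 := by
  cases nonempty_fintype F
  have hX : 0 < Nat.card F ^ (k + 2) := Nat.pow_pos Nat.card_pos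
  have hodd := odd_natCard (F := F) h2
  have hoddq : Odd (Nat.card F) := Nat.odd_iff.2 (by omega)
  have hl := level_hypSum (Q := zeroForm F) 1 (k + 2)
  have h0 : level (zeroForm F) (1 : F) = 0 := by
    rw [level, Nat.card_eq_zero]
    exact Or.inl ⟨fun v => by have := v.2; simp [zeroForm] at this⟩
  rw [h0, Nat.card_eq_fintype_card (α := Fin 0 → F), Fintype.card_unique, mul_one, mul_one,
    mul_zero, add_zero] at hl
  obtain ⟨X, hX'⟩ : ∃ X, Nat.card F ^ (k + 2) = X + 1 := ⟨_, (Nat.succ_pred hX.ne').symm⟩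
  have hL : level (hypSum (k + 2) (zeroForm F)) 1 = Nat.card F ^ (k + 1) * X := by
    refine Nat.eq_of_mul_eq_mul_left (Nat.card_pos (α := F)) ?_
    have e : Nat.card F ^ (2 * (k + 2)) = (X + 1) * (X + 1) := by rw [← hX', ← pow_add, two_mul]
    have e' : Nat.card F * Nat.card F ^ (k + 1) = X + 1 := by rw [← hX', ← pow_succ']
    rw [e, hX'] at hl
    rw [← mul_assoc, e']
    nlinarith [hl]
  have hX2 : 2 ∣ X := by
    obtain ⟨t, ht⟩ := (hoddq.pow : Odd (Nat.card F ^ (k + 2)))
    omega
  obtain ⟨r, rfl⟩ := hX2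
  rw [hX', hL, Nat.mul_div_assoc _ (dvd_mul_right 2 r), Nat.mul_div_cancel_left _ two_pos,
    Nat.even_mul, or_iff_right (Nat.not_even_iff_odd.2 hoddq.pow), Nat.even_iff]
  omega

theorem even_half_level_minus {a b : F} (hab : BinAniso a b) (h2 : (2 : F) ≠ 0) (k : ℕ) :
    Even (level (hypSum (k + 2) (binForm a b)) 1 / 2) ↔ Nat.card F ^ (k + 3) % 4 = 3 := by
  cases nonempty_fintype F
  have hodd := odd_natCard (F := F) h2
  have hoddq : Odd (Nat.card F) := Nat.odd_iff.2 (by omega)
  have hl := level_hypSum (Q := binForm a b) 1 (k + 2)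
  rw [hab.level_eq one_ne_zero, Nat.card_prod] at hl
  obtain ⟨Y, hY⟩ : ∃ Y, Nat.card F ^ (k + 3) = Y := ⟨_, rfl⟩
  have hL : level (hypSum (k + 2) (binForm a b)) 1 = Nat.card F ^ (k + 2) * (Y + 1) := by
    refine Nat.eq_of_mul_eq_mul_left (Nat.card_pos (α := F)) ?_
    have e1 : Nat.card F ^ (k + 2) * (Nat.card F * Nat.card F) = Nat.card F * Y := by
      rw [← hY]; ring
    have e2 : Nat.card F ^ (2 * (k + 2)) * (Nat.card F * Nat.card F) = Y * Y := by
      rw [← hY]; ring
    have e3 : Nat.card F ^ (k + 2 + 1) = Y := hY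
    rw [e1, e2, e3] at hl
    rw [← mul_assoc, ← pow_succ', e3]
    nlinarith [hl]
  have hY2 : 2 ∣ Y + 1 := by
    obtain ⟨t, ht⟩ := (hoddq.pow : Odd (Nat.card F ^ (k + 3)))
    omega
  obtain ⟨r, hr'⟩ := hY2
  rw [hY, hL, hr', Nat.mul_div_assoc _ (dvd_mul_right 2 r), Nat.mul_div_cancel_left _ two_pos,
    Nat.even_mul, or_iff_right (Nat.not_even_iff_odd.2 hoddq.pow), Nat.even_iff]
  omega

end sign

theorem pow_mod_four_eq_one_iff {q : ℕ} (hq : Odd q) (m : ℕ) :
    q ^ m % 4 = 1 ↔ ¬(Odd m ∧ q % 4 = 3) := by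
  rw [Nat.pow_mod]
  rcases Nat.odd_mod_four_iff.1 (Nat.odd_iff.1 hq) with h | h <;> rw [h]
  · simp
  · rcases Nat.even_or_odd' m with ⟨t, rfl | rfl⟩
    · simp [pow_mul, Nat.pow_mod]
    · simp [pow_succ, pow_mul, Nat.mul_mod, Nat.pow_mod]

theorem pow_succ_mod_four_eq_three_iff {q : ℕ} (hq : Odd q) (m : ℕ) :
    q ^ (m + 1) % 4 = 3 ↔ Even m ∧ q % 4 = 3 := by
  have h1 := pow_mod_four_eq_one_iff hq (m + 1)
  have h2 : q ^ (m + 1) % 4 = 1 ∨ q ^ (m + 1) % 4 = 3 :=
    Nat.odd_mod_four_iff.1 (Nat.odd_iff.1 hq.pow)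
  rw [Nat.odd_add_one, Nat.not_odd_iff_even] at h1
  constructor
  · intro h
    exact Classical.not_not.1 fun hn => by have := h1.2 hn; omega
  · intro h
    rcases h2 with e | e
    · exact absurd h (h1.1 e)
    · exact e

end Cfsg.Agent.UnitaryOrthogonal
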