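/-
The field of `q²` elements as a quadratic algebra attached to an anisotropic binary form.
-/
import Cfsg.Agent.Lib.UnitaryOrthogonal.Binary

set_option autoImplicit false

namespace Cfsg.Agent.UnitaryOrthogonal

open QuadraticMap QuadraticAlgebra

variable {F : Type*} [Field F] {a b : F} [Finite F]

instance quadExt_finite (c d : F) : Finite (QuadraticAlgebra F c d) :=
  Finite.of_equiv _ (QuadraticAlgebra.equivProd c d).symm

theorem quadExt_card (c d : F) :
    Nat.card (QuadraticAlgebra F c d) = Nat.card F ^ 2 := by
  rw [Nat.card_congr (QuadraticAlgebra.equivProd c d), Nat.card_prod, pow_two]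

omit [Finite F] in
theorem norm_eq_binForm (z : QuadraticAlgebra F (-b) a) :
    norm z = binForm a b (z.re, z.im) := by
  rw [binForm_apply, norm_def]; ring

/-- Elements fixed by `star` lie in the base field. -/
theorem im_eq_zero_of_star_eq (hab : BinAniso a b) {z : QuadraticAlgebra F (-b) a}
    (h : star z = z) : z.im = 0 := by
  have h1 := congrArg QuadraticAlgebra.re h
  have h2 := congrArg QuadraticAlgebra.im h
  simp only [re_star, im_star] at h1 h2
  by_cases h0 : (2 : F) = 0
  · exact (mul_eq_zero.1 (show a * z.im = 0 by linear_combination h1)).resolve_left (hab.a_ne_zero h0)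
  · exact (mul_eq_zero.1 (show (2 : F) * z.im = 0 by linear_combination -h2)).resolve_left h0

variable [Fact (∀ r : F, r ^ 2 ≠ -b + a * r)]

/-- Conjugation is the Frobenius of the base field. -/
theorem star_eq_pow_card [Fintype F] (z : QuadraticAlgebra F (-b) a) :
    star z = z ^ Fintype.card F := by
  classical
  let φ : QuadraticAlgebra F (-b) a →ₐ[F] QuadraticAlgebra F (-b) a :=
    FiniteField.frobeniusAlgHom F _
  have hφ : ∀ x, φ x = x ^ Fintype.card F := fun x => rfl
  obtain ⟨y, hy⟩ : ∃ y, y = φ ω := ⟨_, rfl⟩
  have hy2 : y * y = algebraMap F _ (-b) + algebraMap F _ a * y := by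
    rw [hy, ← map_mul, omega_mul_omega_eq_algebraMap, map_add, map_mul, AlgHom.commutes,
      AlgHom.commutes]
  have hω : (ω : QuadraticAlgebra F (-b) a) * ω = algebraMap F _ (-b) + algebraMap F _ a * ω :=
    omega_mul_omega_eq_algebraMap
  have hroot : (y - ω) * (y + ω - algebraMap F _ a) = 0 := by linear_combination hy2 - hω
  rcases mul_eq_zero.1 hroot with e | e
  · -- the Frobenius cannot be the identity
    exfalso
    have hid : φ = AlgHom.id F _ := algHom_ext (by
      rw [AlgHom.id_apply, ← hy]; exact sub_eq_zero.1 e)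
    cases nonempty_fintype (QuadraticAlgebra F (-b) a)
    obtain ⟨g, hg⟩ := IsCyclic.exists_generator (α := (QuadraticAlgebra F (-b) a)ˣ)
    have hord : orderOf g = Fintype.card F ^ 2 - 1 := by
      rw [orderOf_eq_card_of_forall_mem_zpowers hg, Nat.card_units, quadExt_card,
        Nat.card_eq_fintype_card]
    have hg1 : g ^ (Fintype.card F - 1) = 1 := by
      refine Units.ext (mul_left_cancel₀ g.ne_zero ?_)
      rw [Units.val_pow_eq_pow_val, Units.val_one, mul_one, ← pow_succ',
        Nat.sub_add_cancel Fintype.card_pos, ← hφ, hid]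
      rfl
    have hq := Fintype.one_lt_card (α := F)
    have := Nat.le_of_dvd (by omega) (hord ▸ orderOf_dvd_of_pow_eq_one hg1)
    have : Fintype.card F < Fintype.card F ^ 2 := by nlinarith
    omega
  · have hy' : φ ω = ⟨a, -1⟩ := by
      rw [← hy, show y = algebraMap F _ a - ω by linear_combination e]
      ext <;> simp
    have hz : z = algebraMap F _ z.re + z.im • (ω : QuadraticAlgebra F (-b) a) :=
      mk_eq_add_smul_omega z.re z.im
    rw [← hφ]
    conv_rhs => rw [hz, map_add, map_smul, AlgHom.commutes, hy']
    ext <;> simp [mul_comm]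

end Cfsg.Agent.UnitaryOrthogonal
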