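/-
When a similarity preserves the two classes of maximal totally singular subspaces.
-/
import Cfsg.Agent.Lib.UnitaryOrthogonal.OuterData
import Cfsg.Agent.Lib.UnitaryOrthogonal.QuadExt

set_option autoImplicit false

namespace Cfsg.Agent.UnitaryOrthogonal

open QuadraticMap Module

theorem reflGroup_qPlus {K : Type*} [Field K] [Finite K] (k : ℕ) :
    reflGroup (qPlus (k + 3) K) = ⊤ := by
  refine reflGroup_congr ((qPlusIso (k + 3) K).trans (hypSumTwo (zeroForm K) (k + 1))).symm ?_
  exact reflGroup_eq_top_of_elem ((polarND_zeroForm (F := K)).hypSum _)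
    (exists_hypSum_ne_zero (k + 1) (Or.inl (by omega)))
    (elemGroup_hypHyp polarND_zeroForm reflGroup_zeroForm (k + 1))

theorem polarND_qPlus {K : Type*} [Field K] (n : ℕ) : PolarND (qPlus n K) :=
  PolarND.congr (qPlusIso n K).symm ((polarND_zeroForm (F := K)).hypSum n)

/-- A similarity of a split form preserves the classes exactly when its determinant is the `n`-th
power of the multiplier. -/
theorem preservesSingularClasses_iff {K : Type*} [Field K] [Finite K] (h2 : (2 : K) ≠ 0)
    {ι : Type} [Fintype ι] [DecidableEq ι] {k : ℕ} {Qf : (ι → K) → K}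
    {Q : QuadraticForm K (ι → K)} (hQf : ∀ v, Q v = Qf v) (e : Q.IsometryEquiv (qPlus (k + 3) K))
    {g : GL ι K} {c : K} (hc : c ≠ 0) (hg : ∀ v, Qf ((g : Matrix ι ι K).mulVec v) = c * Qf v) :
    Cfsg.PreservesSingularClasses Qf (g : Matrix ι ι K) ↔
      (g : Matrix ι ι K).det = c ^ (k + 3) := by
  let gl : (ι → K) ≃ₗ[K] ι → K :=
    LinearMap.GeneralLinearGroup.generalLinearEquiv K _ (Matrix.GeneralLinearGroup.toLin g)
  have hgl : gl.toLinearMap = Matrix.toLin' (g : Matrix ι ι K) := rfl
  have hgQ : ∀ v, Q (gl v) = c * Q v := fun v => by rw [hQf, hQf]; exact hg v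
  have hND : PolarND Q := PolarND.congr e.symm (polarND_qPlus _)
  have hgen : reflGroup Q = ⊤ := reflGroup_congr e.symm (reflGroup_qPlus k)
  have hdim : finrank K (ι → K) = 2 * (k + 3) := by
    rw [e.toLinearEquiv.finrank_eq, Module.finrank_pi, Fintype.card_sum, Fintype.card_fin]
    ring
  let inl : (Fin (k + 3) → K) →ₗ[K] Fin (k + 3) ⊕ Fin (k + 3) → K :=
    LinearMap.pi (Sum.elim (fun i => LinearMap.proj i) fun _ => 0)
  let U₀ : Submodule K (ι → K) := (LinearMap.range inl).map e.toLinearEquiv.symm.toLinearMap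
  have hU₀ : TotSing Q U₀ := by
    rintro _ ⟨_, ⟨f, rfl⟩, rfl⟩
    rw [LinearEquiv.coe_coe, ← e.map_app]
    show qPlus (k + 3) K (e.toLinearEquiv (e.toLinearEquiv.symm (inl f))) = 0
    rw [e.toLinearEquiv.apply_symm_apply, qPlus_apply]
    simp [Cfsg.quadFormPlus, inl]
  have hU₀m : finrank K U₀ = k + 3 := by
    rw [LinearEquiv.finrank_map_eq, LinearMap.finrank_range_of_inj, Module.finrank_fin_fun]
    intro f f' hff
    funext i
    exact congrFun hff (Sum.inl i)
  have hsm : ∀ x : K, (LinearEquiv.smulOfUnit (Units.mk0 c hc)) x = c * x := fun x => rfl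
  let δ₀ : (Fin (k + 3) ⊕ Fin (k + 3) → K) ≃ₗ[K] Fin (k + 3) ⊕ Fin (k + 3) → K :=
    LinearEquiv.piCongrRight (Sum.elim (fun _ => LinearEquiv.smulOfUnit (Units.mk0 c hc))
      fun _ => LinearEquiv.refl K K)
  let δ : (ι → K) ≃ₗ[K] ι → K := e.toLinearEquiv.trans (δ₀.trans e.toLinearEquiv.symm)
  have hδQ : ∀ v, Q (δ v) = c * Q v := fun v => by
    rw [← e.map_app, ← e.map_app v]
    show qPlus (k + 3) K (e.toLinearEquiv (e.toLinearEquiv.symm (δ₀ (e v)))) = _
    rw [e.toLinearEquiv.apply_symm_apply, qPlus_apply, qPlus_apply]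
    simp [Cfsg.quadFormPlus, δ₀, Finset.mul_sum, hsm, mul_assoc]
  have hδU : U₀.map δ.toLinearMap = U₀ := by
    refine Submodule.eq_of_le_of_finrank_eq ?_ (LinearEquiv.finrank_map_eq δ U₀)
    rintro _ ⟨_, ⟨_, ⟨f, rfl⟩, rfl⟩, rfl⟩
    refine ⟨inl (c • f), ⟨_, rfl⟩, ?_⟩
    show e.toLinearEquiv.symm _ =
      e.toLinearEquiv.symm (δ₀ (e.toLinearEquiv (e.toLinearEquiv.symm (inl f))))
    rw [e.toLinearEquiv.apply_symm_apply]
    refine congrArg _ ?_
    funext i
    rcases i with i | i <;> simp [inl, δ₀, hsm]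
  have hδd : LinearMap.det δ.toLinearMap = c ^ (k + 3) := by
    have h1 : LinearMap.det δ.toLinearMap = LinearMap.det δ₀.toLinearMap :=
      LinearMap.det_conj δ₀.toLinearMap e.toLinearEquiv.symm
    rw [h1, show δ₀.toLinearMap = Matrix.toLin'
      (Matrix.diagonal (Sum.elim (fun _ => c) fun _ => 1)) from ?_, LinearMap.det_toLin',
      Matrix.det_diagonal, Fintype.prod_sum_type]
    · simp
    · refine LinearMap.ext fun v => funext fun i => ?_
      rcases i with i | i <;> simp [δ₀, Matrix.mulVec_diagonal, hsm]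
  have hne : (-1 : K) ≠ 1 := fun h => h2 (by linear_combination -h)
  have hTS : ∀ X : Submodule K (ι → K), Geo.IsTotallySingularQuad Qf X ↔ TotSing Q X := fun X =>
    ⟨fun h x hx => (hQf x).trans (h x hx), fun h x hx => (hQf x).symm.trans (h x hx)⟩
  have hmax : ∀ X, Cfsg.IsMaxTotallySingular Qf X → TotSing Q X ∧ finrank K X = k + 3 := by
    rintro X ⟨hX, hm⟩
    exact ⟨(hTS X).1 hX, TotSing.finrank_of_maximal hND hdim hU₀ hU₀m ((hTS X).1 hX)
      fun Y hY hle => hm Y ((hTS Y).2 hY) hle⟩
  have hmax' : Cfsg.IsMaxTotallySingular Qf U₀ := by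
    refine ⟨(hTS U₀).2 hU₀, fun Y hY hle => ?_⟩
    refine (Submodule.eq_of_le_of_finrank_le hle ?_).symm
    have := ((hTS Y).1 hY).two_finrank_le hND
    omega
  have hsign : ∀ X, TotSing Q X → finrank K X = k + 3 →
      (Cfsg.SameParityClass X (Cfsg.imageSubmodule (g : Matrix ι ι K) X) ↔
        (g : Matrix ι ι K).det = c ^ (k + 3)) := by
    intro X hX hXm
    have h1 := paritySign_similarity_eq hND hdim hgen hU₀ hU₀m gl hgQ hc δ hδQ hδU hδd hX hXm
    rw [hgl, LinearMap.det_toLin'] at h1
    rw [← h1, Cfsg.SameParityClass, Cfsg.imageSubmodule, mul_eq_right₀ (pow_ne_zero _ hc),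
      paritySign]
    constructor
    · intro he; exact he.neg_one_pow
    · intro he
      by_contra hodd
      rw [Nat.not_even_iff_odd] at hodd
      rw [hodd.neg_one_pow] at he
      exact hne he
  constructor
  · intro h
    exact (hsign U₀ hU₀ hU₀m).1 (h U₀ hmax')
  · intro h U hU
    exact (hsign U (hmax U hU).1 (hmax U hU).2).2 h

theorem preservesSingularClassesPlus_iff {F : Type*} [Field F] [Finite F] (h2 : (2 : F) ≠ 0)
    {k : ℕ} {g : GL (Fin (k + 3) ⊕ Fin (k + 3)) F} {c : F} (hc : c ≠ 0)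
    (hg : ∀ v, Cfsg.quadFormPlus (k + 3) F
      ((g : Matrix (Fin (k + 3) ⊕ Fin (k + 3)) (Fin (k + 3) ⊕ Fin (k + 3)) F).mulVec v) =
        c * Cfsg.quadFormPlus (k + 3) F v) :
    Cfsg.PreservesSingularClasses (Cfsg.quadFormPlus (k + 3) F)
      (g : Matrix (Fin (k + 3) ⊕ Fin (k + 3)) (Fin (k + 3) ⊕ Fin (k + 3)) F) ↔
      (g : Matrix (Fin (k + 3) ⊕ Fin (k + 3)) (Fin (k + 3) ⊕ Fin (k + 3)) F).det = c ^ (k + 3) :=
  preservesSingularClasses_iff h2 (qPlus_apply _) (QuadraticMap.IsometryEquiv.refl _) hc hg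

universe u

/-- Every element of the base field is a square in a quadratic extension. -/
theorem isSquare_algebraMap {F K : Type*} [Field F] [Finite F] [Field K] [Finite K] [Algebra F K]
    (h2 : (2 : F) ≠ 0) (hfin : finrank F K = 2) (x : F) : IsSquare (algebraMap F K x) := by
  classical
  cases nonempty_fintype F
  cases nonempty_fintype K
  by_cases hx : x = 0
  · exact ⟨0, by simp [hx]⟩
  have h2K : (2 : K) ≠ 0 := fun h => h2 ((algebraMap F K).injective (by rw [map_zero, map_ofNat, h]))
  have hcard : Fintype.card K = Fintype.card F ^ 2 := by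
    rw [Module.card_eq_pow_finrank (K := F), hfin]
  have hch : ringChar K ≠ 2 := fun h => h2K (by
    haveI : CharP K 2 := h ▸ inferInstance
    exact CharTwo.two_eq_zero)
  rw [FiniteField.isSquare_iff hch (by simpa using hx), ← map_pow]
  have hodd : Fintype.card F % 2 = 1 := FiniteField.odd_card_of_char_ne_two (fun h => h2 (by
    haveI : CharP F 2 := h ▸ inferInstance
    exact CharTwo.two_eq_zero))
  obtain ⟨t, ht⟩ : ∃ t, Fintype.card F = 2 * t + 1 := ⟨Fintype.card F / 2, by omega⟩
  have hhalf : Fintype.card K / 2 = (Fintype.card F - 1) * (t + 1) := by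
    rw [hcard, ht, Nat.add_sub_cancel,
      show (2 * t + 1) ^ 2 = 2 * (2 * t * (t + 1)) + 1 by ring]
    omega
  rw [hhalf, pow_mul, FiniteField.pow_card_sub_one_eq_one x hx, one_pow, map_one]

section minus

variable {K : Type*} [Field K]

/-- With a root of `X² + aX + b`, the minus form is split. -/
theorem nonempty_qMinus_equiv (m : ℕ) {a b t : K} (ht : t * t + a * t + b = 0)
    (hd : a + 2 * t ≠ 0) :
    Nonempty ((qMinus m K a b).IsometryEquiv (qPlus (m + 1) K)) := by
  have hbin : Nonempty ((binForm a b).IsometryEquiv (hyp (zeroForm K))) := by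
    refine ⟨{ toFun := fun v => ((v.1 - t * v.2, v.1 + (a + t) * v.2), 0)
              invFun := fun v => (v.1.1 + t * ((v.1.2 - v.1.1) / (a + 2 * t)),
                (v.1.2 - v.1.1) / (a + 2 * t))
              map_add' := fun v w => by
                refine Prod.ext (Prod.ext ?_ ?_) (Subsingleton.elim _ _) <;> simp <;> ring
              map_smul' := fun r v => by
                refine Prod.ext (Prod.ext ?_ ?_) (Subsingleton.elim _ _) <;> simp <;> ring
              left_inv := fun v => by
                have e : (v.1 + (a + t) * v.2 - (v.1 - t * v.2)) / (a + 2 * t) = v.2 := by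
                  rw [div_eq_iff hd]; ring
                show (v.1 - t * v.2 + t * ((v.1 + (a + t) * v.2 - (v.1 - t * v.2)) / (a + 2 * t)),
                  (v.1 + (a + t) * v.2 - (v.1 - t * v.2)) / (a + 2 * t)) = v
                rw [e, sub_add_cancel]
              right_inv := fun v => by
                obtain ⟨w, hw⟩ : ∃ w, w = (v.1.2 - v.1.1) / (a + 2 * t) := ⟨_, rfl⟩
                have hw' : w * (a + 2 * t) = v.1.2 - v.1.1 := by rw [hw, div_mul_cancel₀ _ hd]
                refine Prod.ext (Prod.ext ?_ ?_) (Subsingleton.elim _ _)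
                · show v.1.1 + t * ((v.1.2 - v.1.1) / (a + 2 * t)) -
                    t * ((v.1.2 - v.1.1) / (a + 2 * t)) = v.1.1
                  ring
                · show v.1.1 + t * ((v.1.2 - v.1.1) / (a + 2 * t)) +
                    (a + t) * ((v.1.2 - v.1.1) / (a + 2 * t)) = v.1.2
                  rw [← hw]; linear_combination hw'
              map_app' := fun v => ?_ }⟩
    simp [binForm_apply, zeroForm]
    linear_combination v.2 * v.2 * (-1 : K) * ht
  obtain ⟨eb⟩ := hbin
  let e1 : (hypSum m (binForm a b)).IsometryEquiv (hypSum m (hyp (zeroForm K))) :=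
    { toLinearEquiv := (LinearEquiv.refl K _).prodCongr eb.toLinearEquiv
      map_app' := fun v => by
        show hypSum m (hyp (zeroForm K)) (v.1, eb v.2) = _
        rw [hypSum_apply, hypSum_apply, eb.map_app] }
  let e2 : (hypSum m (hyp (zeroForm K))).IsometryEquiv (hypSum (m + 1) (zeroForm K)) :=
    { toFun := fun v => ((Fin.cons v.2.1.1 v.1.1, Fin.cons v.2.1.2 v.1.2), v.2.2)
      invFun := fun v => ((Fin.tail v.1.1, Fin.tail v.1.2), ((v.1.1 0, v.1.2 0), v.2))
      map_add' := fun v w => by
        refine Prod.ext (Prod.ext ?_ ?_) rfl <;>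
          exact funext fun i => Fin.cases (by simp) (fun j => by simp) i
      map_smul' := fun r v => by
        refine Prod.ext (Prod.ext ?_ ?_) rfl <;>
          exact funext fun i => Fin.cases (by simp) (fun j => by simp) i
      left_inv := fun v => by simp
      right_inv := fun v => by simp
      map_app' := fun v => by
        simp [Fin.sum_univ_succ, zeroForm]; ring }
  exact ⟨(qMinusIso m K a b).trans (e1.trans (e2.trans (qPlusIso (m + 1) K).symm))⟩

end minus

theorem preservesSingularClassesMinus_iff {F : Type u} [Field F] [Finite F] (h2 : (2 : F) ≠ 0)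
    {k : ℕ} {a b : F} (hab : BinAniso a b)
    {g : GL ((Fin (k + 2) ⊕ Fin (k + 2)) ⊕ Fin 2) F} {c : F} (hc : c ≠ 0)
    (hg : ∀ v, Cfsg.quadFormMinus (k + 2) F a b
      ((g : Matrix ((Fin (k + 2) ⊕ Fin (k + 2)) ⊕ Fin 2) ((Fin (k + 2) ⊕ Fin (k + 2)) ⊕ Fin 2)
        F).mulVec v) = c * Cfsg.quadFormMinus (k + 2) F a b v) :
    Cfsg.PreservesSingularClassesMinus (k + 2) a b
      (g : Matrix ((Fin (k + 2) ⊕ Fin (k + 2)) ⊕ Fin 2) ((Fin (k + 2) ⊕ Fin (k + 2)) ⊕ Fin 2) F) ↔
      (g : Matrix ((Fin (k + 2) ⊕ Fin (k + 2)) ⊕ Fin 2) ((Fin (k + 2) ⊕ Fin (k + 2)) ⊕ Fin 2)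
        F).det = c ^ (k + 3) := by
  have main : ∀ (K : Type u) [Field K] [Algebra F K], finrank F K = 2 →
      (Cfsg.PreservesSingularClasses
        (Cfsg.quadFormMinus (k + 2) K (algebraMap F K a) (algebraMap F K b))
        ((g : Matrix ((Fin (k + 2) ⊕ Fin (k + 2)) ⊕ Fin 2) ((Fin (k + 2) ⊕ Fin (k + 2)) ⊕ Fin 2)
          F).map (algebraMap F K)) ↔
        (g : Matrix ((Fin (k + 2) ⊕ Fin (k + 2)) ⊕ Fin 2) ((Fin (k + 2) ⊕ Fin (k + 2)) ⊕ Fin 2)
          F).det = c ^ (k + 3)) := by
    intro K _ _ hfin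
    haveI : Module.Finite F K := Module.finite_of_finrank_eq_succ hfin
    haveI : Finite K := Module.finite_of_finite F
    have h2K : (2 : K) ≠ 0 := fun h => h2 ((algebraMap F K).injective
      (by rw [map_zero, map_ofNat, h]))
    obtain ⟨s, hs⟩ := isSquare_algebraMap h2 hfin (a ^ 2 - 4 * b)
    have hs0 : s ≠ 0 := fun e => hab.disc_ne_zero (by
      have := (algebraMap F K).injective (hs.trans (by rw [e, mul_zero, map_zero]) :
        algebraMap F K (a ^ 2 - 4 * b) = algebraMap F K 0)
      linear_combination -this)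
    rw [map_sub, map_pow, map_mul, map_ofNat] at hs
    set A := algebraMap F K a
    set B := algebraMap F K b
    have ht : ((-A + s) / 2) * ((-A + s) / 2) + A * ((-A + s) / 2) + B = 0 := by
      field_simp
      linear_combination -hs
    obtain ⟨e⟩ := nonempty_qMinus_equiv (k + 2) ht (by
      rw [show A + 2 * ((-A + s) / 2) = s by field_simp; ring]; exact hs0)
    let gK : GL ((Fin (k + 2) ⊕ Fin (k + 2)) ⊕ Fin 2) K :=
      Matrix.GeneralLinearGroup.map (algebraMap F K) g
    have hgK : ∀ v, Cfsg.quadFormMinus (k + 2) K A B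
        (gK.val.mulVec v) = algebraMap F K c * Cfsg.quadFormMinus (k + 2) K A B v := by
      let P1 : QuadraticForm K _ := (qMinus (k + 2) K A B).comp (Matrix.toLin' gK.val)
      let P2 : QuadraticForm K _ := algebraMap F K c • qMinus (k + 2) K A B
      let bs := (Pi.basisFun K ((Fin (k + 2) ⊕ Fin (k + 2)) ⊕ Fin 2)).reindex
        (Fintype.equivFin ((Fin (k + 2) ⊕ Fin (k + 2)) ⊕ Fin 2))
      let bF := (Pi.basisFun F ((Fin (k + 2) ⊕ Fin (k + 2)) ⊕ Fin 2)).reindex
        (Fintype.equivFin ((Fin (k + 2) ⊕ Fin (k + 2)) ⊕ Fin 2))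
      let ext : (((Fin (k + 2) ⊕ Fin (k + 2)) ⊕ Fin 2) → F) →+
          (((Fin (k + 2) ⊕ Fin (k + 2)) ⊕ Fin 2) → K) :=
        { toFun := fun v i => algebraMap F K (v i)
          map_zero' := funext fun i => map_zero _
          map_add' := fun v w => funext fun i => map_add _ _ _ }
      have hext : ∀ v, P1 (ext v) = P2 (ext v) := by
        intro v
        show qMinus (k + 2) K A B (gK.val.mulVec (ext v)) =
          algebraMap F K c * qMinus (k + 2) K A B (ext v)
        have hq : ∀ w, qMinus (k + 2) K A B (ext w) =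
            algebraMap F K (Cfsg.quadFormMinus (k + 2) F a b w) := fun w => by
          rw [qMinus_apply]
          simp [Cfsg.quadFormMinus, ext, A, B, map_sum]
        have hmv : gK.val.mulVec (ext v) = ext (g.val.mulVec v) :=
          funext fun i => (RingHom.map_mulVec (algebraMap F K) g.val v i).symm
        rw [hmv, hq, hq, hg, map_mul]
      have hb : ∀ i, bs i = ext (bF i) := fun i => by
        simp only [bs, bF, Module.Basis.reindex_apply, Pi.basisFun_apply]
        funext j
        show _ = algebraMap F K _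
        rw [Pi.single_apply, Pi.single_apply]
        split <;> simp
      have hbil : P1.toBilin bs = P2.toBilin bs := by
        refine bs.ext fun i => bs.ext fun j => ?_
        rw [toBilin_apply, toBilin_apply, hb, hb]
        split_ifs
        · exact hext _
        · simp only [polar, ← map_add, hext]
        · rfl
      have hP : P1 = P2 := by
        rw [← toQuadraticMap_toBilin P1 bs, hbil, toQuadraticMap_toBilin]
      intro v
      have := DFunLike.congr_fun hP v
      simpa [P1, P2, qMinus_apply, Algebra.smul_def] using this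
    have hcK : algebraMap F K c ≠ 0 := by simpa using hc
    refine (preservesSingularClasses_iff h2K (qMinus_apply _ A B) e hcK hgK).trans ?_
    show (g.val.map (algebraMap F K)).det = _ ↔ _
    rw [← RingHom.mapMatrix_apply, ← RingHom.map_det, ← map_pow]
    exact (algebraMap F K).injective.eq_iff
  constructor
  · rintro ⟨K, iK, iA, hfin, h⟩
    exact (@main K iK iA hfin).1 h
  · intro h
    haveI := hab.fact
    refine ⟨QuadraticAlgebra F (-b) a, inferInstance, inferInstance, ?_, ?_⟩
    · exact QuadraticAlgebra.finrank_eq_two _ _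
    · exact (main _ (QuadraticAlgebra.finrank_eq_two _ _)).2 h

end Cfsg.Agent.UnitaryOrthogonal
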