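/-
The outer diagonal quotients of `PΩ±` in odd characteristic.
-/
import Cfsg.Agent.Lib.UnitaryOrthogonal.OuterClasses

set_option autoImplicit false

namespace Cfsg.Agent.UnitaryOrthogonal

open QuadraticMap Module

variable {F : Type*} [Field F] [Fintype F]

/-- The three conclusions, for one subgroup `InnD`. -/
def OuterConcl {ι : Type} [Fintype ι] [DecidableEq ι] (Q0 : (ι → F) → F)
    (InnD : Subgroup (MulAut (Cfsg.POmega F Q0))) (big : Prop) (k : ℕ) : Prop :=
  (∃ φ : ↥(Cfsg.pgoAut F Q0) →* Multiplicative (ZMod 2 × ZMod 2), Function.Surjective φ ∧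
    φ.ker = (Cfsg.psoAut F Q0).subgroupOf (Cfsg.pgoAut F Q0)) ∧
  (big →
    (Cfsg.Inn (Cfsg.POmega F Q0)).relIndex (Cfsg.psoAut F Q0) = 2 ∧
    (∃ φ : ↥(Cfsg.pgoAut F Q0) →* DihedralGroup 4, Function.Surjective φ ∧
      φ.ker = (Cfsg.Inn (Cfsg.POmega F Q0)).subgroupOf (Cfsg.pgoAut F Q0)) ∧
    (Even k → ∃ φ : ↥InnD →* Multiplicative (ZMod 2 × ZMod 2), Function.Surjective φ ∧
      φ.ker = (Cfsg.Inn (Cfsg.POmega F Q0)).subgroupOf InnD) ∧
    (Odd k → ∃ φ : ↥InnD →* Multiplicative (ZMod 4), Function.Surjective φ ∧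
      φ.ker = (Cfsg.Inn (Cfsg.POmega F Q0)).subgroupOf InnD)) ∧
  (¬big →
    (Cfsg.Inn (Cfsg.POmega F Q0)).relIndex (Cfsg.psoAut F Q0) = 1 ∧
    (∃ φ : ↥(Cfsg.pgoAut F Q0) →* Multiplicative (ZMod 2 × ZMod 2), Function.Surjective φ ∧
      φ.ker = (Cfsg.Inn (Cfsg.POmega F Q0)).subgroupOf (Cfsg.pgoAut F Q0)) ∧
    ∃ φ : ↥InnD →* Multiplicative (ZMod 2), Function.Surjective φ ∧
      φ.ker = (Cfsg.Inn (Cfsg.POmega F Q0)).subgroupOf InnD)

theorem outer_plus (hodd : Odd (Fintype.card F)) {m : ℕ} (hm : 4 ≤ m) :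
    OuterConcl (Cfsg.quadFormPlus m F) (Cfsg.inndiagPOmegaPlus m F)
      (¬(Odd m ∧ Fintype.card F % 4 = 3)) m := by
  obtain ⟨k, rfl⟩ : ∃ k, m = k + 4 := ⟨m - 4, by omega⟩
  have h2 : (2 : F) ≠ 0 := two_ne_zero_of_card_odd hodd
  have hM : PolarND (hypSum (k + 2) (zeroForm F)) := (polarND_zeroForm (F := F)).hypSum _
  have hex := exists_hypSum_ne_zero (Q := zeroForm F) (k + 2) (Or.inl (by omega))
  let e := (qPlusIso (k + 4) F).trans (hypSumTwo (zeroForm F) (k + 2))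
  have hiff : levelSign (hyp (hyp (hypSum (k + 2) (zeroForm F)))) (negOne _) = 1 ↔
      ¬(Odd (k + 4) ∧ Fintype.card F % 4 = 3) := by
    rw [hypSum_two_neg_one_sign h2, even_half_level_plus h2, Nat.card_eq_fintype_card]
    exact pow_mod_four_eq_one_iff hodd _
  obtain ⟨h1, hbig, hsmall⟩ := outer_package (M := hypSum (k + 2) (zeroForm F)) e.toLinearEquiv
    (fun v => (e.map_app v).trans (qPlus_apply (k + 4) v)) hM hex
    (elemGroup_hypHyp polarND_zeroForm reflGroup_zeroForm (k + 2))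
    (hsep_of_base h2 (hbase_zeroForm h2) (k + 2)) h2 (n := k + 4) (k := k + 4)
    (by
      rw [← e.toLinearEquiv.finrank_eq, Module.finrank_pi, Fintype.card_sum, Fintype.card_fin]
      omega)
    (fun ν hν => by
      have := (simData_zeroForm ν).hypSum hν (k + 4)
      rw [Nat.zero_add] at this
      exact this.congr (hypSumTwo (zeroForm F) (k + 2)))
    (fun g => Cfsg.PreservesSingularClasses (Cfsg.quadFormPlus (k + 4) F)
      (g : Matrix (Fin (k + 4) ⊕ Fin (k + 4)) (Fin (k + 4) ⊕ Fin (k + 4)) F))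
    (fun g c hc hg => preservesSingularClassesPlus_iff (k := k + 1) h2 hc hg)
    (Cfsg.inndiagPOmegaPlus (k + 4) F) rfl
  exact ⟨h1, fun h => hbig (hiff.2 h), fun h => hsmall (mt hiff.1 h)⟩

theorem outer_minus (hodd : Odd (Fintype.card F)) {m : ℕ} (hm : 3 ≤ m) {a b : F}
    (hab : BinAniso a b) :
    OuterConcl (Cfsg.quadFormMinus m F a b) (Cfsg.inndiagPOmegaMinus m F a b)
      (Even m ∧ Fintype.card F % 4 = 3) (m + 1) := by
  obtain ⟨k, rfl⟩ : ∃ k, m = k + 3 := ⟨m - 3, by omega⟩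
  have h2 : (2 : F) ≠ 0 := two_ne_zero_of_card_odd hodd
  have hM : PolarND (hypSum (k + 1) (binForm a b)) := hab.polarND.hypSum _
  have hex := exists_hypSum_ne_zero (Q := binForm a b) (k + 1) (Or.inl (by omega))
  let e := (qMinusIso (k + 3) F a b).trans (hypSumTwo (binForm a b) (k + 1))
  have hiff : levelSign (hyp (hyp (hypSum (k + 1) (binForm a b)))) (negOne _) = 1 ↔
      Even (k + 3) ∧ Fintype.card F % 4 = 3 := by
    rw [hypSum_two_neg_one_sign h2, even_half_level_minus hab h2, Nat.card_eq_fintype_card]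
    exact pow_succ_mod_four_eq_three_iff hodd _
  obtain ⟨h1, hbig, hsmall⟩ := outer_package (M := hypSum (k + 1) (binForm a b)) e.toLinearEquiv
    (fun v => (e.map_app v).trans (qMinus_apply (k + 3) a b v)) hM hex
    (elemGroup_hypHyp hab.polarND hab.reflGroup_eq_top (k + 1))
    (hsep_of_base h2 (hbase_binForm hab h2) (k + 1)) h2 (n := k + 4) (k := k + 4)
    (by
      rw [← e.toLinearEquiv.finrank_eq, Module.finrank_pi, Fintype.card_sum, Fintype.card_sum,
        Fintype.card_fin, Fintype.card_fin]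
      omega)
    (fun ν hν => by
      have := (simData_binForm hab hν).hypSum hν (k + 3)
      rw [show 1 + (k + 3) = k + 4 by omega] at this
      exact this.congr (hypSumTwo (binForm a b) (k + 1)))
    (fun g => Cfsg.PreservesSingularClassesMinus (k + 3) a b
      (g : Matrix ((Fin (k + 3) ⊕ Fin (k + 3)) ⊕ Fin 2) ((Fin (k + 3) ⊕ Fin (k + 3)) ⊕ Fin 2) F))
    (fun g c hc hg => preservesSingularClassesMinus_iff (k := k + 1) h2 hab hc hg)
    (Cfsg.inndiagPOmegaMinus (k + 3) F a b) rfl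
  exact ⟨h1, fun h => hbig (hiff.2 h), fun h => hsmall (mt hiff.1 h)⟩

end Cfsg.Agent.UnitaryOrthogonal
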