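/-
Splitting of the classes of involutory graph automorphisms of `PΩ±` in odd characteristic.
-/
import Cfsg.Agent.FieldAutGen.OrthSim
import Cfsg.Agent.FieldAutGen.OrthOddChar
import Cfsg.Agent.AutPSL.ClassCount
import Cfsg.Agent.Lib.UnitaryOrthogonal.OuterStandard
import Cfsg.Agent.Lib.UnitaryOrthogonal.GraphSim

set_option autoImplicit false
set_option linter.unusedSectionVars false

namespace Cfsg.Agent.UnitaryOrthogonal.GraphSplit

open Matrix QuadraticMap Cfsg.Agent.Reflections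
open Cfsg.Agent.AutPSL (Induced scalarGL fieldMap)
open Cfsg.Agent.FieldAutGen.Orth (rho Frame HasSiegel)

universe u

variable {ι : Type} [Fintype ι] [DecidableEq ι] {F : Type u} [Field F]

/-- Induced by conjugation. -/
abbrev Ind (f : (ι → F) → F) (g : GL ι F) (β : MulAut (Cfsg.POmega F f)) : Prop :=
  Induced (rho f) g 1 β

/-- A similarity of multiplier `c` of determinant `c ^ k`. -/
def Proper (f : (ι → F) → F) (k : ℕ) (g : GL ι F) : Prop :=
  ∃ c : F, c ≠ 0 ∧ (∀ v, f ((g : Matrix ι ι F) *ᵥ v) = c * f v) ∧ (g : Matrix ι ι F).det = c ^ k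

variable {f : (ι → F) → F}

theorem normalises {g : GL ι F} (hg : g ∈ Cfsg.Geo.quadSimilarityGroup (F := F) f) :
    AutPSL.Normalises (rho f) g 1 :=
  FieldAutGen.Orth.normalises (FieldAutGen.Orth.isSemi_one_iff.2 hg)

theorem ind_mul {g h : GL ι F} {β γ : MulAut (Cfsg.POmega F f)}
    (hh : h ∈ Cfsg.Geo.quadSimilarityGroup (F := F) f) (hβ : Ind f g β) (hγ : Ind f h γ) :
    Ind f (g * h) (β * γ) := by
  have := hβ.comp (normalises hh) hγ
  rwa [AutPSL.fieldMap_one, mul_one] at this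

theorem ind_ext {g : GL ι F} {β γ : MulAut (Cfsg.POmega F f)}
    (hg : g ∈ Cfsg.Geo.quadSimilarityGroup (F := F) f) (hβ : Ind f g β) (hγ : Ind f g γ) : β = γ :=
  Induced.ext (normalises hg) hβ hγ

theorem ind_one : Ind f 1 1 := AutPSL.induced_one' (FieldAutGen.Orth.rho_injective f)

theorem ind_inv [Finite F] {g : GL ι F} {β : MulAut (Cfsg.POmega F f)}
    (hg : g ∈ Cfsg.Geo.quadSimilarityGroup (F := F) f) (hβ : Ind f g β) : Ind f g⁻¹ β⁻¹ := by
  have := hβ.inverse (FieldAutGen.Orth.rho_injective f) (normalises hg)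
  rwa [inv_one, AutPSL.fieldMap_one] at this

theorem ind_omega (t : ↥(Cfsg.Omega F f)) :
    Ind f (rho f t) (MulAut.conj (QuotientGroup.mk t)) := by
  intro s s' hs
  rw [AutPSL.act_apply, AutPSL.fieldMap_one, ← map_inv, ← map_mul, ← map_mul] at hs
  rw [FieldAutGen.Orth.rho_injective f hs]
  rfl

theorem rho_mem_sim (t : ↥(Cfsg.Omega F f)) :
    rho f t ∈ Cfsg.Geo.quadSimilarityGroup (F := F) f :=
  FieldAutGen.Orth.iso_le_sim f (t : ↥(Cfsg.isometryGroup F f)).2

variable [Fintype F]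

theorem exists_proper_of_mem {P : GL ι F → Prop} {k : ℕ}
    (hP : ∀ (g : GL ι F) (c : F), c ≠ 0 → (∀ v, f ((g : Matrix ι ι F) *ᵥ v) = c * f v) →
      (P g ↔ (g : Matrix ι ι F).det = c ^ k))
    {InnD : Subgroup (MulAut (Cfsg.POmega F f))}
    (hInn : InnD = Cfsg.autSubgroupOf fun β => ∃ g : GL ι F,
      g ∈ Cfsg.Geo.quadSimilarityGroup (F := F) f ∧ P g ∧
      Cfsg.IsInducedBySemilinearPOmega f g (RingEquiv.refl F) β)
    {β : MulAut (Cfsg.POmega F f)} (hβ : β ∈ InnD) : ∃ g, Proper f k g ∧ Ind f g β := by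
  have hsim : ∀ {g : GL ι F}, Proper f k g → g ∈ Cfsg.Geo.quadSimilarityGroup (F := F) f :=
    fun ⟨c, hc, h, _⟩ => ⟨Units.mk0 c hc, h⟩
  rw [hInn, Cfsg.autSubgroupOf] at hβ
  have gen : ∀ x : MulAut (Cfsg.POmega F f), (∃ g : GL ι F,
      g ∈ Cfsg.Geo.quadSimilarityGroup (F := F) f ∧ P g ∧
      Cfsg.IsInducedBySemilinearPOmega f g (RingEquiv.refl F) x) →
      ∃ g, Proper f k g ∧ Ind f g x := by
    rintro x ⟨g, ⟨c, hc⟩, hg, hx⟩
    exact ⟨g, ⟨c, c.ne_zero, hc, (hP g c c.ne_zero hc).1 hg⟩, FieldAutGen.Orth.induced_iff.1 hx⟩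
  induction hβ using Subgroup.closure_induction'' with
  | mem x hx => exact gen x hx
  | one => exact ⟨1, ⟨1, one_ne_zero, fun v => by simp, by simp⟩, ind_one⟩
  | inv_mem x hx =>
    obtain ⟨g, hg, hgx⟩ := gen x hx
    refine ⟨g⁻¹, ?_, ind_inv (hsim hg) hgx⟩
    obtain ⟨c, hc, hcg, hdet⟩ := hg
    refine ⟨c⁻¹, inv_ne_zero hc, fun v => ?_, ?_⟩
    · have := hcg (((g⁻¹ : GL ι F) : Matrix ι ι F) *ᵥ v)
      rw [mulVec_mulVec, ← Units.val_mul, mul_inv_cancel, Units.val_one, one_mulVec] at this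
      rw [this, inv_mul_cancel_left₀ hc]
    · rw [Matrix.coe_units_inv, Matrix.det_nonsing_inv, Ring.inverse_eq_inv, hdet, inv_pow]
  | mul x y _ _ hx hy =>
    obtain ⟨g, hg, hgx⟩ := hx
    obtain ⟨h, hh, hhy⟩ := hy
    refine ⟨g * h, ?_, ind_mul (hsim hh) hgx hhy⟩
    obtain ⟨c, hc, hcg, hdet⟩ := hg
    obtain ⟨d, hd, hdh, hdet'⟩ := hh
    refine ⟨c * d, mul_ne_zero hc hd, fun v => ?_, ?_⟩
    · rw [Units.val_mul, ← mulVec_mulVec, hcg, hdh, mul_assoc]
    · rw [Units.val_mul, Matrix.det_mul, hdet, hdet', mul_pow]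

/-- The dihedral group of order eight: centres and an abelian subgroup of index two. -/
theorem d4_central : ∀ x y : DihedralGroup 4, (∀ z, x * z = z * x) → (∀ z, y * z = z * y) →
    y ≠ 1 → x = 1 ∨ x = y := by decide

theorem d4_card : Nat.card (DihedralGroup 4) = 8 := by
  rw [DihedralGroup.nat_card]

/-- The index of the image of a subgroup meeting exactly two cosets. -/
theorem index_map_eq_two {G A : Type*} [Group G] [Group A] (ψ : G →* A) (hA : Nat.card A = 4)
    (C : Subgroup G) {d : G} (hd : d ∈ C) (hd1 : ψ d ≠ 1)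
    (hC : ∀ c ∈ C, ψ c = 1 ∨ ψ c = ψ d) : (C.map ψ).index = 2 := by
  have hset : ((C.map ψ : Subgroup A) : Set A) = {1, ψ d} := by
    ext a
    simp only [Subgroup.coe_map, Set.mem_image, SetLike.mem_coe, Set.mem_insert_iff,
      Set.mem_singleton_iff]
    constructor
    · rintro ⟨c, hc, rfl⟩
      exact hC c hc
    · rintro (rfl | rfl)
      · exact ⟨1, one_mem _, map_one _⟩
      · exact ⟨d, hd, rfl⟩
  have h2 : Nat.card (C.map ψ) = 2 := by
    rw [← Set.ncard_pair (Ne.symm hd1), ← hset]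
    exact Nat.card_coe_set_eq _
  have := (C.map ψ).card_mul_index
  rw [h2, hA] at this
  omega

/-- The class of an involutory graph automorphism. -/
theorem graph_split {Q : QuadraticForm F (ι → F)} (hf : ⇑Q = f) (h2 : (2 : F) ≠ 0)
    (hQ : (QuadraticMap.polarBilin Q).Nondegenerate) {k k' : ℕ} (hk : 3 ≤ k) (hk' : 3 ≤ k')
    (hcard : Fintype.card ι = 2 * k) (E : Frame Q k') {P : GL ι F → Prop}
    (hP : ∀ (g : GL ι F) (c : F), c ≠ 0 → (∀ v, f ((g : Matrix ι ι F) *ᵥ v) = c * f v) →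
      (P g ↔ (g : Matrix ι ι F).det = c ^ k))
    {InnD : Subgroup (MulAut (Cfsg.POmega F f))}
    (hInn : InnD = Cfsg.autSubgroupOf fun β => ∃ g : GL ι F,
      g ∈ Cfsg.Geo.quadSimilarityGroup (F := F) f ∧ P g ∧
      Cfsg.IsInducedBySemilinearPOmega f g (RingEquiv.refl F) β)
    {big : Prop} (hout : OuterConcl f InnD big k) (γ : MulAut (Cfsg.POmega F f)) (hγ2 : orderOf γ = 2)
    {g : GL ι F} (hg : g ∈ Cfsg.Geo.quadSimilarityGroup (F := F) f) (hgγ : Ind f g γ)
    (hγI : γ ∉ InnD) :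
    (Cfsg.splitClassCount InnD (Cfsg.Inn (Cfsg.POmega F f)) γ = 1 ∨
      Cfsg.splitClassCount InnD (Cfsg.Inn (Cfsg.POmega F f)) γ = 2) ∧
    ((big ∨ Even k) → Cfsg.splitClassCount InnD (Cfsg.Inn (Cfsg.POmega F f)) γ = 2) := by
  classical
  subst hf
  haveI : Nonempty ι := Fintype.card_pos_iff.1 (by omega)
  set K := Cfsg.Inn (Cfsg.POmega F ⇑Q) with hK
  obtain ⟨c, hc⟩ := id hg
  -- `g` is improper
  have hdet : (g : Matrix ι ι F).det ≠ (c : F) ^ k := fun h =>
    hγI (hInn ▸ Subgroup.subset_closure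
      ⟨g, hg, (hP g c c.ne_zero hc).2 h, FieldAutGen.Orth.induced_iff.2 hgγ⟩)
  -- `g` squares to a scalar
  have hgg : Ind (⇑Q) (g * g) (1 : MulAut (Cfsg.POmega F ⇑Q)) := by
    have := ind_mul hg hgγ hgγ
    rwa [← pow_two γ, ← hγ2, pow_orderOf_eq_one] at this
  have hsieg : HasSiegel Q := FieldAutGen.Orth.hasSiegel_of_two_ne_zero h2 Q hQ
  have hscalar : ∀ h : GL ι F, h ∈ Cfsg.Geo.quadSimilarityGroup (F := F) ⇑Q →
      Ind (⇑Q) h (1 : MulAut (Cfsg.POmega F ⇑Q)) → ∃ a : Fˣ, h = scalarGL ι a :=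
    fun h hh hi => (FieldAutGen.Orth.eq_one_of_induced hk' E hsieg
      (FieldAutGen.Orth.isSemi_one_iff.2 hh) hi).2
  obtain ⟨l, hl⟩ := hscalar _ (mul_mem hg hg) hgg
  have D : GraphSim.Data Q (g : Matrix ι ι F) (l : F) (c : F) :=
    ⟨l.ne_zero, c.ne_zero, by rw [← Units.val_mul, hl, AutPSL.scalarGL_coe], hc⟩
  have hcl : (c : F) = (l : F) := D.c_eq hQ h2 (by omega) hcard hdet
  -- subgroups
  have hpso : Cfsg.psoAut F ⇑Q ≤ InnD := by
    rw [hInn]
    refine Subgroup.closure_mono ?_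
    rintro β ⟨s, hs, hsβ⟩
    refine ⟨s, FieldAutGen.Orth.iso_le_sim _ hs.1, (hP s 1 one_ne_zero fun v => ?_).2 ?_, hsβ⟩
    · rw [one_mul]; exact FieldAutGen.Orth.mem_iso.1 hs.1 v
    · rw [one_pow]; exact congrArg Units.val hs.2
  have hKpso : K ≤ Cfsg.psoAut F ⇑Q := by
    rintro _ ⟨x, rfl⟩
    obtain ⟨t, rfl⟩ := QuotientGroup.mk_surjective x
    refine Subgroup.subset_closure
      ⟨rho (⇑Q) t, ⟨(t : ↥(Cfsg.isometryGroup F ⇑Q)).2, ?_⟩,
        FieldAutGen.Orth.induced_iff.2 (ind_omega t)⟩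
    exact FieldAutGen.Orth.omega_le_special t.2
  have hKle : K ≤ InnD := hKpso.trans hpso
  have hpgo : InnD ≤ Cfsg.pgoAut F ⇑Q := by
    rw [hInn]
    exact Subgroup.closure_mono fun β ⟨h, hh, _, hhβ⟩ => ⟨h, hh, hhβ⟩
  have hγpgo : γ ∈ Cfsg.pgoAut F ⇑Q :=
    Subgroup.subset_closure ⟨g, hg, FieldAutGen.Orth.induced_iff.2 hgγ⟩
  -- counting
  have count : ∀ {A : Type} [CommGroup A] (ψ : ↥InnD →* A), Function.Surjective ψ →
      ψ.ker = K.subgroupOf InnD → Cfsg.splitClassCount InnD K γ =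
        (((Subgroup.centralizer ({γ} : Set _)).comap InnD.subtype).map ψ).index := by
    intro A _ ψ hψ hker
    have h := AutPSL.splitClassCount_eq InnD.subtype ψ hψ (by simp) γ
    rwa [Subgroup.range_subtype, hker, Subgroup.subgroupOf_map_subtype, inf_eq_left.2 hKle] at h
  -- the small case
  obtain ⟨-, hbig, hsmall⟩ := hout
  by_cases hb : big
  · obtain ⟨hrel, ⟨φ, hφ, hφker⟩, hev, hod⟩ := hbig hb
    -- a generator of `PSO` outside the inner automorphisms
    obtain ⟨u, hu, β₀, hβ₀, hβ₀K⟩ : ∃ u ∈ Cfsg.specialIsometryGL F ⇑Q, ∃ β,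
        Ind (⇑Q) u β ∧ β ∉ K := by
      by_contra hh
      push Not at hh
      have : Cfsg.psoAut F ⇑Q ≤ K := (Subgroup.closure_le _).2 fun β ⟨u, hu, huβ⟩ =>
        hh u hu β (FieldAutGen.Orth.induced_iff.1 huβ)
      rw [Subgroup.relIndex_eq_one.2 this] at hrel
      omega
    obtain ⟨v, w, hv, hw, hvw, hcomm⟩ := D.exists_pair hQ h2 hk hcard hcl
    set s := refl Q v * refl Q w with hs
    have hsdet : detHom Q s = 1 := by
      rw [hs, map_mul, detHom_refl hv, detHom_refl hw]; simp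
    have hsO : s ∉ Cfsg.Omega F ⇑Q := by
      intro h
      have := (Forms59.reflProd_mem_omega_iff (Q := Q) h2 hQ (by omega) [v, w] (by simp [hv, hw])).1
        (by simpa [Forms59.reflProd] using h)
      exact hvw (by simpa using this.2)
    let u' : ↥(Cfsg.isometryGroup F ⇑Q) := ⟨u, hu.1⟩
    have huO : u' ∉ Cfsg.Omega F ⇑Q := fun h => hβ₀K
      ⟨QuotientGroup.mk ⟨u', h⟩, (ind_ext (FieldAutGen.Orth.iso_le_sim _ hu.1) hβ₀
        (ind_omega ⟨u', h⟩)).symm⟩
    obtain ⟨ε, -, hε⟩ := exists_nonsquare_scalar (F := F) h2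
    have hΩ := Reflections.omega_eq_ker h2 hQ (by omega) hε
    have htheta : ∀ x : ↥(Cfsg.isometryGroup F ⇑Q), detHom Q x = 1 →
        x ∉ Cfsg.Omega F ⇑Q → theta Q ε x = -1 := fun x hx hxO => by
      refine (Int.units_eq_one_or _).resolve_left fun h => hxO ?_
      rw [hΩ, MonoidHom.mem_ker]
      simp [Reflections.thetaPair, FieldAutGen.Orth.theta_one_eq h2 Q hQ hε hx, h]
    have hu'det : detHom Q u' = 1 := hu.2
    have hmem : s * u'⁻¹ ∈ Cfsg.Omega F ⇑Q := by
      rw [hΩ, MonoidHom.mem_ker]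
      have hd : detHom Q (s * u'⁻¹) = 1 := by rw [map_mul, map_inv, hsdet, hu'det]; simp
      have ht : theta Q ε (s * u'⁻¹) = 1 := by
        rw [map_mul, map_inv, htheta s hsdet hsO, htheta u' hu'det huO]; simp
      simp [Reflections.thetaPair, FieldAutGen.Orth.theta_one_eq h2 Q hQ hε hd, ht]
    set t : ↥(Cfsg.Omega F ⇑Q) := ⟨_, hmem⟩
    set δ : MulAut (Cfsg.POmega F ⇑Q) := MulAut.conj (QuotientGroup.mk t) * β₀
    have hst : ((s : ↥(Cfsg.isometryGroup F ⇑Q)) : GL ι F) = rho (⇑Q) t * u := by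
      show _ = ((s : GL ι F) * u⁻¹) * u
      rw [inv_mul_cancel_right]
    have hsim : ((s : ↥(Cfsg.isometryGroup F ⇑Q)) : GL ι F) ∈
        Cfsg.Geo.quadSimilarityGroup (F := F) ⇑Q := FieldAutGen.Orth.iso_le_sim _ s.2
    have hδ : Ind (⇑Q) (s : GL ι F) δ := by
      rw [hst]
      exact ind_mul (FieldAutGen.Orth.iso_le_sim _ hu.1) (ind_omega t) hβ₀
    have hδI : δ ∈ InnD := mul_mem (hKle ⟨_, rfl⟩)
      (hpso (Subgroup.subset_closure ⟨u, hu, FieldAutGen.Orth.induced_iff.2 hβ₀⟩))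
    have hδK : δ ∉ K := fun h => hβ₀K ((Subgroup.mul_mem_cancel_left K ⟨_, rfl⟩).1 h)
    have hgs : g * (s : GL ι F) = (s : GL ι F) * g := Units.ext (Matrix.ext_iff_mulVec.mpr fun x => by
      rw [Units.val_mul, Units.val_mul, ← mulVec_mulVec, ← mulVec_mulVec]
      exact hcomm x)
    have hδγ : γ * δ = δ * γ := by
      refine ind_ext (mul_mem hg hsim) (ind_mul hsim hgγ hδ) ?_
      rw [hgs]
      exact ind_mul hg hδ hgγ
    have main : ∀ {A : Type} [CommGroup A] (ψ : ↥InnD →* A), Function.Surjective ψ →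
        ψ.ker = K.subgroupOf InnD → Nat.card A = 4 → Cfsg.splitClassCount InnD K γ = 2 := by
      intro A _ ψ hψ hker hA
      rw [count ψ hψ hker]
      set j := Subgroup.inclusion hpgo
      set G' := (φ.comp j).range with hG'
      have hkerφ : (φ.comp j).ker = ψ.ker := by
        rw [hker, ← MonoidHom.comap_ker, hφker]
        rfl
      have hcardG' : Nat.card G' = 4 := by
        refine Eq.trans ?_ hA
        rw [← Subgroup.index_ker, hkerφ, Subgroup.index_ker,
          MonoidHom.range_eq_top.2 hψ, Subgroup.card_top]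
      set τ := φ ⟨γ, hγpgo⟩ with hτ
      have hτG' : τ ∉ G' := by
        rintro ⟨a, ha⟩
        have : (j a)⁻¹ * ⟨γ, hγpgo⟩ ∈ φ.ker := by
          rw [MonoidHom.mem_ker, map_mul, map_inv, inv_mul_eq_one]; exact ha
        rw [hφker, Subgroup.mem_subgroupOf] at this
        exact hγI ((Subgroup.mul_mem_cancel_left InnD (inv_mem a.2)).1 (hKle this))
      have htop : G' ⊔ Subgroup.zpowers τ = ⊤ := by
        refine Subgroup.eq_top_of_card_eq _ ?_
        have h1 := Subgroup.card_subgroup_dvd_card (G' ⊔ Subgroup.zpowers τ)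
        have hlt : G' < G' ⊔ Subgroup.zpowers τ := lt_of_le_not_ge le_sup_left fun hle =>
          hτG' (hle (Subgroup.mem_sup_right (Subgroup.mem_zpowers τ)))
        have h3 : Nat.card G' < Nat.card ↥(G' ⊔ Subgroup.zpowers τ) := by
          have := Set.ncard_lt_ncard (SetLike.coe_ssubset_coe.2 hlt) (Set.toFinite _)
          simpa [← Nat.card_coe_set_eq] using this
        rw [d4_card] at h1 ⊢
        rw [hcardG'] at h3
        have := Nat.le_of_dvd (by norm_num) h1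
        interval_cases h : Nat.card ↥(G' ⊔ Subgroup.zpowers τ) <;> omega
      have hab : ∀ a b : ↥InnD, φ (j a) * φ (j b) = φ (j b) * φ (j a) := fun a b => by
        have hm : a * b * (b * a)⁻¹ ∈ ψ.ker := by
          rw [MonoidHom.mem_ker, map_mul, map_inv, map_mul, map_mul, mul_comm (ψ b), mul_inv_cancel]
        rw [← hkerφ, MonoidHom.mem_ker, map_mul, map_inv, mul_inv_eq_one, map_mul, map_mul] at hm
        exact hm
      have hcentral : ∀ a : ↥InnD, γ * (a : MulAut (Cfsg.POmega F ⇑Q)) = a * γ →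
          ∀ z, φ (j a) * z = z * φ (j a) := by
        intro a ha z
        have hle : G' ⊔ Subgroup.zpowers τ ≤ Subgroup.centralizer {φ (j a)} := by
          refine sup_le ?_ ?_
          · rintro _ ⟨b, rfl⟩
            exact AutPSL.mem_centralizer_single.2 (hab a b)
          · rw [Subgroup.zpowers_le, AutPSL.mem_centralizer_single, hτ, ← map_mul, ← map_mul]
            exact congrArg φ (Subtype.ext ha.symm)
        exact AutPSL.mem_centralizer_single.1 (hle (htop ▸ Subgroup.mem_top z))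
      have hmem1 : ∀ a : ↥InnD, φ (j a) = 1 ↔ ψ a = 1 := fun a => by
        rw [← MonoidHom.mem_ker (f := ψ), ← hkerφ]; rfl
      have hδψ : ψ ⟨δ, hδI⟩ ≠ 1 := fun h => hδK (by
        rw [← MonoidHom.mem_ker, hker, Subgroup.mem_subgroupOf] at h; exact h)
      refine index_map_eq_two ψ hA _ (d := ⟨δ, hδI⟩)
        (AutPSL.mem_centralizer_single.2 hδγ) hδψ fun a ha => ?_
      have ha' : γ * (a : MulAut (Cfsg.POmega F ⇑Q)) = a * γ := AutPSL.mem_centralizer_single.1 ha
      rcases d4_central _ _ (hcentral a ha') (hcentral ⟨δ, hδI⟩ hδγ)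
        (fun h => hδψ ((hmem1 _).1 h)) with h | h
      · exact Or.inl ((hmem1 a).1 h)
      · right
        rw [← mul_inv_eq_one, ← map_inv, ← map_mul, ← map_inv, ← map_mul] at h
        rw [← mul_inv_eq_one, ← map_inv, ← map_mul]
        exact (hmem1 _).1 h
    have htwo : Cfsg.splitClassCount InnD K γ = 2 := by
      rcases Nat.even_or_odd k with hke | hko
      · obtain ⟨ψ, hψ, hker⟩ := hev hke
        exact main ψ hψ hker (by simp)
      · obtain ⟨ψ, hψ, hker⟩ := hod hko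
        exact main ψ hψ hker (by simp)
    exact ⟨Or.inr htwo, fun _ => htwo⟩
  · obtain ⟨hrel, -, ψ, hψ, hker⟩ := hsmall hb
    rw [count ψ hψ hker]
    set C := (Subgroup.centralizer ({γ} : Set (MulAut (Cfsg.POmega F ⇑Q)))).comap InnD.subtype
    have hcard2 := (C.map ψ).card_mul_index
    rw [show Nat.card (Multiplicative (ZMod 2)) = 2 by simp] at hcard2
    refine ⟨(Nat.dvd_prime Nat.prime_two).1 ⟨_, by rw [mul_comm]; exact hcard2.symm⟩, fun h => ?_⟩
    have hke : Even k := h.resolve_left hb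
    suffices hbot : C.map ψ = ⊥ by rw [hbot, Subgroup.index_bot]; simp
    rw [Subgroup.eq_bot_iff_forall]
    rintro _ ⟨a, ha, rfl⟩
    rw [← MonoidHom.mem_ker, hker, Subgroup.mem_subgroupOf]
    have ha' : γ * (a : MulAut (Cfsg.POmega F ⇑Q)) = a * γ := AutPSL.mem_centralizer_single.1 ha
    obtain ⟨h, hhp, hhα⟩ := exists_proper_of_mem hP hInn a.2
    obtain ⟨r, hr0, hr, hrdet⟩ := hhp
    have hhs : h ∈ Cfsg.Geo.quadSimilarityGroup (F := F) ⇑Q := ⟨Units.mk0 r hr0, hr⟩
    obtain ⟨e, he⟩ := hscalar (h * g * (g * h)⁻¹) (mul_mem (mul_mem hhs hg) (inv_mem (mul_mem hg hhs)))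
      (by
        have := ind_mul (inv_mem (mul_mem hg hhs)) (ind_mul hg hhα hgγ)
          (ind_inv (mul_mem hg hhs) (ind_mul hhs hgγ hhα))
        rwa [← ha', mul_inv_cancel] at this)
    have hcomm : (h : Matrix ι ι F) * (g : Matrix ι ι F) =
        (e : F) • ((g : Matrix ι ι F) * (h : Matrix ι ι F)) := by
      have he' : h * g = scalarGL ι e * (g * h) := by rw [← he, inv_mul_cancel_right]
      have := congrArg (fun x : GL ι F => (x : Matrix ι ι F)) he'
      simp only [Units.val_mul] at this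
      rwa [AutPSL.scalarGL_coe, smul_mul_assoc, one_mul] at this
    obtain ⟨t, ht⟩ := D.isSquare_multiplier hQ h2 (by omega) hke hcard hdet h hr hcomm
    have ht0 : t ≠ 0 := fun e => hr0 (by rw [ht, e, mul_zero])
    set T := scalarGL ι (Units.mk0 t ht0)
    have hT : T ∈ Cfsg.Geo.quadSimilarityGroup (F := F) ⇑Q := FieldAutGen.Orth.scalar_mem_sim Q _
    have hTi : Ind (⇑Q) T (1 : MulAut (Cfsg.POmega F ⇑Q)) := by
      intro x x' hx
      rw [AutPSL.act_apply, AutPSL.fieldMap_one, AutPSL.scalarGL_mul_comm _ (rho (⇑Q) x),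
        mul_inv_cancel_right] at hx
      rw [FieldAutGen.Orth.rho_injective _ hx]
      rfl
    have hsO : h * T⁻¹ ∈ Cfsg.specialIsometryGL F ⇑Q := by
      refine ⟨FieldAutGen.Orth.mem_iso.2 fun v => ?_, ?_⟩
      · obtain ⟨w, rfl⟩ : ∃ w, v = (T : Matrix ι ι F) *ᵥ w := ⟨t⁻¹ • v, by
          rw [AutPSL.scalarGL_coe, smul_mulVec, one_mulVec, Units.val_mk0, smul_inv_smul₀ ht0]⟩
        rw [Units.val_mul, mulVec_mulVec, mul_assoc, ← Units.val_mul, inv_mul_cancel, Units.val_one,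
          mul_one, hr, AutPSL.scalarGL_coe, smul_mulVec, one_mulVec, QuadraticMap.map_smul,
          Units.val_mk0, smul_eq_mul, ht]
      · show Matrix.GeneralLinearGroup.det (h * T⁻¹) = 1
        rw [map_mul, map_inv, mul_inv_eq_one]
        apply Units.ext
        rw [Matrix.GeneralLinearGroup.val_det_apply, Matrix.GeneralLinearGroup.val_det_apply,
          AutPSL.scalarGL_coe, Matrix.det_smul, Matrix.det_one, mul_one, hrdet, hcard, Units.val_mk0,
          ht, pow_mul, ← pow_two]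
    have hα : Ind (⇑Q) (h * T⁻¹) (a : MulAut (Cfsg.POmega F ⇑Q)) := by
      have := ind_mul (inv_mem hT) hhα (ind_inv hT hTi)
      rwa [inv_one, mul_one] at this
    have : (a : MulAut (Cfsg.POmega F ⇑Q)) ∈ Cfsg.psoAut F ⇑Q :=
      Subgroup.subset_closure ⟨_, hsO, FieldAutGen.Orth.induced_iff.2 hα⟩
    exact Subgroup.relIndex_eq_one.1 hrel this

end Cfsg.Agent.UnitaryOrthogonal.GraphSplit
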