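/-
The Klein correspondence: `g ↦ (X ↦ g X gᵀ)` on alternating 4 × 4 matrices, with the Pfaffian.
-/
import Cfsg.Agent.Lib.UnitaryOrthogonal.Standard

set_option autoImplicit false

namespace Cfsg.Agent.UnitaryOrthogonal

open QuadraticMap
open scoped Matrix

/-- Coordinates `((x₀₁, x₀₂, x₀₃), (x₂₃, x₃₁, x₁₂))` for alternating 4 × 4 matrices. -/
abbrev Klein (R : Type*) : Type _ := (Fin 3 → R) × (Fin 3 → R)

variable {R : Type*} [CommRing R]

/-- The alternating matrix with given coordinates. -/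
def kMat : Klein R →ₗ[R] Matrix (Fin 4) (Fin 4) R where
  toFun v := !![0, v.1 0, v.1 1, v.1 2; -v.1 0, 0, v.2 2, -v.2 1; -v.1 1, -v.2 2, 0, v.2 0;
    -v.1 2, v.2 1, -v.2 0, 0]
  map_add' v w := by
    ext i j
    fin_cases i <;> fin_cases j <;> simp <;> abel
  map_smul' c v := by
    ext i j
    fin_cases i <;> fin_cases j <;> simp

/-- The coordinates of an alternating matrix. -/
def kCoord : Matrix (Fin 4) (Fin 4) R →ₗ[R] Klein R where
  toFun M := (![M 0 1, M 0 2, M 0 3], ![M 2 3, M 3 1, M 1 2])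
  map_add' M N := by
    ext i <;> fin_cases i <;> simp
  map_smul' c M := by
    ext i <;> fin_cases i <;> simp

theorem kCoord_kMat (v : Klein R) : kCoord (kMat v) = v := by
  ext i <;> fin_cases i <;> simp [kCoord, kMat]

/-- The Pfaffian. -/
def pf (v : Klein R) : R := v.1 0 * v.2 0 + v.1 1 * v.2 1 + v.1 2 * v.2 2

theorem kMat_kCoord_conj (g : Matrix (Fin 4) (Fin 4) R) (v : Klein R) :
    kMat (kCoord (g * kMat v * gᵀ)) = g * kMat v * gᵀ := by
  ext i j
  fin_cases i <;> fin_cases j <;>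
    simp [kMat, kCoord, Matrix.mul_apply, Fin.sum_univ_four, Matrix.transpose_apply] <;> ring

/-- The action `X ↦ g X gᵀ`. -/
def kAct : Matrix (Fin 4) (Fin 4) R →* Module.End R (Klein R) where
  toFun g := kCoord ∘ₗ LinearMap.mulRight R gᵀ ∘ₗ LinearMap.mulLeft R g ∘ₗ kMat
  map_one' := LinearMap.ext fun v => by
    show kCoord (1 * kMat v * 1ᵀ) = v
    rw [Matrix.transpose_one, one_mul, mul_one, kCoord_kMat]
  map_mul' g h := LinearMap.ext fun v => by
    show kCoord (g * h * kMat v * (g * h)ᵀ) = kCoord (g * kMat (kCoord (h * kMat v * hᵀ)) * gᵀ)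
    rw [kMat_kCoord_conj, Matrix.transpose_mul]
    simp only [mul_assoc]

theorem kAct_apply (g : Matrix (Fin 4) (Fin 4) R) (v : Klein R) :
    kAct g v = kCoord (g * kMat v * gᵀ) := rfl

theorem pf_kAct (g : Matrix (Fin 4) (Fin 4) R) (v : Klein R) :
    pf (kAct g v) = g.det * pf v := by
  simp [kAct_apply, pf, kCoord, kMat, Matrix.mul_apply, Fin.sum_univ_four, Matrix.transpose_apply,
    Matrix.det_succ_row_zero, Fin.succAbove, Fin.sum_univ_succ]
  ring

end Cfsg.Agent.UnitaryOrthogonal
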