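/-
A unitary matrix of determinant one commutes with the semilinear duality of the Klein space.
-/
import Cfsg.Agent.Lib.UnitaryOrthogonal.Klein

set_option autoImplicit false

namespace Cfsg.Agent.UnitaryOrthogonal

open scoped Matrix

variable {R : Type*} [CommRing R] [StarRing R]

/-- The semilinear duality. -/
def kJ (v : Klein R) : Klein R := (fun i => star (v.2 i), fun i => star (v.1 i))

/-- The polar form of the Pfaffian. -/
def kB (v w : Klein R) : R := pf (v + w) - pf v - pf w

/-- The Hermitian pairing of the Klein space. -/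
def kHerm (v w : Klein R) : R := ∑ i, (v.1 i * star (w.1 i) + v.2 i * star (w.2 i))

theorem kB_kJ (v w : Klein R) : kB v (kJ w) = kHerm v w := by
  simp [kB, kJ, kHerm, pf, Fin.sum_univ_three]
  ring

theorem kB_kAct (g : Matrix (Fin 4) (Fin 4) R) (v w : Klein R) :
    kB (kAct g v) (kAct g w) = g.det * kB v w := by
  rw [kB, ← map_add, pf_kAct, pf_kAct, pf_kAct, kB]
  ring

theorem eq_of_kB_left {u w : Klein R} (h : ∀ v, kB v u = kB v w) : u = w := by
  have h0 : ∀ i, kB ((Pi.single i 1, 0) : Klein R) u = u.2 i := fun i => by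
    fin_cases i <;> simp [kB, pf] <;> ring
  have h0' : ∀ i, kB ((Pi.single i 1, 0) : Klein R) w = w.2 i := fun i => by
    fin_cases i <;> simp [kB, pf] <;> ring
  have h1 : ∀ i, kB ((0, Pi.single i 1) : Klein R) u = u.1 i := fun i => by
    fin_cases i <;> simp [kB, pf] <;> ring
  have h1' : ∀ i, kB ((0, Pi.single i 1) : Klein R) w = w.1 i := fun i => by
    fin_cases i <;> simp [kB, pf] <;> ring
  exact Prod.ext (funext fun i => (h1 i).symm.trans ((h _).trans (h1' i)))
    (funext fun i => (h0 i).symm.trans ((h _).trans (h0' i)))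

/-- The strictly upper part of `kMat v`. -/
def kUpper (v : Klein R) : Matrix (Fin 4) (Fin 4) R :=
  !![0, v.1 0, v.1 1, v.1 2; 0, 0, v.2 2, -v.2 1; 0, 0, 0, v.2 0; 0, 0, 0, 0]

theorem kMat_eq_kUpper (v : Klein R) : kMat v = kUpper v - (kUpper v)ᵀ := by
  ext i j
  fin_cases i <;> fin_cases j <;> simp [kMat, kUpper]

theorem trace_mul_kMat (W : Matrix (Fin 4) (Fin 4) R) (w : Klein R) :
    (W * ((kMat w).map (starRingEnd R))ᵀ).trace = kHerm (kCoord (W - Wᵀ)) w := by
  simp [Matrix.trace, Matrix.mul_apply, kMat, kCoord, kHerm, Fin.sum_univ_four, Fin.sum_univ_three,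
    starRingEnd_apply]
  ring

theorem kHerm_kAct {g : Matrix (Fin 4) (Fin 4) R} (hg : gᵀ * g.map (starRingEnd R) = 1)
    (v w : Klein R) : kHerm (kAct g v) (kAct g w) = kHerm v w := by
  have e : kAct g v = kCoord ((g * kUpper v * gᵀ) - (g * kUpper v * gᵀ)ᵀ) := by
    rw [kAct_apply, kMat_eq_kUpper, Matrix.mul_sub, Matrix.sub_mul, Matrix.transpose_mul,
      Matrix.transpose_mul, Matrix.transpose_transpose]
    simp only [mul_assoc]
  have hg' : (g.map (starRingEnd R))ᵀ * g = 1 := by
    have := congrArg Matrix.transpose hg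
    rwa [Matrix.transpose_mul, Matrix.transpose_transpose, Matrix.transpose_one] at this
  rw [e, ← trace_mul_kMat, kAct_apply g w, kMat_kCoord_conj, Matrix.map_mul, Matrix.map_mul,
    Matrix.transpose_mul, Matrix.transpose_mul, Matrix.transpose_map, Matrix.transpose_transpose]
  have hr : (g * kUpper v * gᵀ) * (g.map (starRingEnd R) *
      (((kMat w).map (starRingEnd R))ᵀ * (g.map (starRingEnd R))ᵀ)) =
      g * (kUpper v * ((kMat w).map (starRingEnd R))ᵀ) * (g.map (starRingEnd R))ᵀ := by
    calc _ = g * kUpper v * (gᵀ * g.map (starRingEnd R)) *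
          (((kMat w).map (starRingEnd R))ᵀ * (g.map (starRingEnd R))ᵀ) := by
            simp only [mul_assoc]
      _ = _ := by rw [hg, mul_one]; simp only [mul_assoc]
  rw [hr, Matrix.trace_mul_cycle, hg', one_mul, trace_mul_kMat, ← kMat_eq_kUpper, kCoord_kMat]

/-- Unitary matrices of determinant one commute with the duality. -/
theorem kAct_kJ {g : Matrix (Fin 4) (Fin 4) R} (hdet : g.det = 1)
    (hg : gᵀ * g.map (starRingEnd R) = 1) (w : Klein R) :
    kAct g (kJ w) = kJ (kAct g w) := by
  have hinv : g * (g.map (starRingEnd R))ᵀ = 1 := by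
    refine mul_eq_one_comm.1 ?_
    have := congrArg Matrix.transpose hg
    rwa [Matrix.transpose_mul, Matrix.transpose_transpose, Matrix.transpose_one] at this
  refine eq_of_kB_left fun v => ?_
  have hv : kAct g (kAct (g.map (starRingEnd R))ᵀ v) = v := by
    rw [← Module.End.mul_apply, ← map_mul, hinv, map_one, Module.End.one_apply]
  rw [← hv, kB_kJ, kHerm_kAct hg, ← kB_kJ, kB_kAct, hdet, one_mul]

end Cfsg.Agent.UnitaryOrthogonal
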