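/-
`PΩ₆⁻(q) ≅ PSU₄(q)` through the Hermitian form on the fixed space of the Klein duality.
-/
import Cfsg.Agent.Lib.UnitaryOrthogonal.OmegaStandard
import Cfsg.Agent.Lib.UnitaryOrthogonal.IsoTools
import Cfsg.Agent.Lib.UnitaryOrthogonal.KleinHerm
import Cfsg.Agent.Lib.UnitaryOrthogonal.QuadExt
import Cfsg.Agent.Lib.LinearGroup.SmallPSL
import Cfsg.Agent.Lib.Unitary.Center
import Cfsg.Agent.Lib.Unitary.Simple

set_option autoImplicit false

namespace Cfsg.Agent.UnitaryOrthogonal

open QuadraticMap QuadraticAlgebra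
open scoped Matrix

section transport

variable {K L : Type*} [Field K] [Field L] (e : K ≃+* L) {n q : ℕ}

theorem slCongr_mem_SU {g : Matrix.SpecialLinearGroup (Fin n) K} (hg : g ∈ Cfsg.SU n K q) :
    LinearGroup.slCongr e g ∈ Cfsg.SU n L q := by
  intro u v
  have h := hg (fun i => e.symm (u i)) (fun i => e.symm (v i))
  have key : ∀ w : Fin n → L, (slToMat n L (LinearGroup.slCongr e g)) *ᵥ w =
      fun i => e ((slToMat n K g *ᵥ fun i => e.symm (w i)) i) := fun w => by
    funext i
    show ((g.1.map ⇑(e : K →+* L)) *ᵥ w) i = e ((g.1 *ᵥ fun i => e.symm (w i)) i)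
    simp [Matrix.mulVec, dotProduct]
  have h2 : ∀ x y : Fin n → K, hermForm n L q (fun i => e (x i)) (fun i => e (y i)) =
      e (hermForm n K q x y) := fun x y => by
    simp [hermForm]
  rw [key, key, h2, h, ← h2]
  simp

/-- `SU` over isomorphic fields. -/
def suCongr : Cfsg.SU n K q ≃* Cfsg.SU n L q where
  toFun g := ⟨LinearGroup.slCongr e g.1, slCongr_mem_SU e g.2⟩
  invFun g := ⟨LinearGroup.slCongr e.symm g.1, slCongr_mem_SU e.symm g.2⟩
  left_inv g := Subtype.ext (Matrix.SpecialLinearGroup.ext _ _ fun i j => e.symm_apply_apply _)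
  right_inv g := Subtype.ext (Matrix.SpecialLinearGroup.ext _ _ fun i j => e.apply_symm_apply _)
  map_mul' g h := Subtype.ext (map_mul _ _ _)

theorem map_center_eq {G H : Type*} [Group G] [Group H] (φ : G ≃* H) :
    (Subgroup.center G).map φ.toMonoidHom = Subgroup.center H := by
  ext h
  simp only [Subgroup.mem_map, MulEquiv.coe_toMonoidHom, Subgroup.mem_center_iff]
  constructor
  · rintro ⟨g, hg, rfl⟩ k
    obtain ⟨k, rfl⟩ := φ.surjective k
    rw [← map_mul, ← map_mul, hg]
  · intro hh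
    obtain ⟨g, rfl⟩ := φ.surjective h
    exact ⟨g, fun k => φ.injective (by rw [map_mul, map_mul, hh]), rfl⟩

/-- `PSU` over isomorphic fields. -/
noncomputable def psuCongr : Cfsg.PSU n K q ≃* Cfsg.PSU n L q :=
  QuotientGroup.congr _ _ (suCongr e) (map_center_eq _)

end transport

variable {F : Type*} [Field F] [Finite F] {a b : F}

/-- `Fin 3 → F[ω]` as the fixed space of the duality. -/
def kReal : (Fin 3 → QuadraticAlgebra F (-b) a) →ₗ[F] Klein (QuadraticAlgebra F (-b) a) where
  toFun z := (z, fun i => star (z i))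
  map_add' x y := Prod.ext rfl (funext fun i => star_add _ _)
  map_smul' c x := Prod.ext rfl (funext fun i => by ext <;> simp <;> ring)

omit [Finite F] in
theorem kReal_apply (z : Fin 3 → QuadraticAlgebra F (-b) a) :
    kReal z = (z, fun i => star (z i)) := rfl

omit [Finite F] in
theorem pf_kReal (z : Fin 3 → QuadraticAlgebra F (-b) a) :
    pf (kReal z) = algebraMap F _ (∑ i, QuadraticAlgebra.norm (z i)) := by
  simp [pf, kReal_apply, Fin.sum_univ_three, QuadraticAlgebra.algebraMap_norm_eq_mul_star]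

omit [Finite F] in
theorem kJ_kReal (z : Fin 3 → QuadraticAlgebra F (-b) a) : kJ (kReal z) = kReal z := by
  simp [kJ, kReal_apply]

/-- Coordinates making the sum of three norms hyperbolic. -/
def hermSplit (ε κ : QuadraticAlgebra F (-b) a) :
    (Fin 3 → QuadraticAlgebra F (-b) a) →ₗ[F] ((Fin 2 → F) × (Fin 2 → F)) × (F × F) where
  toFun z :=
    ((![(z 0 - κ * (z 0 - ε * z 1)).re, (z 0 - κ * (z 0 - ε * z 1)).im],
      ![2 * (z 0 - ε * z 1).re + a * (z 0 - ε * z 1).im,
        a * (z 0 - ε * z 1).re + 2 * b * (z 0 - ε * z 1).im]), ((z 2).re, (z 2).im))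
  map_add' x y := by
    ext i <;> (try fin_cases i) <;> simp <;> ring
  map_smul' c x := by
    ext i <;> (try fin_cases i) <;> simp <;> ring

omit [Finite F] in
theorem hermSplit_form {ε κ : QuadraticAlgebra F (-b) a} (hε : QuadraticAlgebra.norm ε = -1)
    (hκ : 2 * κ.re + a * κ.im = 1) (z : Fin 3 → QuadraticAlgebra F (-b) a) :
    hypSum 2 (binForm a b) (hermSplit ε κ z) = ∑ i, QuadraticAlgebra.norm (z i) := by
  have hu : QuadraticAlgebra.norm (z 1) = - QuadraticAlgebra.norm (ε * z 1) := by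
    rw [map_mul, hε, neg_one_mul, neg_neg]
  simp only [hermSplit, LinearMap.coe_mk, AddHom.coe_mk, Fin.sum_univ_three, hu]
  generalize ε * z 1 = u
  obtain ⟨w, hw⟩ : ∃ w, z 0 = u + w := ⟨z 0 - u, (add_sub_cancel u (z 0)).symm⟩
  rw [hw, add_sub_cancel_left]
  simp [binForm_apply, Fin.sum_univ_two, QuadraticAlgebra.norm_def]
  linear_combination (-(w.re ^ 2 + a * w.re * w.im + b * w.im ^ 2)) * hκ

theorem hermSplit_injective (hab : BinAniso a b) {ε κ : QuadraticAlgebra F (-b) a}
    (hε : ε ≠ 0) : Function.Injective (hermSplit ε κ) := by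
  haveI := hab.fact
  rw [← LinearMap.ker_eq_bot, LinearMap.ker_eq_bot']
  intro z hz
  simp only [hermSplit, LinearMap.coe_mk, AddHom.coe_mk, Prod.mk_eq_zero] at hz
  obtain ⟨⟨hp, hw⟩, h2r, h2i⟩ := hz
  have hp0 := congrFun hp 0
  have hp1 := congrFun hp 1
  have hw0 := congrFun hw 0
  have hw1 := congrFun hw 1
  simp only [Matrix.cons_val_zero, Matrix.cons_val_one, Pi.zero_apply] at hp0 hp1 hw0 hw1
  have hp' : z 0 - κ * (z 0 - ε * z 1) = 0 := QuadraticAlgebra.ext hp0 hp1
  generalize hw' : z 0 - ε * z 1 = w at hp' hw0 hw1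
  have hw2 : w = 0 := by
    have := hab.polarND (w.re, w.im) fun x => by
      rw [polar_binForm]; linear_combination x.1 * hw0 + x.2 * hw1
    exact QuadraticAlgebra.ext (congrArg Prod.fst this) (congrArg Prod.snd this)
  have h0 : z 0 = 0 := by rw [hw2, mul_zero, sub_zero] at hp'; exact hp'
  have h1 : z 1 = 0 := by
    rw [hw2, h0, zero_sub, neg_eq_zero] at hw'
    exact (mul_eq_zero.1 hw').resolve_left hε
  funext i
  fin_cases i
  · exact h0
  · exact h1
  · exact QuadraticAlgebra.ext h2r h2i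

theorem exists_hermEquiv (hab : BinAniso a b) :
    ∃ Ψ : (((Fin 2 → F) × (Fin 2 → F)) × (F × F)) ≃ₗ[F] (Fin 3 → QuadraticAlgebra F (-b) a),
      ∀ v, ∑ i, QuadraticAlgebra.norm (Ψ v i) = hypSum 2 (binForm a b) v := by
  obtain ⟨e, he⟩ := hab.exists_form_eq (-1)
  obtain ⟨x, y, hxy⟩ : ∃ x y : F, 2 * x + a * y = 1 := by
    by_cases h2 : (2 : F) = 0
    · exact ⟨0, a⁻¹, by rw [mul_zero, zero_add, mul_inv_cancel₀ (hab.a_ne_zero h2)]⟩
    · exact ⟨2⁻¹, 0, by rw [mul_zero, add_zero, mul_inv_cancel₀ h2]⟩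
  have hε : QuadraticAlgebra.norm (⟨e.1, e.2⟩ : QuadraticAlgebra F (-b) a) = -1 := by
    rw [norm_eq_binForm]; exact he
  let f := hermSplit (⟨e.1, e.2⟩ : QuadraticAlgebra F (-b) a) ⟨x, y⟩
  have hinj : Function.Injective f := hermSplit_injective hab fun h => by
    rw [h] at hε
    simp [QuadraticAlgebra.norm_def] at hε

  have hcard : Nat.card (((Fin 2 → F) × (Fin 2 → F)) × (F × F)) ≤
      Nat.card (Fin 3 → QuadraticAlgebra F (-b) a) := by
    simp only [Nat.card_prod, Nat.card_fun, Nat.card_fin, quadExt_card]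
    exact le_of_eq (by ring)
  refine ⟨(LinearEquiv.ofBijective f (hinj.bijective_of_nat_card_le hcard)).symm, fun v => ?_⟩
  rw [← hermSplit_form hε (κ := ⟨x, y⟩) hxy]
  exact congrArg _ ((LinearEquiv.ofBijective f (hinj.bijective_of_nat_card_le hcard)).apply_symm_apply v)

variable [Fintype F] [Fact (∀ r : F, r ^ 2 ≠ -b + a * r)]

theorem SU_transpose_mul {n : ℕ} {g : Matrix.SpecialLinearGroup (Fin n) (QuadraticAlgebra F (-b) a)}
    (hg : g ∈ Cfsg.SU n (QuadraticAlgebra F (-b) a) (Fintype.card F)) :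
    g.1ᵀ * g.1.map (starRingEnd (QuadraticAlgebra F (-b) a)) = 1 := by
  ext i j : 1
  have h := hg (Pi.single i 1) (Pi.single j 1)
  have hm : ∀ l, slToMat n (QuadraticAlgebra F (-b) a) g *ᵥ Pi.single l 1 = fun k => g.1 k l :=
    fun l => by funext k; simp [slToMat, Matrix.mulVec_single]
  rw [hm, hm] at h
  rw [Matrix.mul_apply, Matrix.one_apply]
  simp only [hermForm, ← star_eq_pow_card] at h
  simp only [Matrix.transpose_apply, Matrix.map_apply, starRingEnd_apply]
  rw [h]
  by_cases hij : i = j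
  · subst hij; simp [Pi.single_apply, apply_ite star]
  · simp [Pi.single_apply, apply_ite star, hij, Ne.symm hij]

/-- The action of `SU₄` on the fixed space of the duality. -/
def hermKlein :
    Cfsg.SU 4 (QuadraticAlgebra F (-b) a) (Fintype.card F) →*
      Module.End F (Fin 3 → QuadraticAlgebra F (-b) a) where
  toFun g :=
    (LinearMap.fst F (Fin 3 → QuadraticAlgebra F (-b) a) (Fin 3 → QuadraticAlgebra F (-b) a)) ∘ₗ
      (kAct g.1.1).restrictScalars F ∘ₗ kReal
  map_one' := LinearMap.ext fun z => by simp [kReal_apply]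
  map_mul' g h := LinearMap.ext fun z => by
    have hh : kAct h.1.1 (kReal z) = kReal (kAct h.1.1 (kReal z)).1 := by
      refine Prod.ext rfl (funext fun i => ?_)
      have := kAct_kJ h.1.2 (SU_transpose_mul h.2) (kReal z)
      rw [kJ_kReal] at this
      exact congrFun (congrArg Prod.snd this) i
    show (kAct (g.1.1 * h.1.1) (kReal z)).1 = (kAct g.1.1 (kReal (kAct h.1.1 (kReal z)).1)).1
    rw [← hh, map_mul, Module.End.mul_apply]

theorem kReal_hermKlein (g : Cfsg.SU 4 (QuadraticAlgebra F (-b) a) (Fintype.card F))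
    (z : Fin 3 → QuadraticAlgebra F (-b) a) :
    kReal (hermKlein g z) = kAct g.1.1 (kReal z) := by
  refine Prod.ext rfl (funext fun i => ?_)
  have := kAct_kJ g.1.2 (SU_transpose_mul g.2) (kReal z)
  rw [kJ_kReal] at this
  exact (congrFun (congrArg Prod.snd this) i).symm

theorem norm_hermKlein (g : Cfsg.SU 4 (QuadraticAlgebra F (-b) a) (Fintype.card F))
    (z : Fin 3 → QuadraticAlgebra F (-b) a) :
    ∑ i, QuadraticAlgebra.norm (hermKlein g z i) = ∑ i, QuadraticAlgebra.norm (z i) := by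
  refine (QuadraticAlgebra.algebraMap_inj (a := -b) (b := a)).1 ?_
  rw [← pf_kReal, ← pf_kReal, kReal_hermKlein, pf_kAct, g.1.2, one_mul]

theorem hermKlein_ne_one (hab : BinAniso a b) :
    ∃ g : Cfsg.SU 4 (QuadraticAlgebra F (-b) a) (Fintype.card F), hermKlein g ≠ 1 := by
  have hω : star (ω : QuadraticAlgebra F (-b) a) ≠ ω := fun h => by
    simpa using im_eq_zero_of_star_eq hab h
  have hω0 : (ω : QuadraticAlgebra F (-b) a) ≠ 0 := fun h => hω (by rw [h, star_zero])
  obtain ⟨c, hc⟩ : ∃ c, c = (ω : QuadraticAlgebra F (-b) a) / star ω := ⟨_, rfl⟩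
  have hs0 : star (ω : QuadraticAlgebra F (-b) a) ≠ 0 := fun h => hω0 (by simpa using congrArg star h)
  have hc1 : c * star c = 1 := by
    rw [hc, star_div₀, star_star]; field_simp
  have hcne : c ≠ 1 := fun h => hω ((div_eq_one_iff_eq hs0).1 (hc ▸ h)).symm
  let M : Matrix (Fin 4) (Fin 4) (QuadraticAlgebra F (-b) a) :=
    Matrix.diagonal ![c, star c, 1, 1]
  have hdet : M.det = 1 := by
    simp [M, Matrix.det_diagonal, Fin.prod_univ_four, hc1]
  have hmem : (⟨M, hdet⟩ : Matrix.SpecialLinearGroup (Fin 4) (QuadraticAlgebra F (-b) a)) ∈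
      Cfsg.SU 4 (QuadraticAlgebra F (-b) a) (Fintype.card F) := by
    intro u v
    show hermForm 4 _ _ (M *ᵥ u) (M *ᵥ v) = hermForm 4 _ _ u v
    simp only [hermForm, ← star_eq_pow_card, M, Matrix.mulVec_diagonal, Fin.sum_univ_four]
    simp only [Matrix.cons_val_zero, Matrix.cons_val_one, Matrix.cons_val, star_mul', star_star,
      star_one, one_mul]
    linear_combination (u 0 * star (v 0) + u 1 * star (v 1)) * hc1
  refine ⟨⟨⟨M, hdet⟩, hmem⟩, fun h => hcne ?_⟩
  have h1 := congrFun (LinearMap.congr_fun h (![0, 1, 0] : Fin 3 → QuadraticAlgebra F (-b) a)) 1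
  simpa [hermKlein, kReal_apply, kAct_apply, kMat, kCoord, M, Matrix.mul_apply,
    Fin.sum_univ_four] using h1

omit [Fintype F] [Fact (∀ r : F, r ^ 2 ≠ -b + a * r)] in
theorem gcd_four_cube_succ (q : ℕ) : Nat.gcd 4 (q ^ 3 + 1) = Nat.gcd 4 (q + 1) := by
  rw [Nat.gcd_rec 4, Nat.gcd_rec 4 (q + 1), Nat.add_mod, Nat.pow_mod, Nat.add_mod q]
  have := Nat.mod_lt q (by norm_num : 4 > 0)
  interval_cases q % 4 <;> decide

omit [Fintype F] [Fact (∀ r : F, r ^ 2 ≠ -b + a * r)] in
theorem pomega_six_minus_equiv {K : Type*} [Field K] [Finite K]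
    (hK : Nat.card K = Nat.card F ^ 2) (hab : BinAniso a b) :
    Nonempty (Cfsg.POmega F (Cfsg.quadFormMinus 2 F a b) ≃* Cfsg.PSU 4 K (Nat.card F)) := by
  classical
  haveI := hab.fact
  cases nonempty_fintype F
  cases nonempty_fintype K
  cases nonempty_fintype (QuadraticAlgebra F (-b) a)
  rw [Nat.card_eq_fintype_card (α := F)] at hK ⊢
  have hK' : Fintype.card (QuadraticAlgebra F (-b) a) = Fintype.card F ^ 2 := by
    rw [← Nat.card_eq_fintype_card, quadExt_card, Nat.card_eq_fintype_card]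
  let e : QuadraticAlgebra F (-b) a ≃+* K := FiniteField.ringEquivOfCardEq (by
    rw [hK', ← hK, Nat.card_eq_fintype_card])
  obtain ⟨Ψ, hΨ⟩ := exists_hermEquiv hab
  let toEquiv : Cfsg.SU 4 (QuadraticAlgebra F (-b) a) (Fintype.card F) →*
      ((((Fin 2 → F) × (Fin 2 → F)) × (F × F)) ≃ₗ[F] (((Fin 2 → F) × (Fin 2 → F)) × (F × F))) :=
    { toFun := fun g =>
        { toFun := fun v => Ψ.symm (hermKlein g (Ψ v))
          invFun := fun v => Ψ.symm (hermKlein g⁻¹ (Ψ v))
          map_add' := fun v w => by simp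
          map_smul' := fun c v => by simp
          left_inv := fun v => by
            simp only [LinearEquiv.apply_symm_apply]
            rw [← Module.End.mul_apply, ← map_mul, inv_mul_cancel, map_one, Module.End.one_apply,
              LinearEquiv.symm_apply_apply]
          right_inv := fun v => by
            simp only [LinearEquiv.apply_symm_apply]
            rw [← Module.End.mul_apply, ← map_mul, mul_inv_cancel, map_one, Module.End.one_apply,
              LinearEquiv.symm_apply_apply] }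
      map_one' := LinearEquiv.ext fun v => by simp
      map_mul' := fun g h => LinearEquiv.ext fun v => by simp }
  let f₀ : Cfsg.SU 4 (QuadraticAlgebra F (-b) a) (Fintype.card F) →*
      orth (hypSum 2 (binForm a b)) := toEquiv.codRestrict _ fun g v => by
    show hypSum 2 (binForm a b) (Ψ.symm (hermKlein g (Ψ v))) = _
    rw [← hΨ, LinearEquiv.apply_symm_apply, norm_hermKlein, hΨ]
  let f := (minusEquiv 2 F a b).symm.toMonoidHom.comp f₀
  have hf : f ≠ 1 := by
    intro h
    obtain ⟨g, hg⟩ := hermKlein_ne_one hab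
    have h1 : f₀ g = 1 :=
      (minusEquiv 2 F a b).symm.injective ((DFunLike.congr_fun h g).trans (map_one _).symm)
    refine hg (LinearMap.ext fun z => Ψ.symm.injective ?_)
    have h2 := DFunLike.congr_fun (congrArg Subtype.val h1) (Ψ.symm z)
    change Ψ.symm (hermKlein g (Ψ (Ψ.symm z))) = Ψ.symm z at h2
    rwa [LinearEquiv.apply_symm_apply] at h2
  have h32 : ¬ (4 = 3 ∧ Fintype.card F = 2) := by omega
  have hperf := Unitary.commutator_SU_eq_top (n := 4) hK' (by norm_num) h32
  haveI := Unitary.isSimpleGroup_PSU (n := 4) hK' (by norm_num) h32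
  obtain ⟨hs, hc⟩ := pomega_minus hab 0
  haveI : IsSimpleGroup (↥(commutator (Cfsg.isometryGroup F (Cfsg.quadFormMinus 2 F a b))) ⧸
      Subgroup.center ↥(commutator (Cfsg.isometryGroup F (Cfsg.quadFormMinus 2 F a b)))) := hs
  have hP := Unitary.card_PSU (n := 4) hK' (by norm_num)
  obtain ⟨e1⟩ := nonempty_commutator_quotient_of_perfect hperf f hf (le_of_eq (by
    rw [card_orth_minus hab 2, gcd_four_cube_succ, Nat.card_eq_fintype_card (α := F)] at hc
    simp only [Finset.prod_range_succ, Finset.prod_range_zero, one_mul,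
      show ¬ Even 1 by decide, show Even 0 by decide, show Even 2 by decide,
      show ¬ Even 3 by decide, if_true, if_false] at hP hc
    refine Nat.eq_of_mul_eq_mul_left (show 0 < 2 * (Nat.gcd 4 (Fintype.card F + 1) *
      (Fintype.card F + 1)) from Nat.mul_pos two_pos (Nat.mul_pos
        (Nat.gcd_pos_of_pos_left _ (by norm_num)) (Nat.succ_pos _))) ?_
    calc _ = (Fintype.card F + 1) * (2 * Nat.gcd 4 (Fintype.card F + 1) *
          Nat.card (Cfsg.POmega F (Cfsg.quadFormMinus 2 F a b))) := by ring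
      _ = _ := by
          rw [hc]
          calc _ = 2 * (Fintype.card F ^ (4 * (4 - 1) / 2) *
                ((Fintype.card F ^ (0 + 1) + 1) * (Fintype.card F ^ (1 + 1) - 1) *
                  (Fintype.card F ^ (2 + 1) + 1) * (Fintype.card F ^ (3 + 1) - 1))) := by
                norm_num; ring
            _ = _ := by rw [← hP]; ring))
  exact ⟨e1.trans (psuCongr e)⟩

end Cfsg.Agent.UnitaryOrthogonal
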