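/-
`PΩ₆⁺(q) ≅ PSL₄(q)` and `PΩ₅(q) ≅ PSp₄(q)`.
-/
import Cfsg.Agent.Lib.UnitaryOrthogonal.Klein
import Cfsg.Agent.Lib.UnitaryOrthogonal.IsoTools
import Cfsg.Agent.Lib.UnitaryOrthogonal.OmegaStandard
import Cfsg.Agent.Lib.LinearGroup.Simple
import Cfsg.Agent.Lib.LinearGroup.Card
import Cfsg.Agent.Lib.Symplectic.Simple
import Cfsg.Agent.Lib.Symplectic.Card
import Cfsg.Agent.Lib.Symplectic.Perfect

set_option autoImplicit false

namespace Cfsg.Agent.UnitaryOrthogonal

open QuadraticMap
open scoped Matrix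

variable {F : Type*} [Field F]

theorem hypSum_three_eq_pf (v : Klein F) (z : Fin 0 → F) :
    hypSum 3 (zeroForm F) (v, z) = pf v := by
  simp [zeroForm, pf, Fin.sum_univ_three]

/-- `g` with `det g = 1` as an isometry of the Klein quadric. -/
def kleinOrth : Matrix.SpecialLinearGroup (Fin 4) F →* orth (hypSum 3 (zeroForm F)) where
  toFun g := ⟨
    { toFun := fun v => (kAct g.1 v.1, v.2)
      invFun := fun v => (kAct g⁻¹.1 v.1, v.2)
      map_add' := fun v w => by simp
      map_smul' := fun c v => by simp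
      left_inv := fun v => by
        simp only
        rw [← Module.End.mul_apply, ← map_mul, ← Matrix.SpecialLinearGroup.coe_mul, inv_mul_cancel,
          Matrix.SpecialLinearGroup.coe_one, map_one]
        simp
      right_inv := fun v => by
        simp only
        rw [← Module.End.mul_apply, ← map_mul, ← Matrix.SpecialLinearGroup.coe_mul, mul_inv_cancel,
          Matrix.SpecialLinearGroup.coe_one, map_one]
        simp }, fun v => by
      show hypSum 3 (zeroForm F) (kAct g.1 v.1, v.2) = hypSum 3 (zeroForm F) (v.1, v.2)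
      rw [hypSum_three_eq_pf, hypSum_three_eq_pf, pf_kAct, g.2, one_mul]⟩
  map_one' := orth_ext fun v => by simp
  map_mul' g h := orth_ext fun v => by simp

theorem kleinOrth_apply (g : Matrix.SpecialLinearGroup (Fin 4) F) (v : Klein F) (z : Fin 0 → F) :
    (kleinOrth g).1 (v, z) = (kAct g.1 v, z) := rfl

theorem kleinOrth_ne_one : kleinOrth (F := F) ≠ 1 := by
  intro h
  have h1 := DFunLike.congr_fun (congrArg Subtype.val (DFunLike.congr_fun h
    (Matrix.SpecialLinearGroup.transvection (by decide : (0 : Fin 4) ≠ 1) (1 : F))))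
    (((![0, 0, 0], ![0, 1, 0]), 0) : Klein F × (Fin 0 → F))
  rw [kleinOrth_apply] at h1
  have h2 := congrArg (fun v : Klein F × (Fin 0 → F) => v.1) h1
  simp [kAct_apply, kMat, kCoord, Matrix.mul_apply, Fin.sum_univ_four,
    Matrix.SpecialLinearGroup.transvection_coe, Matrix.single, Matrix.one_apply] at h2

variable [Finite F]

theorem pomega_six_plus_equiv :
    Nonempty (Cfsg.POmega F (Cfsg.quadFormPlus 3 F) ≃*
      Matrix.ProjectiveSpecialLinearGroup (Fin 4) F) := by
  obtain ⟨hs, hc⟩ := pomega_plus (F := F) 1 le_rfl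
  have hperf : commutator (Matrix.SpecialLinearGroup (Fin 4) F) = ⊤ :=
    LinearGroup.commutator_SL_eq_top (by simp)
  haveI : IsSimpleGroup (Matrix.SpecialLinearGroup (Fin 4) F ⧸
      Subgroup.center (Matrix.SpecialLinearGroup (Fin 4) F)) :=
    LinearGroup.isSimpleGroup_PSL_of_three_le (by simp)
  haveI : IsSimpleGroup (↥(commutator (Cfsg.isometryGroup F (Cfsg.quadFormPlus 3 F))) ⧸
      Subgroup.center ↥(commutator (Cfsg.isometryGroup F (Cfsg.quadFormPlus 3 F)))) := hs
  let f := (plusEquiv 3 F).symm.toMonoidHom.comp kleinOrth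
  have hf : f ≠ 1 := fun h => kleinOrth_ne_one (MonoidHom.ext fun g =>
    (plusEquiv 3 F).symm.injective ((DFunLike.congr_fun h g).trans (map_one _).symm))
  refine nonempty_commutator_quotient_of_perfect hperf f hf (le_of_eq ?_)
  obtain ⟨q, hq⟩ : ∃ q, q = Nat.card F := ⟨_, rfl⟩
  have hq2 : 2 ≤ q := hq ▸ Finite.one_lt_card
  have hP : Nat.gcd 4 (q - 1) * Nat.card (Matrix.SpecialLinearGroup (Fin 4) F ⧸
      Subgroup.center (Matrix.SpecialLinearGroup (Fin 4) F)) =
      Nat.card (Matrix.SpecialLinearGroup (Fin 4) F) := by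
    have := LinearGroup.gcd_mul_card_PSL (n := Fin 4) (F := F)
    simpa [← hq] using this
  have hS : Nat.card (Matrix.SpecialLinearGroup (Fin 4) F) =
      q ^ 6 * (q ^ 2 - 1) * (q ^ 3 - 1) * (q ^ 4 - 1) := by
    rw [LinearGroup.card_SL_eq_pow_mul_prod 3]
    simp [Finset.prod_range_succ, Fin.sum_univ_four, ← hq, mul_assoc]
  rw [card_orth_plus 2, ← hq] at hc
  simp only [Finset.prod_range_succ, Finset.prod_range_zero, one_mul] at hc
  have hg : Nat.gcd 4 (q ^ 3 - 1) = Nat.gcd 4 (q - 1) := by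
    obtain ⟨t, rfl⟩ : ∃ t, q = t + 1 := ⟨q - 1, by omega⟩
    have e : (t + 1) ^ 3 - 1 = t * (t * t + 3 * t + 3) :=
      Nat.sub_eq_of_eq_add (by ring)
    rw [e, Nat.add_sub_cancel]
    rcases Nat.even_or_odd t with ht | ht
    · refine Nat.Coprime.gcd_mul_right_cancel_right _ ?_
      have h2 : ¬ 2 ∣ t * t + 3 * t + 3 := by
        obtain ⟨r, rfl⟩ := ht
        have : (r + r) * (r + r) + 3 * (r + r) + 3 = 2 * (2 * r * r + 3 * r + 1) + 1 := by ring
        omega
      exact (Nat.Coprime.pow_left 2 (Nat.prime_two.coprime_iff_not_dvd.2 h2) :).symm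
    · have h1 : ¬ 2 ∣ t := fun h => (Nat.not_even_iff_odd.2 ht) (even_iff_two_dvd.2 h)
      have h2 : ¬ 2 ∣ t * (t * t + 3 * t + 3) := by
        obtain ⟨r, rfl⟩ := ht
        have : (2 * r + 1) * ((2 * r + 1) * (2 * r + 1) + 3 * (2 * r + 1) + 3) =
            2 * (4 * r ^ 3 + 12 * r ^ 2 + 12 * r + 3) + 1 := by ring
        omega
      rw [(Nat.Coprime.pow_left 2 (Nat.prime_two.coprime_iff_not_dvd.2 h1) :
          Nat.Coprime 4 t).gcd_eq_one,
        (Nat.Coprime.pow_left 2 (Nat.prime_two.coprime_iff_not_dvd.2 h2) :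
          Nat.Coprime 4 _).gcd_eq_one]
  simp only [Nat.reduceAdd, hg] at hc
  refine Nat.eq_of_mul_eq_mul_left (Nat.gcd_pos_of_pos_left (q - 1) (by norm_num : 0 < 4)) ?_
  rw [hP, hS]
  refine Nat.eq_of_mul_eq_mul_left two_pos ?_
  rw [← mul_assoc]
  refine hc.trans ?_
  norm_num
  ring

/-- The embedding of `ω^⊥` in the Klein space, `ω` the symplectic form. -/
def klein5 (v : ((Fin 2 → F) × (Fin 2 → F)) × F) : Klein F :=
  (![v.1.1 0, v.2, v.1.1 1], ![v.1.2 0, v.2, v.1.2 1])

/-- Left inverse of `klein5`. -/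
def klein5Inv (v : Klein F) : ((Fin 2 → F) × (Fin 2 → F)) × F :=
  ((![v.1 0, v.1 2], ![v.2 0, v.2 2]), v.1 1)

/-- Index change for the symplectic group. -/
def sumFinTwoEquiv : Fin 2 ⊕ Fin 2 ≃ Fin 4 where
  toFun := Sum.elim ![0, 1] ![2, 3]
  invFun := ![.inl 0, .inl 1, .inr 0, .inr 1]
  left_inv x := by rcases x with x | x <;> fin_cases x <;> rfl
  right_inv x := by fin_cases x <;> rfl

/-- The symplectic group as 4 × 4 matrices. -/
def spMat : Matrix.symplecticGroup (Fin 2) F →* Matrix (Fin 4) (Fin 4) F where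
  toFun A := A.1.submatrix sumFinTwoEquiv.symm sumFinTwoEquiv.symm
  map_one' := Matrix.submatrix_one_equiv _
  map_mul' A B := (Matrix.submatrix_mul_equiv A.1 B.1 _ sumFinTwoEquiv.symm _).symm

theorem spMat_apply (A : Matrix.symplecticGroup (Fin 2) F) (i j : Fin 4) :
    spMat A i j = A.1 (sumFinTwoEquiv.symm i) (sumFinTwoEquiv.symm j) := rfl

/-- The vector of the symplectic form. -/
def omegaVec : Klein F := (![0, -1, 0], ![0, 1, 0])

omit [Finite F] in
theorem kMat_omegaVec :
    kMat omegaVec = (Matrix.J (Fin 2) F).submatrix sumFinTwoEquiv.symm sumFinTwoEquiv.symm := by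
  ext i j
  fin_cases i <;> fin_cases j <;> simp [kMat, omegaVec, Matrix.J, sumFinTwoEquiv]

omit [Finite F] in
theorem kAct_omegaVec (A : Matrix.symplecticGroup (Fin 2) F) :
    kAct (spMat A) omegaVec = omegaVec := by
  conv_rhs => rw [← kCoord_kMat omegaVec]
  rw [kAct_apply, kMat_omegaVec]
  congr 1
  show A.1.submatrix _ _ * _ * (A.1.submatrix _ _)ᵀ = _
  rw [Matrix.transpose_submatrix, Matrix.submatrix_mul_equiv, Matrix.submatrix_mul_equiv,
    SymplecticGroup.mem_iff.1 A.2]

omit [Finite F] in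
theorem det_spMat (A : Matrix.symplecticGroup (Fin 2) F) : (spMat A).det = 1 := by
  have := pf_kAct (spMat A) omegaVec
  rw [kAct_omegaVec] at this
  simp [pf, omegaVec] at this
  exact this.symm

omit [Finite F] in
theorem klein5_klein5Inv {v : Klein F} (h : v.1 1 = v.2 1) : klein5 (klein5Inv v) = v := by
  ext i <;> fin_cases i <;> simp [klein5, klein5Inv, h]

omit [Finite F] in
theorem klein5_stable (A : Matrix.symplecticGroup (Fin 2) F)
    (w : ((Fin 2 → F) × (Fin 2 → F)) × F) :
    (kAct (spMat A) (klein5 w)).1 1 = (kAct (spMat A) (klein5 w)).2 1 := by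
  have h1 := pf_kAct (spMat A) (omegaVec + klein5 w)
  have h2 := pf_kAct (spMat A) (klein5 w)
  rw [det_spMat, one_mul] at h1 h2
  rw [map_add, kAct_omegaVec] at h1
  generalize kAct (spMat A) (klein5 w) = u at h1 h2 ⊢
  simp [pf, omegaVec, klein5] at h1 h2
  linear_combination h1 - h2

omit [Finite F] in
theorem hypSum_two_sq_eq_pf (v : ((Fin 2 → F) × (Fin 2 → F)) × F) :
    hypSum 2 (sqForm F) v = pf (klein5 v) := by
  simp [pf, klein5, Fin.sum_univ_two]
  ring

/-- `Sp₄ → O₅`. -/
def spOrth : Matrix.symplecticGroup (Fin 2) F →* orth (hypSum 2 (sqForm F)) where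
  toFun A := ⟨
    { toFun := fun v => klein5Inv (kAct (spMat A) (klein5 v))
      invFun := fun v => klein5Inv (kAct (spMat A⁻¹) (klein5 v))
      map_add' := fun v w => by
        rw [show klein5 (v + w) = klein5 v + klein5 w by ext i <;> fin_cases i <;> simp [klein5],
          map_add]
        ext i <;> first | rfl | (fin_cases i <;> rfl)
      map_smul' := fun c v => by
        rw [show klein5 (c • v) = c • klein5 v by ext i <;> fin_cases i <;> simp [klein5],
          map_smul]
        ext i <;> first | rfl | (fin_cases i <;> rfl)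
      left_inv := fun v => by
        simp only
        rw [klein5_klein5Inv (klein5_stable A v), ← Module.End.mul_apply, ← map_mul, ← map_mul,
          inv_mul_cancel, map_one, map_one, Module.End.one_apply]
        ext i <;> first | rfl | (fin_cases i <;> rfl)
      right_inv := fun v => by
        simp only
        rw [klein5_klein5Inv (klein5_stable A⁻¹ v), ← Module.End.mul_apply, ← map_mul, ← map_mul,
          mul_inv_cancel, map_one, map_one, Module.End.one_apply]
        ext i <;> first | rfl | (fin_cases i <;> rfl) }, fun v => by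
      show hypSum 2 (sqForm F) (klein5Inv _) = _
      rw [hypSum_two_sq_eq_pf, hypSum_two_sq_eq_pf, klein5_klein5Inv (klein5_stable A v), pf_kAct,
        det_spMat, one_mul]⟩
  map_one' := orth_ext fun v => by
    show klein5Inv (kAct (spMat 1) (klein5 v)) = v
    rw [map_one, map_one, Module.End.one_apply]
    ext i <;> first | rfl | (fin_cases i <;> rfl)
  map_mul' A B := orth_ext fun v => by
    show klein5Inv (kAct (spMat (A * B)) (klein5 v)) =
      klein5Inv (kAct (spMat A) (klein5 (klein5Inv (kAct (spMat B) (klein5 v)))))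
    rw [klein5_klein5Inv (klein5_stable B v), ← Module.End.mul_apply, ← map_mul, ← map_mul]

omit [Finite F] in
theorem spOrth_ne_one : spOrth (F := F) ≠ 1 := by
  intro h
  have hJ := DFunLike.congr_fun (congrArg Subtype.val (DFunLike.congr_fun h
    (SymplecticGroup.symJ (Fin 2) F))) (((![1, 0], ![0, 0]), 0) : ((Fin 2 → F) × (Fin 2 → F)) × F)
  change klein5Inv (kAct (spMat _) (klein5 _)) = _ at hJ
  have h2 := congrArg (fun v : ((Fin 2 → F) × (Fin 2 → F)) × F => v.1.1 0) hJ
  have e : ∀ i j, spMat (SymplecticGroup.symJ (Fin 2) F) i j =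
      Matrix.J (Fin 2) F (sumFinTwoEquiv.symm i) (sumFinTwoEquiv.symm j) := fun i j => rfl
  simp [kAct_apply, kMat, kCoord, klein5, klein5Inv, e, Matrix.J,
    Matrix.mul_apply, Fin.sum_univ_four, sumFinTwoEquiv] at h2

theorem pomega_five_equiv (h2 : (2 : F) ≠ 0) :
    Nonempty (Cfsg.POmega F (Cfsg.quadFormOdd 2 F) ≃* Cfsg.PSp 2 F) := by
  cases nonempty_fintype F
  obtain ⟨hs, hc⟩ := pomega_odd (F := F) h2 0
  have hq : 3 ≤ Fintype.card F := by
    have h1 := odd_natCard (F := F) h2
    have := Fintype.one_lt_card (α := F)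
    rw [Nat.card_eq_fintype_card] at h1
    omega
  have hperf : commutator (Matrix.symplecticGroup (Fin 2) F) = ⊤ :=
    Symplectic.commutator_eq_top (Or.inr (Or.inl ⟨rfl, hq⟩))
  haveI : IsSimpleGroup (Matrix.symplecticGroup (Fin 2) F ⧸
      Subgroup.center (Matrix.symplecticGroup (Fin 2) F)) :=
    Symplectic.isSimpleGroup_PSp le_rfl hperf
  haveI : IsSimpleGroup (↥(commutator (Cfsg.isometryGroup F (Cfsg.quadFormOdd 2 F))) ⧸
      Subgroup.center ↥(commutator (Cfsg.isometryGroup F (Cfsg.quadFormOdd 2 F)))) := hs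
  haveI : Finite (Matrix.symplecticGroup (Fin 2) F) := Finite.of_injective _ Subtype.val_injective
  let f := (oddEquiv 2 F).symm.toMonoidHom.comp spOrth
  have hf : f ≠ 1 := fun h => spOrth_ne_one (MonoidHom.ext fun g =>
    (oddEquiv 2 F).symm.injective ((DFunLike.congr_fun h g).trans (map_one _).symm))
  refine nonempty_commutator_quotient_of_perfect hperf f hf (le_of_eq ?_)
  have hP := Symplectic.card_PSp (F := F) (q := Fintype.card F) rfl (m := 2) (by norm_num)
  rw [card_orth_odd h2, Nat.card_eq_fintype_card (α := F)] at hc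
  have hodd : Nat.gcd 2 (Fintype.card F - 1) = 2 := by
    have h1 := odd_natCard (F := F) h2
    rw [Nat.card_eq_fintype_card] at h1
    exact Nat.gcd_eq_left (by omega)
  rw [hodd] at hP
  refine Nat.eq_of_mul_eq_mul_left (by norm_num : 0 < 4) ?_
  refine hc.trans ?_
  rw [show (4 : ℕ) = 2 * 2 from rfl, mul_assoc 2 2, hP, mul_assoc]

end Cfsg.Agent.UnitaryOrthogonal
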