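/-
In characteristic two the odd-dimensional orthogonal group is the symplectic group.
-/
import Cfsg.Agent.Lib.UnitaryOrthogonal.Standard

set_option autoImplicit false

namespace Cfsg.Agent.UnitaryOrthogonal

open QuadraticMap
open scoped Matrix

variable {F : Type*} [Field F] [CharP F 2] {m : ℕ}

theorem polar_qPlus (u v : Fin m ⊕ Fin m → F) :
    polar (qPlus m F) u v = u ⬝ᵥ (Matrix.J (Fin m) F *ᵥ v) := by
  simp only [polar, qPlus_apply, Cfsg.quadFormPlus, Pi.add_apply]
  rw [dotProduct, Fintype.sum_sum_type]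
  simp [Matrix.J, Matrix.mulVec, dotProduct, Fintype.sum_sum_type, Matrix.fromBlocks,
    Matrix.one_apply, CharTwo.neg_eq, add_mul, mul_add, Finset.sum_add_distrib, mul_comm]
  ring

/-- `qPlus ⊥ ⟨x²⟩`. -/
noncomputable def qOddSplit (m : ℕ) (F : Type*) [Field F] :
    QuadraticForm F ((Fin m ⊕ Fin m → F) × F) :=
  QuadraticMap.prod (qPlus m F) (sqForm F)

/-- `qOdd ≅ qPlus ⊥ ⟨x²⟩`. -/
def qOddSplitIso (m : ℕ) (F : Type*) [Field F] :
    (qOdd m F).IsometryEquiv (qOddSplit m F) :=
  { toFun := fun v => (v ∘ Sum.inr, v (.inl ()))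
    invFun := fun p => Sum.elim (fun _ => p.2) p.1
    map_add' := fun _ _ => rfl
    map_smul' := fun _ _ => rfl
    left_inv := fun v => funext fun x => by rcases x with _ | x <;> rfl
    right_inv := fun _ => rfl
    map_app' := fun v => by
      simp [qOddSplit, qOdd_apply, qPlus_apply, Cfsg.quadFormOdd, Cfsg.quadFormPlus]
      ring }

omit [CharP F 2] in
theorem qOddSplit_apply (p : (Fin m ⊕ Fin m → F) × F) :
    qOddSplit m F p = qPlus m F p.1 + p.2 * p.2 := rfl

theorem polar_qOddSplit (p r : (Fin m ⊕ Fin m → F) × F) :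
    polar (qOddSplit m F) p r = polar (qPlus m F) p.1 r.1 := by
  simp only [polar, qOddSplit_apply, Prod.fst_add, Prod.snd_add]
  linear_combination p.2 * r.2 * (CharTwo.two_eq_zero : (2 : F) = 0)

theorem eq_of_mul_self_eq {x y : F} (h : x * x = y * y) : x = y :=
  CharTwo.sq_inj.1 (by rw [pow_two, pow_two, h])

theorem polarND_qPlus_charTwo : PolarND (qPlus m F) :=
  (polarND_zeroForm.hypSum m).congr (qPlusIso m F).symm

theorem qOddSplit_fix (g : orth (qOddSplit m F)) : g.1 (0, 1) = (0, 1) := by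
  have h1 : (g.1 (0, 1)).1 = 0 := polarND_qPlus_charTwo _ fun x => by
    have := map_polar g (0, 1) (g⁻¹.1 (x, 0))
    rw [coe_apply_inv_apply, polar_qOddSplit, polar_qOddSplit] at this
    rw [this, polar_zero_left]
  have h2 := map_form g (0, 1)
  rw [qOddSplit_apply, qOddSplit_apply, h1] at h2
  simp only [QuadraticMap.map_zero, zero_add] at h2
  exact Prod.ext h1 (eq_of_mul_self_eq h2)

/-- The symplectic part of an isometry. -/
noncomputable def spPart : orth (qOddSplit m F) →* Matrix.symplecticGroup (Fin m) F where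
  toFun g := ⟨LinearMap.toMatrix' (LinearMap.fst F _ F ∘ₗ g.1.toLinearMap ∘ₗ LinearMap.inl F _ F), by
    rw [SymplecticGroup.mem_iff']
    refine Matrix.ext_of_mulVec_single fun j => funext fun i => ?_
    set A := LinearMap.toMatrix' (LinearMap.fst F _ F ∘ₗ g.1.toLinearMap ∘ₗ LinearMap.inl F _ F)
    have key : ∀ u v, u ⬝ᵥ ((Aᵀ * Matrix.J (Fin m) F * A) *ᵥ v) =
        u ⬝ᵥ (Matrix.J (Fin m) F *ᵥ v) := by
      intro u v
      rw [← Matrix.mulVec_mulVec, ← Matrix.mulVec_mulVec, Matrix.dotProduct_mulVec _ Aᵀ,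
        Matrix.vecMul_transpose, ← polar_qPlus, ← polar_qPlus]
      have hA : ∀ w, A *ᵥ w = (g.1 (w, 0)).1 := fun w => by
        simp [A]
      rw [hA, hA, ← polar_qOddSplit, map_polar, polar_qOddSplit]
    simpa using key (Pi.single i 1) (Pi.single j 1)⟩
  map_one' := Subtype.ext (by
    show LinearMap.toMatrix' _ = 1
    rw [← LinearMap.toMatrix'_id]
    congr 1)
  map_mul' g h := Subtype.ext (by
    show LinearMap.toMatrix' _ = LinearMap.toMatrix' _ * LinearMap.toMatrix' _
    rw [← LinearMap.toMatrix'_comp]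
    congr 1
    refine LinearMap.ext fun v => ?_
    show (g.1 (h.1 (v, 0))).1 = (g.1 ((h.1 (v, 0)).1, 0)).1
    conv_lhs => rw [show h.1 (v, 0) = ((h.1 (v, 0)).1, 0) + (h.1 (v, 0)).2 • ((0 : Fin m ⊕ Fin m → F), (1 : F)) by
      simp [Prod.ext_iff]]
    rw [map_add, map_smul, qOddSplit_fix]
    simp)

theorem spPart_injective : Function.Injective (spPart (m := m) (F := F)) := fun g h e => by
  have e1 : ∀ w, (g.1 (w, 0)).1 = (h.1 (w, 0)).1 := fun w => by
    have := congrArg (fun A : Matrix.symplecticGroup (Fin m) F => A.1 *ᵥ w) e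
    simpa [spPart] using this
  refine orth_ext fun p => ?_
  have e2 : ∀ w, g.1 (w, 0) = h.1 (w, 0) := fun w => Prod.ext (e1 w) (eq_of_mul_self_eq (by
    have q := (map_form g (w, 0)).trans (map_form h (w, 0)).symm
    rw [qOddSplit_apply, qOddSplit_apply, e1 w] at q
    exact add_left_cancel q))
  rw [show p = (p.1, 0) + p.2 • ((0 : Fin m ⊕ Fin m → F), (1 : F)) by simp [Prod.ext_iff],
    map_add, map_add, map_smul, map_smul, qOddSplit_fix, qOddSplit_fix, e2]

theorem spPart_surjective [Finite F] : Function.Surjective (spPart (m := m) (F := F)) := by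
  intro A
  have hA : ∀ u v, polar (qPlus m F) (A.1 *ᵥ u) (A.1 *ᵥ v) = polar (qPlus m F) u v := by
    intro u v
    rw [polar_qPlus, polar_qPlus]
    conv_rhs => rw [← (SymplecticGroup.mem_iff'.1 A.2)]
    rw [← Matrix.mulVec_mulVec, ← Matrix.mulVec_mulVec, Matrix.dotProduct_mulVec _ A.1ᵀ,
      Matrix.vecMul_transpose]
  let D : (Fin m ⊕ Fin m → F) → F := fun w => qPlus m F w + qPlus m F (A.1 *ᵥ w)
  let s : F ≃+* F := (frobeniusEquiv F 2).symm
  have hs : ∀ x, s x * s x = x := fun x => by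
    have := (frobeniusEquiv F 2).apply_symm_apply x
    rw [frobeniusEquiv_apply, frobenius_def, pow_two] at this
    exact this
  have hDadd : ∀ v w, D (v + w) = D v + D w := fun v w => by
    simp only [D, Matrix.mulVec_add, form_add, hA]
    linear_combination polar (qPlus m F) v w * (CharTwo.two_eq_zero : (2 : F) = 0)
  have hDsmul : ∀ (c : F) v, D (c • v) = c * c * D v := fun c v => by
    simp only [D, Matrix.mulVec_smul, form_smul]; ring
  have hssmul : ∀ (c : F) v, s (D (c • v)) = c * s (D v) := fun c v => eq_of_mul_self_eq (by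
    rw [hs, hDsmul, mul_mul_mul_comm, hs])
  let φ : ((Fin m ⊕ Fin m → F) × F) →ₗ[F] ((Fin m ⊕ Fin m → F) × F) :=
    { toFun := fun p => (A.1 *ᵥ p.1, p.2 + s (D p.1))
      map_add' := fun p r => by
        ext1
        · simp [Matrix.mulVec_add]
        · simp only [Prod.fst_add, Prod.snd_add, hDadd, map_add]; ring
      map_smul' := fun c p => by
        ext1
        · simp [Matrix.mulVec_smul]
        · simp only [Prod.smul_fst, Prod.smul_snd, smul_eq_mul, hssmul, RingHom.id_apply]; ring }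
  have hφ : Function.Injective φ := by
    rw [← LinearMap.ker_eq_bot, LinearMap.ker_eq_bot']
    intro p hp
    have h1 : A.1 *ᵥ p.1 = 0 := congrArg Prod.fst hp
    have h1' : p.1 = 0 := polarND_qPlus_charTwo _ fun x => by rw [← hA, h1, polar_zero_left]
    have h2 : p.2 + s (D p.1) = 0 := congrArg Prod.snd hp
    rw [h1'] at h2
    simp [D] at h2
    exact Prod.ext h1' h2
  let g : orth (qOddSplit m F) := ⟨LinearEquiv.ofInjectiveEndo φ hφ, fun p => by
    show qOddSplit m F (φ p) = _
    simp only [qOddSplit_apply, φ, LinearMap.coe_mk, AddHom.coe_mk]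
    linear_combination hs (D p.1) +
      (p.2 * s (D p.1) + qPlus m F (A.1 *ᵥ p.1)) * (CharTwo.two_eq_zero : (2 : F) = 0)⟩
  refine ⟨g, Subtype.ext ?_⟩
  show LinearMap.toMatrix' _ = A.1
  rw [← LinearMap.toMatrix'_toLin' A.1]
  congr 1

theorem orth_odd_equiv_symplectic [Finite F] :
    Nonempty (Cfsg.isometryGroup F (Cfsg.quadFormOdd m F) ≃* Matrix.symplecticGroup (Fin m) F) :=
  ⟨((isometryGroupEquiv (qOdd m F) (qOdd_apply m)).trans (orthCongr (qOddSplitIso m F))).trans
    (MulEquiv.ofBijective spPart ⟨spPart_injective, spPart_surjective⟩)⟩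

end Cfsg.Agent.UnitaryOrthogonal
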