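/-
Involutions of orthogonal groups in characteristic two: membership in the commutator subgroup,
comparison with the symplectic group of the polar form, and splitting of classes.
-/
import Cfsg.Agent.Forms59.Involutions
import Cfsg.Agent.Lib.UnitaryOrthogonal.SingularParity

set_option autoImplicit false
set_option linter.unusedSectionVars false

namespace Cfsg.Agent.UnitaryOrthogonal.Involution

open Matrix QuadraticMap Cfsg.Agent.Reflections Cfsg.Agent.Forms59 Cfsg.Agent.Forms59.Inv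
open scoped Matrix

variable {ι : Type} [Fintype ι] [DecidableEq ι] {F : Type*} [Field F] [Fintype F] [CharP F 2]
variable {Q : QuadraticForm F (ι → F)}

theorem mulVecLin_sub_one (M : Matrix ι ι F) :
    Matrix.mulVecLin (M - 1) = Matrix.mulVecLin M + LinearMap.id := by
  refine LinearMap.ext fun x => ?_
  rw [Matrix.mulVecLin_apply, Matrix.sub_mulVec, Matrix.one_mulVec, LinearMap.add_apply,
    Matrix.mulVecLin_apply, LinearMap.id_apply]
  funext i
  rw [Pi.sub_apply, Pi.add_apply, CharTwo.sub_eq_add]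

theorem rank_eq_rk (g : ↥(Cfsg.isometryGroup F ⇑Q)) : (mat g - 1).rank = rk g := by
  rw [Matrix.rank, mulVecLin_sub_one]; rfl

theorem moved_eq_rk (g : ↥(Cfsg.isometryGroup F ⇑Q)) :
    UnitaryOrthogonal.moved (toOrth Q g) = rk g := by
  have : (toOrth Q g).1.toLinearMap - LinearMap.id = nmap g := LinearMap.ext fun x => by
    rw [LinearMap.sub_apply, LinearMap.id_apply, LinearEquiv.coe_coe, toOrth_apply, nmap_apply]
    funext i
    rw [Pi.sub_apply, Pi.add_apply, CharTwo.sub_eq_add]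
  rw [UnitaryOrthogonal.moved, this]; rfl

/-- The parity of `rank (g - 1)` is a character taking the value one at each reflection. -/
theorem exists_rkHom (hQ : (QuadraticMap.polarBilin Q).Nondegenerate)
    (h : Nat.card F ≠ 2 ∨ Fintype.card ι ≠ 4) :
    ∃ δ : ↥(Cfsg.isometryGroup F ⇑Q) →* Multiplicative (ZMod 2),
      (∀ g, δ g = Multiplicative.ofAdd (rk g : ZMod 2)) ∧
      ∀ v, Q v ≠ 0 → δ (refl Q v) = Multiplicative.ofAdd 1 := by
  have hr := reflGroup_eq_top_charTwo (Q := Q) hQ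
    (by rwa [Module.finrank_fintype_fun_eq_card])
  refine ⟨(UnitaryOrthogonal.dickson (Q := Q) hQ.1 hr).comp (toOrth Q).toMonoidHom,
    fun g => ?_, fun v hv => ?_⟩
  · rw [MonoidHom.comp_apply, MulEquiv.coe_toMonoidHom, ← moved_eq_rk]
    exact UnitaryOrthogonal.dickson_apply (Q := Q) hQ.1 hr _
  · rw [MonoidHom.comp_apply, MulEquiv.coe_toMonoidHom, toOrth_refl hv,
      UnitaryOrthogonal.dickson_rf (Q := Q) hQ.1 hr hv]

theorem ofAdd_cast_eq_one_iff (n : ℕ) :
    Multiplicative.ofAdd (n : ZMod 2) = 1 ↔ Even n := by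
  rw [ofAdd_eq_one, ZMod.natCast_eq_zero_iff_even]

/-- In characteristic two the members of Omega are the isometries with `rank (g - 1)` even. -/
theorem mem_omega_iff_even_rk (hQ : (QuadraticMap.polarBilin Q).Nondegenerate)
    (h : Nat.card F ≠ 2 ∨ Fintype.card ι ≠ 4) (g : ↥(Cfsg.isometryGroup F ⇑Q)) :
    g ∈ Cfsg.Omega F ⇑Q ↔ Even (rk g) := by
  obtain ⟨δ, hδ, hδv⟩ := exists_rkHom hQ h
  rw [← ofAdd_cast_eq_one_iff, ← hδ, omega_eq_closure_pairs hQ h]
  have hle : Subgroup.closure (reflPairs Q) ≤ δ.ker := by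
    rw [Subgroup.closure_le]
    intro p hp
    obtain ⟨u, v, hu, hv, rfl⟩ := exists_of_mem_reflPairs hp
    rw [SetLike.mem_coe, MonoidHom.mem_ker, map_mul, hδv u hu, hδv v hv, ← ofAdd_add]
    rfl
  refine ⟨fun hg => hle hg, fun hg => ?_⟩
  by_cases hex : ∃ a, Q a ≠ 0
  · obtain ⟨a, ha⟩ := hex
    refine (mem_pairs_or hQ h ha g).resolve_right fun h2 => ?_
    have h3 : δ (refl Q a * g) = 1 := hle h2
    rw [map_mul, hg, hδv a ha, mul_one, ofAdd_eq_one] at h3
    exact one_ne_zero h3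
  · push Not at hex
    have : g = 1 := reflGroup_induction (p := fun g => g = 1) rfl
      (fun v _ hv _ => absurd (hex v) hv) (matReflGroup_eq_top hQ h ▸ Subgroup.mem_top g)
    rw [this]
    exact one_mem _

theorem sq_eq_one_of_orderOf {g : ↥(Cfsg.isometryGroup F ⇑Q)} (hg : orderOf g = 2) : g * g = 1 := by
  rw [← pow_two, ← hg, pow_orderOf_eq_one]

theorem isAltInv_iff (g : ↥(Cfsg.isometryGroup F ⇑Q)) :
    IsAltInv g ↔ ∀ x, polar ⇑Q x (act g x) = 0 := by
  refine forall_congr' fun x => ?_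
  rw [form_nmap, nmap_apply, polar_add_right, QuadraticMap.polar_self, two_nsmul,
    CharTwo.add_self_eq_zero, add_zero]

/-- Conjugacy in the orthogonal group against conjugacy in the symplectic group of the polar form. -/
theorem isConj_iff_preserving (hQ : (QuadraticMap.polarBilin Q).Nondegenerate)
    {t s : ↥(Cfsg.isometryGroup F ⇑Q)} (ht : t * t = 1) (hs : s * s = 1) :
    IsConj t s ↔ ∃ g ∈ Cfsg.preserving (Units.coeHom (Matrix ι ι F))
      (fun u v => Q (u + v) - Q u - Q v), g * (t : GL ι F) * g⁻¹ = (s : GL ι F) := by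
  constructor
  · intro hc
    obtain ⟨h, rfl⟩ := isConj_iff.1 hc
    refine ⟨(h : GL ι F), fun u v => ?_, rfl⟩
    exact act_polar h u v
  · rintro ⟨g, hg, he⟩
    have hB : ∀ u v, polar ⇑Q ((g : Matrix ι ι F) *ᵥ u) ((g : Matrix ι ι F) *ᵥ v) = polar ⇑Q u v :=
      fun u v => hg u v
    have hsg : (s : GL ι F) * g = g * (t : GL ι F) := by rw [← he]; group
    have hmat : ∀ x, act s ((g : Matrix ι ι F) *ᵥ x) = (g : Matrix ι ι F) *ᵥ act t x := fun x => by
      have := congrArg (fun u : GL ι F => (u : Matrix ι ι F) *ᵥ x) hsg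
      simpa only [act_def, Units.val_mul, ← Matrix.mulVec_mulVec] using this
    have hsurj : Function.Surjective fun x => (g : Matrix ι ι F) *ᵥ x := fun y =>
      ⟨((g⁻¹ : GL ι F) : Matrix ι ι F) *ᵥ y, by
        show (g : Matrix ι ι F) *ᵥ _ = y
        rw [Matrix.mulVec_mulVec, ← Units.val_mul, mul_inv_cancel, Units.val_one, Matrix.one_mulVec]⟩
    have halt : IsAltInv t ↔ IsAltInv s := by
      rw [isAltInv_iff, isAltInv_iff]
      conv_rhs => rw [hsurj.forall]
      refine forall_congr' fun x => ?_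
      rw [hmat, hB]
    refine isConj_of_inv hQ ht hs ?_ halt
    rw [← rank_eq_rk, ← rank_eq_rk]
    have : mat s - 1 = (g : Matrix ι ι F) * (mat t - 1) * ((g⁻¹ : GL ι F) : Matrix ι ι F) := by
      rw [mul_sub, sub_mul, mul_one, ← Units.val_mul g g⁻¹, mul_inv_cancel, Units.val_one]
      show ((s : GL ι F) : Matrix ι ι F) - 1 = _
      rw [← he, Units.val_mul, Units.val_mul]
    rw [this, Matrix.rank_mul_eq_left_of_isUnit_det _ _
        ((Matrix.isUnit_iff_isUnit_det _).1 (Units.isUnit g⁻¹)),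
      Matrix.rank_mul_eq_right_of_isUnit_det _ _
        ((Matrix.isUnit_iff_isUnit_det _).1 (Units.isUnit g))]

/-- Unless the form on the image is alternating and the image is half the space, an involution
fixes a non-singular vector. -/
theorem exists_fixed_nonsingular (hQ : (QuadraticMap.polarBilin Q).Nondegenerate) {m : ℕ}
    (hcard : Fintype.card ι = 2 * m) {g : ↥(Cfsg.isometryGroup F ⇑Q)} (hg : g * g = 1)
    (hne : ¬ (rk g = m ∧ IsAltInv g)) : ∃ v, Q v ≠ 0 ∧ act g v = v := by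
  by_contra hcon
  push Not at hcon
  have hTS : UnitaryOrthogonal.TotSing Q (LinearMap.ker (nmap g)) := fun x hx => by
    by_contra h0
    exact hcon x h0 (by rw [act_eq_add, LinearMap.mem_ker.1 hx, add_zero])
  have h1 := UnitaryOrthogonal.TotSing.two_finrank_le (Q := Q) hQ.1 hTS
  have h2 := LinearMap.finrank_range_add_finrank_ker (nmap g)
  rw [Module.finrank_fintype_fun_eq_card] at h1 h2
  have h3 := two_rk_le hQ hg
  rw [rk] at hne h3
  refine hne ⟨by omega, fun x => hTS _ ?_⟩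
  exact LinearMap.mem_ker.2 (nmap_nmap hg x)

theorem mem_omega_or_mul_refl (hQ : (QuadraticMap.polarBilin Q).Nondegenerate)
    (h : Nat.card F ≠ 2 ∨ Fintype.card ι ≠ 4) {v : ι → F} (hv : Q v ≠ 0)
    (g : ↥(Cfsg.isometryGroup F ⇑Q)) : g ∈ Cfsg.Omega F ⇑Q ∨ g * refl Q v ∈ Cfsg.Omega F ⇑Q := by
  obtain ⟨δ, hδ, hδv⟩ := exists_rkHom hQ h
  rw [mem_omega_iff_even_rk hQ h, mem_omega_iff_even_rk hQ h, ← ofAdd_cast_eq_one_iff,
    ← ofAdd_cast_eq_one_iff, ← hδ, ← hδ, map_mul, hδv v hv]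
  generalize δ g = z
  revert z
  decide

/-- Conjugacy in the orthogonal group gives conjugacy in Omega. -/
theorem exists_omega_conj (hQ : (QuadraticMap.polarBilin Q).Nondegenerate)
    (h : Nat.card F ≠ 2 ∨ Fintype.card ι ≠ 4) {m : ℕ} (hcard : Fintype.card ι = 2 * m)
    {t s : ↥(Cfsg.isometryGroup F ⇑Q)} (ht : t * t = 1) (hconj : IsConj t s)
    (hne : ¬ (rk t = m ∧ IsAltInv t)) : ∃ g ∈ Cfsg.Omega F ⇑Q, g * t * g⁻¹ = s := by
  obtain ⟨v, hv, hfix⟩ := exists_fixed_nonsingular hQ hcard ht hne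
  obtain ⟨g, rfl⟩ := isConj_iff.1 hconj
  rcases mem_omega_or_mul_refl hQ h hv g with hg | hg
  · exact ⟨g, hg, rfl⟩
  · refine ⟨_, hg, ?_⟩
    have := refl_comm hv hfix
    calc g * refl Q v * t * (g * refl Q v)⁻¹ = g * (refl Q v * t) * (refl Q v)⁻¹ * g⁻¹ := by group
      _ = g * t * g⁻¹ := by rw [this]; group

/-- The parity of the intersection of half-dimensional totally singular subspaces under moving. -/
theorem cast_finrank_inf_map (hQ : (QuadraticMap.polarBilin Q).Nondegenerate)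
    (h : Nat.card F ≠ 2 ∨ Fintype.card ι ≠ 4) {m : ℕ} (hcard : Fintype.card ι = 2 * m)
    {U : Submodule F (ι → F)} (hU : UnitaryOrthogonal.TotSing Q U) (hUm : Module.finrank F U = m)
    (g : ↥(Cfsg.isometryGroup F ⇑Q)) :
    ∀ W : Submodule F (ι → F), UnitaryOrthogonal.TotSing Q W → Module.finrank F W = m →
      Multiplicative.ofAdd (Module.finrank F ↥(U ⊓ W.map (Matrix.mulVecLin (mat g))) : ZMod 2) =
        Multiplicative.ofAdd (Module.finrank F ↥(U ⊓ W) : ZMod 2) *
          Multiplicative.ofAdd (rk g : ZMod 2) := by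
  obtain ⟨δ, hδ, hδv⟩ := exists_rkHom hQ h
  simp only [← hδ]
  refine reflGroup_induction (Q := Q) (p := fun g => ∀ W : Submodule F (ι → F),
    UnitaryOrthogonal.TotSing Q W → Module.finrank F W = m →
      Multiplicative.ofAdd (Module.finrank F ↥(U ⊓ W.map (Matrix.mulVecLin (mat g))) : ZMod 2) =
        Multiplicative.ofAdd (Module.finrank F ↥(U ⊓ W) : ZMod 2) * δ g) ?_ ?_
    (matReflGroup_eq_top hQ h ▸ Subgroup.mem_top g)
  · intro W _ _
    rw [mat_one', Matrix.mulVecLin_one, Submodule.map_id, map_one, mul_one]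
  · intro v k hv ih W hW hWm
    rw [mat_mul', Matrix.mulVecLin_mul, Submodule.map_comp, map_mul, hδv v hv]
    set W' := W.map (Matrix.mulVecLin (mat k))
    have hW' : UnitaryOrthogonal.TotSing Q W' := by
      rintro _ ⟨x, hx, rfl⟩
      exact (act_Q k x).trans (hW x hx)
    have hW'm : Module.finrank F ↥W' = m :=
      (Submodule.equivMapOfInjective (Matrix.mulVecLin (mat k))
        (fun x y e => act_injective k e) W).finrank_eq.symm.trans hWm
    have hmap : W'.map (Matrix.mulVecLin (mat (refl Q v))) =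
        W'.map (UnitaryOrthogonal.rf Q v).1.toLinearMap := by
      congr 1
      refine LinearMap.ext fun x => ?_
      rw [LinearEquiv.coe_coe, ← toOrth_refl hv, toOrth_apply]
      rfl
    rw [hmap, mul_left_comm, ← ih W hW hWm, ← ofAdd_add]
    refine congrArg _ ?_
    rcases UnitaryOrthogonal.finrank_inf_map_rf (Q := Q) hQ.1
      (by rw [Module.finrank_fintype_fun_eq_card, hcard]) hU hUm hW' hW'm hv with e | e
    · rw [← e, Nat.cast_add, Nat.cast_one, ← add_assoc,
        add_comm (1 : ZMod 2), add_assoc, CharTwo.add_self_eq_zero, add_zero]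
    · rw [← e, Nat.cast_add, Nat.cast_one, add_comm]

theorem rk_conjClass_eq {t : ↥(Cfsg.isometryGroup F ⇑Q)} (h : ↥(Cfsg.isometryGroup F ⇑Q)) :
    LinearMap.range (nmap (h * t * h⁻¹)) =
      (LinearMap.range (nmap t)).map (Matrix.mulVecLin (mat h)) := by
  ext y
  simp only [Submodule.mem_map, LinearMap.mem_range]
  constructor
  · rintro ⟨x, rfl⟩
    refine ⟨_, ⟨act h⁻¹ x, rfl⟩, ?_⟩
    show act h (nmap t (act h⁻¹ x)) = _
    rw [← nmap_conj, ← act_mul, mul_inv_cancel, act_one]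
  · rintro ⟨_, ⟨x, rfl⟩, rfl⟩
    exact ⟨act h x, nmap_conj t h x⟩

/-- The exceptional classes: Omega conjugacy is the parity of the intersection of the images. -/
theorem omega_conj_iff_even (hQ : (QuadraticMap.polarBilin Q).Nondegenerate)
    (h : Nat.card F ≠ 2 ∨ Fintype.card ι ≠ 4) {m : ℕ} (hcard : Fintype.card ι = 2 * m)
    {t s : ↥(Cfsg.isometryGroup F ⇑Q)} (htO : t ∈ Cfsg.Omega F ⇑Q) (hconj : IsConj t s)
    (hl : rk t = m) (ha : IsAltInv t) :
    (∃ g ∈ Cfsg.Omega F ⇑Q, g * t * g⁻¹ = s) ↔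
      Even (Module.finrank F ↥(LinearMap.range (nmap t) ⊓ LinearMap.range (nmap s))) := by
  have hmE : Even m := hl ▸ (mem_omega_iff_even_rk hQ h t).1 htO
  have hU : UnitaryOrthogonal.TotSing Q (LinearMap.range (nmap t)) := by
    rintro _ ⟨x, rfl⟩; exact ha x
  have key : ∀ g, (Even (Module.finrank F
      ↥(LinearMap.range (nmap t) ⊓ LinearMap.range (nmap (g * t * g⁻¹)))) ↔ g ∈ Cfsg.Omega F ⇑Q) := by
    intro g
    rw [mem_omega_iff_even_rk hQ h, ← ofAdd_cast_eq_one_iff, ← ofAdd_cast_eq_one_iff,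
      rk_conjClass_eq, cast_finrank_inf_map hQ h hcard hU hl g _ hU hl, inf_idem]
    have : Multiplicative.ofAdd ((Module.finrank F ↥(LinearMap.range (nmap t)) : ℕ) : ZMod 2) = 1 := by
      rw [ofAdd_cast_eq_one_iff]
      change Module.finrank F ↥(LinearMap.range (nmap t)) = m at hl
      rwa [hl]
    rw [this, one_mul]
  constructor
  · rintro ⟨g, hg, rfl⟩
    exact (key g).2 hg
  · intro he
    obtain ⟨g, rfl⟩ := isConj_iff.1 hconj
    exact ⟨g, (key g).1 he, rfl⟩

/-! ### The statements for a form given as a function -/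

variable {f : (ι → F) → F}

theorem fun_isConj_iff (hf : ⇑Q = f) (hQ : (QuadraticMap.polarBilin Q).Nondegenerate)
    (t s : ↥(Cfsg.isometryGroup F f)) (ht : orderOf t = 2) (hs : orderOf s = 2) :
    IsConj t s ↔ ∃ g ∈ Cfsg.preserving (Units.coeHom (Matrix ι ι F))
      (fun u v => f (u + v) - f u - f v), g * (t : GL ι F) * g⁻¹ = (s : GL ι F) := by
  subst hf
  exact isConj_iff_preserving hQ (sq_eq_one_of_orderOf ht) (sq_eq_one_of_orderOf hs)

theorem fun_mem_omega_iff (hf : ⇑Q = f) (hQ : (QuadraticMap.polarBilin Q).Nondegenerate)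
    (h : Nat.card F ≠ 2 ∨ Fintype.card ι ≠ 4) (t : ↥(Cfsg.isometryGroup F f)) :
    t ∈ Cfsg.Omega F f ↔ Even (((t : GL ι F) : Matrix ι ι F) - 1).rank := by
  subst hf
  rw [mem_omega_iff_even_rk hQ h, ← rank_eq_rk]

theorem fun_isAltInv_iff (g : ↥(Cfsg.isometryGroup F ⇑Q)) :
    IsAltInv g ↔ ∀ v, Q (v + ((g : GL ι F) : Matrix ι ι F) *ᵥ v) = 0 := by
  refine forall_congr' fun x => ?_
  rw [nmap_apply, add_comm, act_def]

theorem fun_splitting (hf : ⇑Q = f) (hQ : (QuadraticMap.polarBilin Q).Nondegenerate)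
    (h : Nat.card F ≠ 2 ∨ Fintype.card ι ≠ 4) {m : ℕ} (hcard : Fintype.card ι = 2 * m)
    (t s : ↥(Cfsg.isometryGroup F f)) (ht : orderOf t = 2) (htO : t ∈ Cfsg.Omega F f)
    (hconj : IsConj t s) :
    (¬ ((((t : GL ι F) : Matrix ι ι F) - 1).rank = m ∧
        ∀ v, f (v + ((t : GL ι F) : Matrix ι ι F) *ᵥ v) = 0) →
      ∃ g ∈ Cfsg.Omega F f, g * t * g⁻¹ = s) ∧
    ((((t : GL ι F) : Matrix ι ι F) - 1).rank = m ∧
        (∀ v, f (v + ((t : GL ι F) : Matrix ι ι F) *ᵥ v) = 0) →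
      ((∃ g ∈ Cfsg.Omega F f, g * t * g⁻¹ = s) ↔ Even (Module.finrank F
        ↥(LinearMap.range (Matrix.toLin' (((t : GL ι F) : Matrix ι ι F) - 1)) ⊓
          LinearMap.range (Matrix.toLin' (((s : GL ι F) : Matrix ι ι F) - 1)))))) := by
  subst hf
  have hr : ∀ g : ↥(Cfsg.isometryGroup F ⇑Q), Matrix.toLin' (mat g - 1) = nmap g := fun g => by
    rw [Matrix.toLin'_apply', mulVecLin_sub_one]; rfl
  simp only [← fun_isAltInv_iff]
  show (¬ ((mat t - 1).rank = m ∧ IsAltInv t) → _) ∧ ((mat t - 1).rank = m ∧ IsAltInv t → _)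
  rw [rank_eq_rk]
  refine ⟨exists_omega_conj hQ h hcard (sq_eq_one_of_orderOf ht) hconj, fun ⟨hl, ha⟩ => ?_⟩
  rw [omega_conj_iff_even hQ h hcard htO hconj hl ha, ← hr t, ← hr s]

theorem fun_no_splitting (hf : ⇑Q = f) (hQ : (QuadraticMap.polarBilin Q).Nondegenerate)
    (h : Nat.card F ≠ 2 ∨ Fintype.card ι ≠ 4) {m : ℕ} (hcard : Fintype.card ι = 2 * m)
    (hwitt : ∀ U : Submodule F (ι → F), (∀ u ∈ U, f u = 0) → Module.finrank F U < m)
    (t s : ↥(Cfsg.isometryGroup F f)) (ht : orderOf t = 2) (hconj : IsConj t s) :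
    ∃ g ∈ Cfsg.Omega F f, g * t * g⁻¹ = s := by
  subst hf
  refine exists_omega_conj hQ h hcard (sq_eq_one_of_orderOf ht) hconj fun ⟨hl, ha⟩ => ?_
  have := hwitt (LinearMap.range (nmap t)) (by rintro _ ⟨x, rfl⟩; exact ha x)
  rw [rk] at hl
  omega

theorem card_sum_ne_four {m : ℕ} (hm : 4 ≤ m) :
    Fintype.card ((Fin (m - 1) ⊕ Fin (m - 1)) ⊕ Fin 2) ≠ 4 := by
  simp only [Fintype.card_sum, Fintype.card_fin]; omega

end Cfsg.Agent.UnitaryOrthogonal.Involution
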