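/-
The two-dimensional orthogonal groups are dihedral.
-/
import Cfsg.Agent.Lib.UnitaryOrthogonal.Standard

set_option autoImplicit false

namespace Cfsg.Agent.UnitaryOrthogonal

open QuadraticMap

/-- Recognition of finite dihedral groups. -/
theorem nonempty_mulEquiv_dihedralGroup {G : Type*} [Group G] [Finite G] {n : ℕ} [NeZero n]
    (t s : G) (ht : orderOf t = n) (hs : s * s = 1) (hst : s * t * s = t⁻¹)
    (hs' : s ∉ Subgroup.zpowers t) (hcard : Nat.card G = 2 * n) :
    Nonempty (G ≃* DihedralGroup n) := by
  classical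
  let p : ZMod n → G := fun i => t ^ i.val
  have padd : ∀ i j, p (i + j) = p i * p j := fun i j => by
    show t ^ (i + j).val = t ^ i.val * t ^ j.val
    rw [← pow_add, ZMod.val_add]
    conv_rhs => rw [← pow_mod_orderOf, ht]
  have psub : ∀ i j, p (j - i) = (p i)⁻¹ * p j := fun i j => by
    rw [eq_inv_mul_iff_mul_eq, ← padd, add_sub_cancel]
  have hsp : ∀ i, s * p i * s = (p i)⁻¹ := fun i => by
    show s * t ^ i.val * s = (t ^ i.val)⁻¹
    have hsi : s = s⁻¹ := (inv_eq_of_mul_eq_one_right hs).symm
    rw [← inv_pow, ← hst]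
    conv_rhs => rw [show s * t * s = s * t * s⁻¹ by rw [← hsi], conj_pow, ← hsi]
  have hps : ∀ i, p i * s = s * (p i)⁻¹ := fun i => by
    have := hsp i
    calc p i * s = (s * s) * p i * s := by rw [hs, one_mul]
      _ = s * (s * p i * s) := by simp only [mul_assoc]
      _ = s * (p i)⁻¹ := by rw [this]
  let f : DihedralGroup n → G := fun
    | .r i => p i
    | .sr i => s * p i
  have hf : ∀ x y, f (x * y) = f x * f y := by
    rintro (i | i) (j | j) <;> simp only [DihedralGroup.r_mul_r, DihedralGroup.r_mul_sr,
      DihedralGroup.sr_mul_r, DihedralGroup.sr_mul_sr, f]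
    · exact padd i j
    · rw [psub, ← mul_assoc, ← mul_assoc, hps i]
    · rw [padd, mul_assoc]
    · rw [psub, mul_assoc s (p i), ← mul_assoc (p i) s, hps i, ← mul_assoc, ← mul_assoc, hs,
        one_mul]
  have pinj : ∀ i j, p i = p j → i = j := fun i j h => ZMod.val_injective n
    (pow_injOn_Iio_orderOf (x := t) (by simpa [ht] using i.val_lt) (by simpa [ht] using j.val_lt) h)
  have pmem : ∀ i, p i ∈ Subgroup.zpowers t := fun i => pow_mem (Subgroup.mem_zpowers t) _
  have finj : Function.Injective f := by
    rintro (i | i) (j | j) h <;> simp only [f] at h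
    · rw [pinj i j h]
    · exact absurd (by
        have : s = p i * (p j)⁻¹ := by rw [h]; group
        rw [this]; exact mul_mem (pmem i) (inv_mem (pmem j))) hs'
    · exact absurd (by
        have : s = p j * (p i)⁻¹ := by rw [← h]; group
        rw [this]; exact mul_mem (pmem j) (inv_mem (pmem i))) hs'
    · rw [pinj i j (mul_left_cancel h)]
  have hc : Nat.card (DihedralGroup n) = Nat.card G := by rw [DihedralGroup.nat_card, hcard]
  exact ⟨(MulEquiv.ofBijective (MonoidHom.mk' f hf)
    ((Nat.bijective_iff_injective_and_card _).2 ⟨finj, hc⟩)).symm⟩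

variable {F : Type*} [Field F] [Finite F]

theorem orth_plus_one_dihedral :
    Nonempty (orth (hypSum 1 (zeroForm F)) ≃* DihedralGroup (Nat.card F - 1)) := by
  classical
  let e := orthCongr (hypSumSucc (zeroForm F) 0)
  set W := ((Fin 0 → F) × (Fin 0 → F)) × (Fin 0 → F)
  set Q := hyp (hypSum 0 (zeroForm F))
  haveI : Subsingleton W := by unfold W; infer_instance
  let d : Fˣ →* orth Q :=
    { toFun := fun c => ⟨
        { toFun := fun v => (((c : F) * v.1.1, ((c⁻¹ : Fˣ) : F) * v.1.2), v.2)
          invFun := fun v => ((((c⁻¹ : Fˣ) : F) * v.1.1, (c : F) * v.1.2), v.2)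
          map_add' := fun v w => by ext <;> simp [mul_add]
          map_smul' := fun r v => by ext <;> simp [mul_left_comm]
          left_inv := fun v => by simp
          right_inv := fun v => by simp }, fun v => by
          simp [Q]
          field_simp⟩
      map_one' := orth_ext fun v => by simp
      map_mul' := fun c c' => orth_ext fun v => by simp [mul_assoc, mul_comm, mul_left_comm] }
  have dinj : Function.Injective d := fun c c' h => Units.ext <| by
    have := DFunLike.congr_fun (congrArg Subtype.val h) (eVec F W)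
    simpa [d, eVec] using congrArg (fun v : (F × F) × W => v.1.1) this
  obtain ⟨g, hg⟩ := IsCyclic.exists_generator (α := Fˣ)
  let a : (F × F) × W := ((1, -1), 0)
  have qa : Q a = -1 := by simp [Q, a, zeroForm]
  have hs : ∀ v, (rf Q a).1 v = ((v.1.2, v.1.1), v.2) := fun v => by
    have : polar Q a v = v.1.2 - v.1.1 := by simp [Q, a, polar_hyp]; ring
    rw [rf_apply, qa, this]
    simp [a, Prod.ext_iff]
  have hn : 0 < Nat.card F - 1 := by have := Finite.one_lt_card (α := F); omega
  haveI : NeZero (Nat.card F - 1) := ⟨hn.ne'⟩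
  have hord : orderOf (d g) = Nat.card F - 1 := by
    rw [orderOf_injective d dinj, orderOf_eq_card_of_forall_mem_zpowers hg, Nat.card_units]
  obtain ⟨iso⟩ := nonempty_mulEquiv_dihedralGroup (n := Nat.card F - 1) (d g) (rf Q a) hord
    (rf_mul_self a)
    (orth_ext fun v => by rw [← map_inv]; simp [hs, d])
    (by
      rintro h
      rw [← MonoidHom.map_zpowers] at h
      obtain ⟨c, -, hc⟩ := h
      have := DFunLike.congr_fun (congrArg Subtype.val hc) (eVec F W)
      rw [hs] at this
      simp [d, eVec] at this)
    (by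
      rw [← card_orth_congr (hypSumSucc (zeroForm F) 0), card_orth_plus 0]
      simp)
  exact ⟨e.trans iso⟩

/-- Rotations of an anisotropic binary form. -/
theorem BinAniso.orth_dihedral {a b : F} (h : BinAniso a b) :
    Nonempty (orth (binForm a b) ≃* DihedralGroup (Nat.card F + 1)) := by
  classical
  haveI := h.fact
  haveI : Finite (QuadraticAlgebra F (-b) a) := Finite.of_equiv _ (QuadraticAlgebra.equivProd (-b) a).symm
  let U : Subgroup (QuadraticAlgebra F (-b) a)ˣ := (Units.map (QuadraticAlgebra.norm : (QuadraticAlgebra F (-b) a) →* F)).ker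
  have hN : ∀ z : (QuadraticAlgebra F (-b) a), binForm a b (z.re, z.im) = QuadraticAlgebra.norm z := fun z => by
    rw [binForm_apply, QuadraticAlgebra.norm_def]; ring
  have hU : ∀ z : U, binForm a b ((z.1 : (QuadraticAlgebra F (-b) a)).re, (z.1 : (QuadraticAlgebra F (-b) a)).im) = 1 := fun z => by
    rw [hN]; exact congrArg Units.val z.2
  have hm : ∀ (z w : (QuadraticAlgebra F (-b) a)) (v : F × F), binMul a b ((z * w).re, (z * w).im) v =
      binMul a b (z.re, z.im) (binMul a b (w.re, w.im) v) := fun z w v => by
    simp only [binMul, LinearMap.coe_mk, AddHom.coe_mk, QuadraticAlgebra.re_mul,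
      QuadraticAlgebra.im_mul]
    ext <;> ring
  have h1 : ∀ v, binMul a b ((1 : (QuadraticAlgebra F (-b) a)).re, (1 : (QuadraticAlgebra F (-b) a)).im) v = v := fun v => by
    simp [binMul, QuadraticAlgebra.re_one, QuadraticAlgebra.im_one]
  let d : U →* orth (binForm a b) :=
    { toFun := fun z => ⟨
        { binMul a b ((z.1 : (QuadraticAlgebra F (-b) a)).re, (z.1 : (QuadraticAlgebra F (-b) a)).im) with
          invFun := binMul a b ((z⁻¹.1 : (QuadraticAlgebra F (-b) a)ˣ).val.re, (z⁻¹.1 : (QuadraticAlgebra F (-b) a)ˣ).val.im)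
          left_inv := fun v => by
            show binMul a b _ (binMul a b _ v) = v
            rw [← hm]
            simp [h1]
          right_inv := fun v => by
            show binMul a b _ (binMul a b _ v) = v
            rw [← hm]
            simp [h1] }, fun v => by
          show binForm a b (binMul a b _ v) = _
          rw [binForm_binMul, hU, one_mul]⟩
      map_one' := orth_ext fun v => h1 v
      map_mul' := fun z w => orth_ext fun v => hm _ _ v }
  have dinj : Function.Injective d := fun z w e => by
    have := DFunLike.congr_fun (congrArg Subtype.val e) ((1, 0) : F × F)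
    simp [d, binMul] at this
    exact Subtype.ext (Units.ext (QuadraticAlgebra.ext this.1 this.2))
  have hcard : Nat.card U = Nat.card F + 1 := by
    rw [← h.level_eq one_ne_zero]
    refine Nat.card_congr
      { toFun := fun z => ⟨((z.1 : (QuadraticAlgebra F (-b) a)).re, (z.1 : (QuadraticAlgebra F (-b) a)).im), hU z⟩
        invFun := fun v => ⟨Units.mk0 ⟨v.1.1, v.1.2⟩ (fun e => by
          have e1 : v.1 = 0 := Prod.ext (congrArg QuadraticAlgebra.re e)
            (congrArg QuadraticAlgebra.im e)
          have := v.2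
          rw [e1, QuadraticMap.map_zero] at this
          exact zero_ne_one this), Units.ext (by
            show QuadraticAlgebra.norm (⟨v.1.1, v.1.2⟩ : (QuadraticAlgebra F (-b) a)) = 1
            rw [← hN]; exact v.2)⟩
        left_inv := fun z => Subtype.ext (Units.ext rfl)
        right_inv := fun v => Subtype.ext rfl }
  haveI : IsCyclic U := inferInstance
  obtain ⟨g, hg⟩ := IsCyclic.exists_generator (α := U)
  let s := rf (binForm a b) ((1, 0) : F × F)
  have hs : ∀ v, s.1 v = (-v.1 - a * v.2, v.2) := fun v => by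
    simp [s, rf_apply, binForm_apply, polar_binForm, Prod.ext_iff]
    ring
  haveI : NeZero (Nat.card F + 1) := ⟨Nat.succ_ne_zero _⟩
  refine nonempty_mulEquiv_dihedralGroup (d g) s
    (by rw [orderOf_injective d dinj, orderOf_eq_card_of_forall_mem_zpowers hg, hcard])
    (rf_mul_self _) ?_ ?_ h.card_orth
  · refine orth_ext fun v => ?_
    rw [← map_inv]
    have hn : QuadraticAlgebra.norm (g.1 : (QuadraticAlgebra F (-b) a)) = 1 := congrArg Units.val g.2
    have hinv : ((g⁻¹).1 : (QuadraticAlgebra F (-b) a)) = star (g.1 : (QuadraticAlgebra F (-b) a)) := by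
      show ((g.1⁻¹ : (QuadraticAlgebra F (-b) a)ˣ) : (QuadraticAlgebra F (-b) a)) = _
      refine Units.inv_eq_of_mul_eq_one_right ?_
      rw [← QuadraticAlgebra.algebraMap_norm_eq_mul_star, hn, map_one]
    simp only [coe_mul_apply, hs]
    show _ = binMul a b (((g⁻¹).1 : (QuadraticAlgebra F (-b) a)).re, ((g⁻¹).1 : (QuadraticAlgebra F (-b) a)).im) v
    rw [hinv]
    simp [d, binMul]
    constructor <;> ring
  · intro hmem
    rw [← MonoidHom.map_zpowers] at hmem
    obtain ⟨c, -, hc⟩ := hmem
    have e1 := DFunLike.congr_fun (congrArg Subtype.val hc) ((1, 0) : F × F)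
    have e2 := DFunLike.congr_fun (congrArg Subtype.val hc) ((0, 1) : F × F)
    rw [hs] at e1 e2
    simp [d, binMul] at e1 e2
    rw [e1.2, e1.1] at e2
    have h2 : (2 : F) = 0 := by linear_combination -e2.2
    exact h.a_ne_zero h2 (by linear_combination -e2.1)

end Cfsg.Agent.UnitaryOrthogonal
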