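/-
`B₂(F) ≅ PΩ₅(F)`: the tables of the adjoint lattice and their finite checks.
-/
import Cfsg.Prelude.Def_ChevB2
import Cfsg.Agent.Lib.UnitaryOrthogonal.AdjointD4

set_option autoImplicit false

namespace Cfsg.Agent.UnitaryOrthogonal.Adjoint

open Matrix Cfsg.Lie

section general

variable {ι : Type} [Fintype ι] [DecidableEq ι] {J : Type} [Fintype J] [DecidableEq J]
  (T : Tables ι J) {R : Type*} [CommRing R]

/-- The adjoint matrix of `1 + t N + t² P`. -/
theorem Tables.adj_one_add_two (N P : Entries ι) (t : R) (j k : J) :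
    T.adj (1 + t • (toMat N : Matrix ι ι R) + t ^ 2 • toMat P) j k =
      (evE (T.C j) (T.Bas k) : R)
      + t * (evE (T.C j) (mulE N (T.Bas k) ++ mulE (T.Bas k) (trE N)) : R)
      + t ^ 2 * (evE (T.C j) (mulE P (T.Bas k) ++ mulE (mulE N (T.Bas k)) (trE N)
          ++ mulE (T.Bas k) (trE P)) : R)
      + t ^ 3 * (evE (T.C j) (mulE (mulE N (T.Bas k)) (trE P)
          ++ mulE (mulE P (T.Bas k)) (trE N)) : R)
      + t ^ 4 * (evE (T.C j) (mulE (mulE P (T.Bas k)) (trE P)) : R) := by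
  simp only [← ev_toMat, toMat_append, toMat_mulE, toMat_trE, Tables.adj, Matrix.of_apply]
  simp only [ev_eq_trace, Matrix.transpose_add, Matrix.transpose_one, Matrix.transpose_smul,
    Matrix.add_mul, Matrix.mul_add, one_mul, mul_one, Matrix.smul_mul, Matrix.mul_smul,
    Matrix.trace_add, Matrix.trace_smul, smul_eq_mul, smul_add, smul_smul]
  ring

/-- An isometry trivial on the lattice moves every representative by a symmetric matrix. -/
theorem Tables.transpose_sub_of_adj_eq_one {g : Matrix ι ι R} (hg : IsIso T.q g)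
    (h : T.adj g = 1) (k : J) :
    (g * toMat (T.Bas k) * gᵀ - toMat (T.Bas k))ᵀ = g * toMat (T.Bas k) * gᵀ - toMat (T.Bas k) := by
  have hp : ev (T.q ++ trE T.q) (g * toMat (T.Bas k) * gᵀ) = (0 : R) := by
    rw [hg.ev_polar, ev_toMat, T.basis_polar, Int.cast_zero]
  obtain ⟨h1, -⟩ := T.rest_spec hp
  have hc : ∀ l, ev (T.C l) (g * toMat (T.Bas k) * gᵀ) = (1 : Matrix J J R) l k := fun l => by
    rw [← h]; rfl
  have e : T.rest (g * toMat (T.Bas k) * gᵀ) = g * toMat (T.Bas k) * gᵀ - toMat (T.Bas k) := by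
    rw [Tables.rest]
    congr 1
    simp only [hc, Matrix.one_apply, ite_smul, one_smul, zero_smul, Finset.sum_ite_eq',
      Finset.mem_univ, if_true]
  rwa [e] at h1

end general

/-- Indices of the standard basis in dimension five. -/
abbrev I5 : Type := Unit ⊕ (Fin 2 ⊕ Fin 2)

/-- The index paired with an index by the polar form. -/
def opp5 : I5 → I5
  | .inl u => .inl u
  | .inr i => .inr i.swap

/-- A basis pair, a lattice sign and a root element sign for each root of `B₂`. -/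
def b2Pairs : List (I5 × I5 × ℤ × ℤ) :=
  [(.inr (.inr 0), .inr (.inr 1), 1, -1),
   (.inl (), .inr (.inr 0), 1, 1),
   (.inl (), .inr (.inr 1), -1, -1),
   (.inr (.inl 1), .inr (.inr 0), -1, 1),
   (.inr (.inl 0), .inr (.inr 1), -1, 1),
   (.inl (), .inr (.inl 1), 1, 1),
   (.inl (), .inr (.inl 0), -1, -1),
   (.inr (.inl 0), .inr (.inl 1), -1, 1)]

/-- The pair of a root. -/
def b2Pair (r : Fin chevB2.nroots) : I5 × I5 × ℤ × ℤ :=
  b2Pairs.getD r.val (.inl (), .inl (), 0, 0)

/-- Bilinear matrix of `x₀² + x₁y₁ + x₂y₂`. -/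
def b2q : Entries I5 :=
  [(.inl (), .inl (), 1), (.inr (.inl 0), .inr (.inr 0), 1), (.inr (.inl 1), .inr (.inr 1), 1)]

/-- Representatives. -/
def b2Bas : chevB2.Idx → Entries I5
  | .inl i => [[(.inr (.inl 1), .inr (.inr 1), 1), (.inr (.inr 1), .inr (.inl 1), -1)],
      [(.inr (.inl 0), .inr (.inr 0), 1), (.inr (.inl 1), .inr (.inr 1), -1)]].getD i.val []
  | .inr r => [((b2Pair r).1, (b2Pair r).2.1, (b2Pair r).2.2.1)]

/-- Coordinates. -/
def b2C : chevB2.Idx → Entries I5
  | .inl i => [b2q, [(.inr (.inl 0), .inr (.inr 0), 1), (.inr (.inr 0), .inr (.inl 0), -1)]].getD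
      i.val []
  | .inr r => [((b2Pair r).1, (b2Pair r).2.1, (b2Pair r).2.2.1),
      ((b2Pair r).2.1, (b2Pair r).1, -(b2Pair r).2.2.1)]

/-- Linear part of a root element. -/
def b2N (r : Fin chevB2.nroots) : Entries I5 :=
  let a := (b2Pair r).1
  let b := (b2Pair r).2.1
  let c := (b2Pair r).2.2.2
  if a = .inl () then [(a, opp5 b, c), (b, a, -2 * c)] else [(b, opp5 a, c), (a, opp5 b, -c)]

/-- Quadratic part of a root element. -/
def b2P (r : Fin chevB2.nroots) : Entries I5 :=
  let a := (b2Pair r).1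
  let b := (b2Pair r).2.1
  let c := (b2Pair r).2.2.2
  if a = .inl () then [(b, opp5 b, -(c * c))] else []

/-- A coefficient of the span condition. -/
def b2Span (a b x y : I5) : ℤ :=
  (if a = x ∧ b = y then 1 else 0) - (if b = x ∧ a = y then 1 else 0)
    - ∑ l, cE (b2C l) x y * (cE (b2Bas l) a b - cE (b2Bas l) b a)

/-- The tables of `B₂`. -/
def b2Tables : Tables I5 chevB2.Idx where
  q := b2q
  Bas := b2Bas
  C := b2C
  kC
    | .inl i => [1, 0].getD i.val 0
    | .inr _ => 0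
  kS a b := b2Span a b (.inr (.inr 1)) (.inr (.inl 1))
  kQ := cE b2q (.inr (.inr 1)) (.inr (.inl 1)) -
    ∑ l, cE (b2C l) (.inr (.inr 1)) (.inr (.inl 1)) * evE b2q (b2Bas l)
  coord_alt := by decide +kernel
  coord_diag := by decide +kernel
  basis_polar := by decide +kernel
  dual := by decide +kernel
  span_symm := by decide +kernel
  span_form := by decide +kernel

theorem b2_chain_deg : ∀ r s u : Fin chevB2.nroots,
    (chevB2.chainCoeff r.val s.val u.val).all (fun km => decide (km.1 < 3)) = true := by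
  decide +kernel

theorem b2_root_coef : ∀ (r : Fin chevB2.nroots) (a b : chevB2.Idx),
    xCoef chevB2 r a b 0 = evE (b2C a) (b2Bas b) ∧
    xCoef chevB2 r a b 1 = evE (b2C a) (mulE (b2N r) (b2Bas b) ++ mulE (b2Bas b) (trE (b2N r))) ∧
    xCoef chevB2 r a b 2 = evE (b2C a) (mulE (b2P r) (b2Bas b) ++
      mulE (mulE (b2N r) (b2Bas b)) (trE (b2N r)) ++ mulE (b2Bas b) (trE (b2P r))) ∧
    evE (b2C a) (mulE (mulE (b2N r) (b2Bas b)) (trE (b2P r)) ++
      mulE (mulE (b2P r) (b2Bas b)) (trE (b2N r))) = 0 ∧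
    evE (b2C a) (mulE (mulE (b2P r) (b2Bas b)) (trE (b2P r))) = 0 := by
  decide +kernel

/-- The adjoint matrix of a root element is the Chevalley root element. -/
theorem b2_adj_root {F : Type*} [Field F] (r : Fin chevB2.nroots) (t : F) :
    b2Tables.adj (1 + t • (toMat (b2N r) : Matrix I5 I5 F) + t ^ 2 • toMat (b2P r)) =
      chevB2.xMat F r t := by
  ext a b
  obtain ⟨e0, e1, e2, e3, e4⟩ := b2_root_coef r a b
  rw [Tables.adj_one_add_two, xMat_eq_coef _ _ _ _ (b2_chain_deg r), e0, e1, e2]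
  show _ + _ + _ + t ^ 3 * ((evE (b2C a) _ : ℤ) : F) + t ^ 4 * ((evE (b2C a) _ : ℤ) : F) = _
  rw [show b2Tables.Bas b = b2Bas b from rfl, e3, e4]
  simp [b2Tables]

end Cfsg.Agent.UnitaryOrthogonal.Adjoint
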