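/-
`B₂(F) ≅ PΩ₅(F)` over every field with more than two elements.
-/
import Cfsg.Agent.Lib.UnitaryOrthogonal.AdjointB2
import Cfsg.Agent.Lib.UnitaryOrthogonal.HypCommutator
import Cfsg.Agent.Lib.UnitaryOrthogonal.OmegaStandard

set_option autoImplicit false

namespace Cfsg.Agent.UnitaryOrthogonal.Adjoint

open Matrix Cfsg.Lie QuadraticMap

variable {F : Type*} [Field F]

/-- The isometry group as linear maps of `I5 → F`. -/
noncomputable abbrev oddLin : Cfsg.isometryGroup F (Cfsg.quadFormOdd 2 F) ≃* orth (qOdd 2 F) :=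
  isometryGroupEquiv (qOdd 2 F) (qOdd_apply 2)

theorem polar_qOdd_single (j : Fin 2 ⊕ Fin 2) (v : I5 → F) :
    polar (qOdd 2 F) (Pi.single (.inr j) 1) v = v (opp5 (.inr j)) := by
  simp only [polar, qOdd_apply, Cfsg.quadFormOdd, Fin.sum_univ_two, Pi.add_apply, opp5]
  rcases j with j | j <;> fin_cases j <;> simp <;> ring

theorem polar_qOdd_zero (v : I5 → F) :
    polar (qOdd 2 F) (Pi.single (.inl ()) 1) v = 2 * v (.inl ()) := by
  simp only [polar, qOdd_apply, Cfsg.quadFormOdd, Fin.sum_univ_two, Pi.add_apply]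
  simp
  ring

theorem qOdd_single (j : Fin 2 ⊕ Fin 2) : qOdd 2 F (Pi.single (.inr j) 1) = 0 := by
  simp only [qOdd_apply, Cfsg.quadFormOdd, Fin.sum_univ_two]
  rcases j with j | j <;> fin_cases j <;> simp

theorem qOdd_single_zero : qOdd 2 F (Pi.single (.inl ()) 1) = 1 := by
  simp [qOdd_apply, Cfsg.quadFormOdd]

/-- The root element `1 + t N_r + t² P_r` as an isometry. -/
noncomputable def b2Root (r : Fin chevB2.nroots) (t : F) :
    Cfsg.isometryGroup F (Cfsg.quadFormOdd 2 F) :=
  oddLin.symm (if (b2Pair r).1 = .inl () then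
    eich (qOdd 2 F) (Pi.single (b2Pair r).2.1 1)
      ((((b2Pair r).2.2.2 : F) * t) • Pi.single (b2Pair r).1 1)
  else
    eich (qOdd 2 F) (Pi.single (b2Pair r).1 1)
      ((((b2Pair r).2.2.2 : F) * t) • Pi.single (b2Pair r).2.1 1))

theorem b2_pair_cases : ∀ r : Fin chevB2.nroots,
    ((b2Pair r).1 = .inl () ∧ (b2Pair r).2.1 ≠ .inl ()) ∨
    ((b2Pair r).1 ≠ .inl () ∧ (b2Pair r).2.1 ≠ .inl () ∧
      (b2Pair r).2.1 ≠ opp5 (b2Pair r).1 ∧ (b2Pair r).2.1 ≠ (b2Pair r).1) := by
  decide +kernel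

theorem opp5_opp5 (i : I5) : opp5 (opp5 i) = i := by
  rcases i with i | i
  · rfl
  · simp [opp5]

theorem opp5_injective : Function.Injective opp5 :=
  Function.LeftInverse.injective opp5_opp5

theorem exists_inr {i : I5} (h : i ≠ .inl ()) : ∃ j, i = .inr j := by
  rcases i with ⟨⟩ | j
  · exact absurd rfl h
  · exact ⟨j, rfl⟩

theorem coe_b2Root (r : Fin chevB2.nroots) (t : F) :
    (((b2Root r t).1 : GL I5 F) : Matrix I5 I5 F) =
      1 + t • toMat (b2N r) + t ^ 2 • toMat (b2P r) := by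
  refine Matrix.ext_of_mulVec_single fun l => ?_
  rw [← isometryGroupEquiv_apply (qOdd 2 F) (qOdd_apply 2)]
  rw [show isometryGroupEquiv (qOdd 2 F) (qOdd_apply 2) (b2Root r t) = _ from
    oddLin.apply_symm_apply _]
  rcases b2_pair_cases r with ⟨ha, hb⟩ | ⟨ha, hb, h1, h2⟩
  · obtain ⟨j, hj⟩ := exists_inr hb
    have hb' : opp5 (b2Pair r).2.1 ≠ .inl () := fun e => hb (by
      have := congrArg opp5 e; rwa [opp5_opp5] at this)
    rw [if_pos ha, ha, hj]
    rw [hj] at hb'
    rw [eich_apply (qOdd_single _) (by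
      rw [polar_smul_right, polar_qOdd_single, Pi.single_apply, if_neg hb', smul_zero])]
    funext i
    simp only [b2N, b2P, ha, hj, if_true]
    simp only [Pi.add_apply, Pi.sub_apply, Pi.smul_apply, polar_smul_left, polar_qOdd_single,
      polar_qOdd_zero, form_smul, qOdd_single_zero, Matrix.add_mulVec, Matrix.smul_mulVec,
      Matrix.one_mulVec, Matrix.mulVec_single, smul_eq_mul, toMat, List.map_cons, List.map_nil,
      List.sum_cons, List.sum_nil, add_zero]
    simp only [Pi.single_apply]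
    have h0 : (Sum.inl () : I5) ≠ Sum.inr j := Sum.inl_ne_inr
    have h0' := h0.symm
    have h0'' := hb'.symm
    split_ifs <;> subst_vars <;> simp_all [Matrix.single_apply] <;>
      first
        | (intro e; exact absurd e.symm (by assumption))
        | (split_ifs <;> subst_vars <;> simp_all)
        | ring
  · obtain ⟨j, hj⟩ := exists_inr hb
    obtain ⟨i₀, hi⟩ := exists_inr ha
    have h3 : opp5 (b2Pair r).2.1 ≠ opp5 (b2Pair r).1 := fun e => h2 (opp5_injective e)
    have h4 : (b2Pair r).1 ≠ opp5 (b2Pair r).2.1 := fun e => h1 (by rw [e, opp5_opp5])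
    rw [if_neg ha, hi, hj]
    rw [eich_apply (qOdd_single _) (by
      rw [polar_smul_right, polar_qOdd_single, Pi.single_apply,
        if_neg (by rw [← hi, ← hj]; exact h1.symm), smul_zero])]
    funext i
    simp only [b2N, b2P, if_neg ha]
    rw [hi, hj] at h1 h2 h3 h4
    simp only [hi, hj]
    simp only [Pi.add_apply, Pi.sub_apply, Pi.smul_apply, polar_smul_left, polar_qOdd_single,
      form_smul, qOdd_single, Matrix.add_mulVec, Matrix.smul_mulVec, Matrix.one_mulVec,
      Matrix.mulVec_single, smul_eq_mul, toMat, List.map_cons, List.map_nil, List.sum_cons,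
      List.sum_nil, add_zero, mul_zero, zero_mul, sub_zero]
    simp only [Pi.single_apply]
    have h5 := h1.symm
    have h6 := h2.symm
    split_ifs <;> subst_vars <;> simp_all [Matrix.single_apply] <;>
      first
        | (intro e; exact absurd e.symm (by assumption))
        | ring

/-- The subgroup generated by the root elements. -/
noncomputable def b2Gen (F : Type*) [Field F] :
    Subgroup (Cfsg.isometryGroup F (Cfsg.quadFormOdd 2 F)) :=
  Subgroup.closure {g | ∃ r t, g = b2Root r t}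

theorem oddLin_b2Root_mem_eich (r : Fin chevB2.nroots) (t : F) :
    oddLin (b2Root r t) ∈ eichGroup (qOdd 2 F) := by
  rw [show oddLin (b2Root r t) = _ from oddLin.apply_symm_apply _]
  split_ifs <;> exact eich_mem_eichGroup _ _

theorem b2_pos : ∀ j : I5, j ≠ .inr (.inl 0) → j ≠ .inr (.inr 0) →
    ∀ s ∈ [(Sum.inl 0 : Fin 2 ⊕ Fin 2), .inr 0],
    ∃ r : Fin chevB2.nroots, ((b2Pair r).1 = j ∧ (b2Pair r).2.1 = .inr s ∨
      (b2Pair r).1 = .inr s ∧ (b2Pair r).2.1 = j ∧ j ≠ .inl ()) ∧
      ((b2Pair r).2.2.2 = 1 ∨ (b2Pair r).2.2.2 = -1) := by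
  decide +kernel

theorem eich_basis_mem5 {s : Fin 2 ⊕ Fin 2} (hs : s ∈ [(Sum.inl 0 : Fin 2 ⊕ Fin 2), .inr 0])
    {j : I5} (hj : j ≠ .inr (.inl 0)) (hj' : j ≠ .inr (.inr 0)) (c : F) :
    eich (qOdd 2 F) (Pi.single (.inr s) 1) (c • Pi.single j 1) ∈
      (b2Gen F).map oddLin.toMonoidHom := by
  obtain ⟨r, hr, hd⟩ := b2_pos j hj hj' s hs
  have hd2 : ((b2Pair r).2.2.2 : F) * ((b2Pair r).2.2.2 : F) = 1 := by
    rcases hd with e | e <;> simp [e]
  refine ⟨b2Root r (if j = .inl () ∨ (b2Pair r).2.1 = j then ((b2Pair r).2.2.2 : F) * c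
    else -((b2Pair r).2.2.2 : F) * c), Subgroup.subset_closure ⟨r, _, rfl⟩, ?_⟩
  show oddLin _ = _
  rw [show oddLin (b2Root r _) = _ from oddLin.apply_symm_apply _]
  have hne : j ≠ .inr s ∧ j ≠ opp5 (.inr s) := by
    simp at hs; rcases hs with rfl | rfl <;> simp [opp5, hj, hj']
  rcases hr with ⟨e1, e2⟩ | ⟨e1, e2, e3⟩
  · rw [e1, e2]
    by_cases h0 : j = .inl ()
    · rw [if_pos h0, if_pos (Or.inl h0)]
      congr 2
      linear_combination c * hd2
    · obtain ⟨i₀, rfl⟩ := exists_inr h0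
      rw [if_neg h0, if_neg (not_or.2 ⟨h0, hne.1.symm⟩)]
      rw [show ((b2Pair r).2.2.2 : F) * (-((b2Pair r).2.2.2 : F) * c) = -c by
        linear_combination -c * hd2]
      refine orth_ext fun v => ?_
      rw [eich_apply (qOdd_single _) (by
        rw [polar_smul_right, polar_qOdd_single, Pi.single_apply,
          if_neg (fun e => hne.2 (by rw [← e, opp5_opp5])), smul_zero]),
        eich_apply (qOdd_single _) (by
        rw [polar_smul_right, polar_qOdd_single, Pi.single_apply, if_neg hne.2.symm, smul_zero])]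
      simp only [polar_smul_left, polar_qOdd_single, form_smul, qOdd_single, smul_eq_mul]
      module
  · rw [if_neg (by rw [e1]; simp), if_pos (Or.inr e2), e1, e2]
    congr 2
    linear_combination c * hd2

theorem eich_mem_b2Gen {s : Fin 2 ⊕ Fin 2} (hs : s ∈ [(Sum.inl 0 : Fin 2 ⊕ Fin 2), .inr 0])
    {v : I5 → F} (hv : polar (qOdd 2 F) (Pi.single (.inr s) 1) v = 0) :
    eich (qOdd 2 F) (Pi.single (.inr s) 1) v ∈ (b2Gen F).map oddLin.toMonoidHom := by
  classical
  let P : Set (I5 → F) := {v | polar (qOdd 2 F) (Pi.single (.inr s) 1) v = 0 ∧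
    eich (qOdd 2 F) (Pi.single (.inr s) 1) v ∈ (b2Gen F).map oddLin.toMonoidHom}
  suffices ∀ S : Finset I5, (∑ j ∈ S, v j • Pi.single j 1 : I5 → F) ∈ P by
    have e : v = ∑ j, v j • Pi.single j (1 : F) := by
      funext i
      rw [Finset.sum_apply, Finset.sum_eq_single i] <;> simp +contextual [eq_comm]
    have := (this Finset.univ).2
    rwa [← e] at this
  intro S
  induction S using Finset.induction with
  | empty =>
    refine ⟨by simp, ?_⟩
    rw [Finset.sum_empty, eich_zero]
    exact one_mem _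
  | insert j S hjS ih =>
    rw [Finset.sum_insert hjS]
    have hj : polar (qOdd 2 F) (Pi.single (.inr s) 1) (v j • Pi.single j 1) = 0 := by
      rw [polar_smul_right, polar_qOdd_single, Pi.single_apply]
      split_ifs with e
      · rw [polar_qOdd_single] at hv
        rw [← e, hv, zero_smul]
      · rw [smul_zero]
    refine ⟨by rw [polar_add_right, hj, ih.1, add_zero], ?_⟩
    rw [← eich_mul (qOdd_single s) hj ih.1]
    refine mul_mem ?_ ih.2
    by_cases h0 : j = .inr s
    · subst h0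
      have := eich_add_smul (Q := qOdd 2 F) (qOdd_single s) (z := 0) (by simp) (v (.inr s))
      rw [zero_add] at this
      rw [this, eich_zero]
      exact one_mem _
    by_cases h1 : j = opp5 (.inr s)
    · subst h1
      rw [polar_qOdd_single] at hv
      rw [hv, zero_smul, eich_zero]
      exact one_mem _
    simp at hs
    rcases hs with rfl | rfl
    · exact eich_basis_mem5 (by simp) h0 (by simpa [opp5] using h1) _
    · exact eich_basis_mem5 (by simp) (by simpa [opp5] using h1) h0 _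

/-- `qOdd 2 ≅ H ⊥ (H ⊥ ⟨x²⟩)`. -/
noncomputable abbrev oddSplit : (qOdd 2 F).IsometryEquiv (hyp (hypSum 1 (sqForm F))) :=
  (qOddIso 2 F).trans (hypSumSucc (sqForm F) 1)

theorem oddSplit_single_inl :
    oddSplit (Pi.single (Sum.inr (Sum.inl 0)) 1 : I5 → F) = eVec F _ := by
  show ((((Pi.single (Sum.inr (Sum.inl 0)) 1 : I5 → F) (Sum.inr (Sum.inl 0)),
      (Pi.single (Sum.inr (Sum.inl 0)) 1 : I5 → F) (Sum.inr (Sum.inr 0))),
    ((Fin.tail fun i => (Pi.single (Sum.inr (Sum.inl 0)) 1 : I5 → F) (Sum.inr (Sum.inl i)),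
      Fin.tail fun i => (Pi.single (Sum.inr (Sum.inl 0)) 1 : I5 → F) (Sum.inr (Sum.inr i))),
      (Pi.single (Sum.inr (Sum.inl 0)) 1 : I5 → F) (Sum.inl ()))) :
        (F × F) × (((Fin 1 → F) × (Fin 1 → F)) × F)) = _
  simp [eVec, Prod.ext_iff, funext_iff, Fin.tail]

theorem oddSplit_single_inr :
    oddSplit (Pi.single (Sum.inr (Sum.inr 0)) 1 : I5 → F) = fVec F _ := by
  show ((((Pi.single (Sum.inr (Sum.inr 0)) 1 : I5 → F) (Sum.inr (Sum.inl 0)),
      (Pi.single (Sum.inr (Sum.inr 0)) 1 : I5 → F) (Sum.inr (Sum.inr 0))),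
    ((Fin.tail fun i => (Pi.single (Sum.inr (Sum.inr 0)) 1 : I5 → F) (Sum.inr (Sum.inl i)),
      Fin.tail fun i => (Pi.single (Sum.inr (Sum.inr 0)) 1 : I5 → F) (Sum.inr (Sum.inr i))),
      (Pi.single (Sum.inr (Sum.inr 0)) 1 : I5 → F) (Sum.inl ()))) :
        (F × F) × (((Fin 1 → F) × (Fin 1 → F)) × F)) = _
  simp [fVec, Prod.ext_iff, funext_iff, Fin.tail]

theorem eichGroup_qOdd_le :
    eichGroup (qOdd 2 F) ≤ (b2Gen F).map oddLin.toMonoidHom := by
  have hin : ∀ {s : Fin 2 ⊕ Fin 2}, s ∈ [(Sum.inl 0 : Fin 2 ⊕ Fin 2), .inr 0] → ∀ z,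
      polar (hyp (hypSum 1 (sqForm F))) (oddSplit (Pi.single (.inr s) 1)) (inW z) = 0 →
      eich (hyp (hypSum 1 (sqForm F))) (oddSplit (Pi.single (.inr s) 1)) (inW z) ∈
        ((b2Gen F).map oddLin.toMonoidHom).map (orthCongr (oddSplit (F := F))).toMonoidHom := by
    intro s hs z hz
    obtain ⟨v, hv⟩ := oddSplit.toLinearEquiv.surjective (inW z)
    refine ⟨eich (qOdd 2 F) (Pi.single (.inr s) 1) v, eich_mem_b2Gen hs ?_, ?_⟩
    · rw [← polar_isometryEquiv (oddSplit (F := F))]
      exact hv.symm ▸ hz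
    · show orthCongr (oddSplit (F := F)) _ = _
      rw [orthCongr_eich]
      exact congrArg _ hv
  have h := eichGroup_hyp_le (H := ((b2Gen F).map oddLin.toMonoidHom).map
      (orthCongr (oddSplit (F := F))).toMonoidHom) (nonsing_sqForm.hypSum 1)
    (fun c => ⟨((![c], ![1]), 0), by simp [sqForm]⟩)
    (fun z => by
      have := hin (s := Sum.inl 0) (by simp) z
      rw [oddSplit_single_inl] at this
      exact this (by simp [inW_apply]))
    (fun z => by
      have := hin (s := Sum.inr 0) (by simp) z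
      rw [oddSplit_single_inr] at this
      exact this (by simp [inW_apply]))
  rw [← eichGroup_map (oddSplit (F := F))] at h
  exact (Subgroup.map_le_map_iff_of_injective
    (f := (orthCongr (oddSplit (F := F))).toMonoidHom) (orthCongr _).injective).1 h

/-- `qOdd 2 ≅ H ⊥ H ⊥ ⟨x²⟩`. -/
noncomputable abbrev oddTwo : (qOdd 2 F).IsometryEquiv (hyp (hyp (sqForm F))) :=
  oddSplit.trans (hypCongr ((hypSumSucc (sqForm F) 0).trans (hypCongr (hypSumZero _))))

theorem sqForm_aniso : ∀ x : F, sqForm F x = 0 → x = 0 := fun _ h => mul_self_eq_zero.1 h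

theorem commutator_eq_b2Gen (hF : ∃ a : F, a ≠ 0 ∧ a ≠ 1) :
    commutator (Cfsg.isometryGroup F (Cfsg.quadFormOdd 2 F)) = b2Gen F := by
  have hc : commutator (orth (hyp (hyp (sqForm F)))) = eichGroup (hyp (hyp (sqForm F))) := by
    refine le_antisymm (commutator_le_eichGroup sqForm_aniso fun r s => ?_)
      (eichGroup_le_commutator nonsing_sqForm.hyp (fun c => ⟨((c, 1), 0), by simp⟩) hF)
    rcases orth_sqForm_cases r with rfl | rfl <;> rcases orth_sqForm_cases s with rfl | rfl <;>
      simp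
  have h1 : (commutator (Cfsg.isometryGroup F (Cfsg.quadFormOdd 2 F))).map oddLin.toMonoidHom =
      eichGroup (qOdd 2 F) := by
    rw [commutator_def, Subgroup.map_commutator, Subgroup.map_top_of_surjective _ oddLin.surjective,
      ← commutator_def]
    refine Subgroup.map_injective (f := (orthCongr (oddTwo (F := F))).toMonoidHom)
      (orthCongr _).injective ?_
    show Subgroup.map (orthCongr (oddTwo (F := F))).toMonoidHom _ =
      Subgroup.map (orthCongr (oddTwo (F := F))).toMonoidHom _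
    rw [eichGroup_map, commutator_def, Subgroup.map_commutator,
      Subgroup.map_top_of_surjective _ (orthCongr (oddTwo (F := F))).surjective, ← commutator_def,
      hc]
  refine Subgroup.map_injective (f := (oddLin (F := F)).toMonoidHom) oddLin.injective ?_
  show Subgroup.map oddLin.toMonoidHom _ = Subgroup.map oddLin.toMonoidHom _
  rw [h1]
  refine le_antisymm eichGroup_qOdd_le ?_
  rw [b2Gen, MonoidHom.map_closure, Subgroup.closure_le]
  rintro _ ⟨_, ⟨r, t, rfl⟩, rfl⟩
  exact oddLin_b2Root_mem_eich r t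

theorem isIso_isometry5 (g : Cfsg.isometryGroup F (Cfsg.quadFormOdd 2 F)) :
    IsIso b2Tables.q ((g.1 : GL I5 F) : Matrix I5 I5 F) := by
  have hq : ∀ x : I5 → F, x ⬝ᵥ ((toMat b2Tables.q : Matrix I5 I5 F) *ᵥ x) =
      Cfsg.quadFormOdd 2 F x := fun x => by
    simp [b2Tables, b2q, toMat, Matrix.add_mulVec, Cfsg.quadFormOdd, Fin.sum_univ_two,
      Matrix.single_mulVec, dotProduct, Fintype.sum_sum_type, Function.update_apply]
    ring
  refine isIso_of_forall fun x => ?_
  rw [hq, hq]
  exact g.2 x 0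

/-- The adjoint action of the isometry group on the lattice, as matrices. -/
noncomputable def adjMat5 :
    Cfsg.isometryGroup F (Cfsg.quadFormOdd 2 F) →* Matrix chevB2.Idx chevB2.Idx F where
  toFun g := b2Tables.adj ((g.1 : GL I5 F) : Matrix I5 I5 F)
  map_one' := b2Tables.adj_one
  map_mul' g h := (b2Tables.adj_mul (isIso_isometry5 g) (isIso_isometry5 h)).symm

/-- The adjoint action. -/
noncomputable def adjHom5 :
    Cfsg.isometryGroup F (Cfsg.quadFormOdd 2 F) →* GL chevB2.Idx F :=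
  (adjMat5 (F := F)).toHomUnits

theorem coe_adjHom5 (g : Cfsg.isometryGroup F (Cfsg.quadFormOdd 2 F)) :
    (adjHom5 g : Matrix chevB2.Idx chevB2.Idx F) =
      b2Tables.adj ((g.1 : GL I5 F) : Matrix I5 I5 F) := rfl

theorem map_commutator_adjHom5 (hF : ∃ a : F, a ≠ 0 ∧ a ≠ 1) :
    (commutator (Cfsg.isometryGroup F (Cfsg.quadFormOdd 2 F))).map adjHom5 = chevB2.group F := by
  rw [commutator_eq_b2Gen hF, b2Gen, MonoidHom.map_closure, ChevalleyDatum.group]
  congr 1
  ext g
  constructor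
  · rintro ⟨_, ⟨r, t, rfl⟩, rfl⟩
    exact ⟨r, t, by rw [coe_adjHom5, coe_b2Root, b2_adj_root]⟩
  · rintro ⟨r, t, h⟩
    exact ⟨b2Root r t, ⟨r, t, rfl⟩,
      Units.ext (by rw [coe_adjHom5, coe_b2Root, b2_adj_root]; exact h.symm)⟩

theorem b2_sep : ∀ a i : I5, i ≠ a → ∃ r : Fin chevB2.nroots,
    ((b2Pair r).1 = a ∨ (b2Pair r).2.1 = a) ∧ (b2Pair r).1 ≠ i ∧ (b2Pair r).2.1 ≠ i := by
  decide +kernel

theorem b2_sign : ∀ r : Fin chevB2.nroots,
    (b2Pair r).1 ≠ (b2Pair r).2.1 ∧ ((b2Pair r).2.2.1 = 1 ∨ (b2Pair r).2.2.1 = -1) := by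
  decide +kernel

/-- An isometry trivial on the lattice is a scalar. -/
theorem eq_smul_one_of_adj5 {g : Matrix I5 I5 F} (hg : IsIso b2Tables.q g)
    (h : b2Tables.adj g = 1) : ∃ c : F, g = c • 1 := by
  obtain ⟨P, hP⟩ : ∃ P : I5 → I5 → I5 → I5 → F,
      P = fun a b i j => g i a * g j b - g j a * g i b := ⟨_, rfl⟩
  have key : ∀ (r : Fin chevB2.nroots) (i j : I5),
      P (b2Pair r).1 (b2Pair r).2.1 i j =
        (if (b2Pair r).1 = i ∧ (b2Pair r).2.1 = j then 1 else 0) -
          (if (b2Pair r).1 = j ∧ (b2Pair r).2.1 = i then 1 else 0) := by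
    intro r i j
    have hd : ((b2Pair r).2.2.1 : F) * ((b2Pair r).2.2.1 : F) = 1 := by
      rcases (b2_sign r).2 with e | e <;> simp [e]
    have := congrFun (congrFun (b2Tables.transpose_sub_of_adj_eq_one hg h (Sum.inr r)) i) j
    simp [b2Tables, b2Bas, toMat, Matrix.mul_apply, Matrix.single_apply, ite_and, Finset.sum_ite_eq,
      Finset.sum_ite_eq'] at this
    rw [hP]
    simp only [ite_and]
    split_ifs at this ⊢ <;>
      first
        | linear_combination (-((b2Pair r).2.2.1 : F)) * this -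
            (g i (b2Pair r).1 * g j (b2Pair r).2.1 - g j (b2Pair r).1 * g i (b2Pair r).2.1) * hd
        | linear_combination (-((b2Pair r).2.2.1 : F)) * this -
            (g i (b2Pair r).1 * g j (b2Pair r).2.1 - g j (b2Pair r).1 * g i (b2Pair r).2.1) * hd + hd
        | linear_combination (-((b2Pair r).2.2.1 : F)) * this -
            (g i (b2Pair r).1 * g j (b2Pair r).2.1 - g j (b2Pair r).1 * g i (b2Pair r).2.1) * hd - hd
  have hoff : ∀ a i : I5, i ≠ a → g i a = 0 := by
    intro a i hia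
    obtain ⟨r, hr, hi1, hi2⟩ := b2_sep a i hia
    have hne := (b2_sign r).1
    have e1 := key r (b2Pair r).1 (b2Pair r).2.1
    have e2 := key r i (b2Pair r).1
    have e3 := key r i (b2Pair r).2.1
    rw [hP] at e1 e2 e3
    simp [hne, hne.symm, hi1, hi2] at e1 e2 e3
    rcases hr with rfl | rfl
    · linear_combination g (b2Pair r).1 (b2Pair r).1 * e3 - g (b2Pair r).2.1 (b2Pair r).1 * e2
        - g i (b2Pair r).1 * e1
    · linear_combination g (b2Pair r).1 (b2Pair r).2.1 * e3
        - g (b2Pair r).2.1 (b2Pair r).2.1 * e2 - g i (b2Pair r).2.1 * e1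
  have hdiag : ∀ r : Fin chevB2.nroots,
      g (b2Pair r).1 (b2Pair r).1 * g (b2Pair r).2.1 (b2Pair r).2.1 = 1 := fun r => by
    have e := key r (b2Pair r).1 (b2Pair r).2.1
    have hne := (b2_sign r).1
    rw [hP] at e
    simp [hne, hne.symm, hoff _ _ hne, hoff _ _ hne.symm] at e
    exact e
  refine ⟨g (.inl ()) (.inl ()), Matrix.ext fun i j => ?_⟩
  by_cases hij : i = j
  swap
  · simp [hoff j i hij, Matrix.one_apply, hij]
  subst hij
  have d1 := hdiag ⟨1, by decide⟩
  have d2 := hdiag ⟨2, by decide⟩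
  have d5 := hdiag ⟨5, by decide⟩
  have d6 := hdiag ⟨6, by decide⟩
  have d7 := hdiag ⟨7, by decide⟩
  simp [b2Pair, b2Pairs] at d1 d2 d5 d6 d7
  have hsq : g (.inl ()) (.inl ()) * g (.inl ()) (.inl ()) = 1 := by
    linear_combination g (.inl ()) (.inl ()) * g (.inr (.inl 1)) (.inr (.inl 1)) * d6 + d5 -
      g (.inl ()) (.inl ()) * g (.inl ()) (.inl ()) * d7
  simp only [Matrix.smul_apply, Matrix.one_apply_eq, smul_eq_mul, mul_one]
  rcases i with u | i | i
  · rfl
  all_goals fin_cases i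
  · simp; linear_combination (-(g (.inr (.inl 0)) (.inr (.inl 0)))) * hsq + g (.inl ()) (.inl ()) * d6
  · simp; linear_combination (-(g (.inr (.inl 1)) (.inr (.inl 1)))) * hsq + g (.inl ()) (.inl ()) * d5
  · simp; linear_combination (-(g (.inr (.inr 0)) (.inr (.inr 0)))) * hsq + g (.inl ()) (.inl ()) * d1
  · simp; linear_combination (-(g (.inr (.inr 1)) (.inr (.inr 1)))) * hsq + g (.inl ()) (.inl ()) * d2

theorem chevB2_equiv (hF : ∃ a : F, a ≠ 0 ∧ a ≠ 1) :
    Nonempty (↥(chevB2.group F) ≃* Cfsg.POmega F (Cfsg.quadFormOdd 2 F)) := by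
  let G := Cfsg.isometryGroup F (Cfsg.quadFormOdd 2 F)
  let f : ↥(commutator G) →* GL chevB2.Idx F := adjHom5.comp (commutator G).subtype
  have hrange : f.range = chevB2.group F := by
    rw [MonoidHom.range_comp, Subgroup.range_subtype, map_commutator_adjHom5 hF]
  let ψ : G ≃* orth (hyp (hyp (sqForm F))) := oddLin.trans (orthCongr oddTwo)
  have hker : f.ker = Subgroup.center ↥(commutator G) := by
    refine le_antisymm (fun x hx => ?_) (fun x hx => ?_)
    · have hx1 : b2Tables.adj ((x.1.1 : GL I5 F) : Matrix I5 I5 F) = 1 :=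
        congrArg (fun g : GL chevB2.Idx F => (g : Matrix chevB2.Idx chevB2.Idx F))
          (show f x = 1 from hx)
      obtain ⟨c, hc⟩ := eq_smul_one_of_adj5 (isIso_isometry5 x.1) hx1
      refine Subgroup.mem_center_iff.2 fun y => Subtype.ext (Subtype.ext (Units.ext ?_))
      simp [hc]
    · have hgen : (commutator G).map ψ.toMonoidHom = eichGroup (hyp (hyp (sqForm F))) := by
        rw [commutator_def, Subgroup.map_commutator,
          Subgroup.map_top_of_surjective ψ.toMonoidHom ψ.surjective, ← commutator_def]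
        refine le_antisymm (commutator_le_eichGroup sqForm_aniso fun r s => ?_)
          (eichGroup_le_commutator nonsing_sqForm.hyp (fun c => ⟨((c, 1), 0), by simp⟩) hF)
        rcases orth_sqForm_cases r with rfl | rfl <;> rcases orth_sqForm_cases s with rfl | rfl <;>
          simp
      obtain ⟨a, ha, hv⟩ := eq_smul_of_commute_eich (nonsing_sqForm (F := F)).hyp
        (fun c => ⟨((c, 1), 0), by simp⟩) (x := ψ x.1) (fun g hg => by
          rw [← hgen] at hg
          obtain ⟨w, hw, rfl⟩ := hg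
          show ψ w * ψ x.1 = ψ x.1 * ψ w
          have := congrArg Subtype.val (Subgroup.mem_center_iff.1 hx ⟨w, hw⟩)
          simp only [Subgroup.coe_mul] at this
          rw [← map_mul, ← map_mul, this])
      have hmat : ((x.1.1 : GL I5 F) : Matrix I5 I5 F) = a • 1 := by
        refine Matrix.ext_of_mulVec_single fun l => ?_
        rw [← isometryGroupEquiv_apply (qOdd 2 F) (qOdd_apply 2), Matrix.smul_mulVec,
          Matrix.one_mulVec]
        refine oddTwo.toLinearEquiv.injective ?_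
        have h' : (orthCongr (oddTwo (F := F)) (oddLin x.1)).1 (oddTwo (Pi.single l 1 : I5 → F)) =
          a • oddTwo (Pi.single l 1 : I5 → F) := hv _
        rw [orthCongr_apply] at h'
        rw [map_smul]
        exact h'
      refine Units.ext ?_
      show b2Tables.adj ((x.1.1 : GL I5 F) : Matrix I5 I5 F) = 1
      rw [hmat, b2Tables.adj_smul_one, ha, one_smul]
  exact ⟨((QuotientGroup.quotientMulEquivOfEq hker.symm).trans
    ((QuotientGroup.quotientKerEquivRange f).trans (MulEquiv.subgroupCongr hrange))).symm⟩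

end Cfsg.Agent.UnitaryOrthogonal.Adjoint
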