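/-
Graph automorphisms of order two of `PΩ⁻` in odd characteristic come from similarities.
-/
import Cfsg.Agent.FieldAutGen.PlusBasic
import Cfsg.Agent.FieldAutGen.OrthAut
import Cfsg.Agent.Forms59.Elliptic2
import Cfsg.Agent.Lib.UnitaryOrthogonal.GraphSplit

set_option autoImplicit false
set_option linter.unusedSectionVars false

namespace Cfsg.Agent.UnitaryOrthogonal.GraphSplit

open Matrix QuadraticMap Cfsg.Agent.Reflections
open Cfsg.Agent.AutPSL (Induced scalarGL fieldMap)
open Cfsg.Agent.FieldAutGen.Orth (rho Frame HasSiegel)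

universe u

variable {F : Type u} [Field F] [Fintype F]

/-- An element fixed by an involutory automorphism is a square. -/
theorem isSquare_of_fixed (h2 : (2 : F) ≠ 0) {σ : F ≃+* F} (hσ : orderOf σ = 2) {x : F}
    (hx : σ x = x) : IsSquare x := by
  let G := Subgroup.zpowers σ
  haveI : Finite (F ≃+* F) := Finite.of_injective (fun τ => (τ : F → F)) DFunLike.coe_injective
  haveI : Fintype G := Fintype.ofFinite G
  have hfin : Module.finrank (FixedPoints.subfield G F) F = 2 := by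
    rw [FixedPoints.finrank_eq_card, ← Nat.card_eq_fintype_card, Nat.card_zpowers, hσ]
  have hmem : x ∈ FixedPoints.subfield G F := by
    rintro ⟨τ, n, rfl⟩
    show (σ ^ n) x = x
    exact Subgroup.zpow_mem (MulAction.stabilizer (F ≃+* F) x) (x := σ) hx n
  haveI : Finite (FixedPoints.subfield G F) := inferInstance
  exact isSquare_algebraMap (F := FixedPoints.subfield G F) (K := F)
    (fun h => h2 (by
      have := congrArg (FixedPoints.subfield G F).subtype h
      rwa [map_ofNat, map_zero] at this)) hfin ⟨x, hmem⟩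

variable {ι : Type} [Fintype ι] [DecidableEq ι]

/-- A semisimilarity squaring to a scalar is a similarity when the discriminant is not a square. -/
theorem sigma_eq_one (h2 : (2 : F) ≠ 0) {k : ℕ} (hk : 1 ≤ k) (hcard : Fintype.card ι = 2 * k)
    (Q : QuadraticForm F (ι → F))
    (hD : ¬ IsSquare ((-1 : F) ^ k * (Forms59.gram Q (Pi.basisFun F ι)).det))
    {g : GL ι F} {σ : F ≃+* F} (hg : Cfsg.IsSemisimilarityPair (⇑Q) g σ) (hσ : σ * σ = 1) {l : Fˣ}
    (hl : g * fieldMap σ g = scalarGL ι l) : σ = 1 := by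
  by_contra hne
  have ho : orderOf σ = 2 := orderOf_eq_prime (by rw [pow_two]; exact hσ) hne
  have hfix : ∀ x, σ x = x → IsSquare x := fun x hx => isSquare_of_fixed h2 ho hx
  have hσσ : ∀ x, σ (σ x) = x := fun x => congrArg (fun τ : F ≃+* F => τ x) hσ
  set D := (Forms59.gram Q (Pi.basisFun F ι)).det with hDdef
  have hDs : ¬ IsSquare D := fun h => hD
    ((hfix ((-1 : F) ^ k) (by rw [map_pow, map_neg, map_one])).mul h)
  obtain ⟨c, hc⟩ := id hg
  have hp : ∀ x y : ι → F, polar ⇑Q ((g : Matrix ι ι F) *ᵥ (σ ∘ x)) ((g : Matrix ι ι F) *ᵥ (σ ∘ y)) =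
      (c : F) * σ (polar ⇑Q x y) := by
    intro x y
    have e : (g : Matrix ι ι F) *ᵥ (σ ∘ x) + (g : Matrix ι ι F) *ᵥ (σ ∘ y) =
        (g : Matrix ι ι F) *ᵥ (σ ∘ (x + y)) := by
      rw [← mulVec_add]; exact congrArg _ (funext fun i => (map_add σ _ _).symm)
    simp only [polar, e, map_sub]
    rw [show Q ((g : Matrix ι ι F) *ᵥ (σ ∘ (x + y))) = (c : F) * σ (Q (x + y)) from hc _,
      show Q ((g : Matrix ι ι F) *ᵥ (σ ∘ x)) = (c : F) * σ (Q x) from hc _,
      show Q ((g : Matrix ι ι F) *ᵥ (σ ∘ y)) = (c : F) * σ (Q y) from hc _]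
    ring
  have hgram : (g : Matrix ι ι F)ᵀ * Forms59.gram Q (Pi.basisFun F ι) * (g : Matrix ι ι F) =
      (c : F) • (σ.toRingHom.mapMatrix (Forms59.gram Q (Pi.basisFun F ι))) := by
    have hB : Forms59.gram Q (Pi.basisFun F ι) = LinearMap.toMatrix₂' F Q.polarBilin := by
      ext i j
      rw [LinearMap.toMatrix₂'_apply]
      simp [Forms59.gram]
    rw [hB]
    have h1 := LinearMap.toMatrix₂'_compl₁₂ (R := F) Q.polarBilin
      (Matrix.toLin' (g : Matrix ι ι F)) (Matrix.toLin' (g : Matrix ι ι F))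
    rw [LinearMap.toMatrix'_toLin'] at h1
    rw [← h1]
    ext i j
    rw [LinearMap.toMatrix₂'_apply, LinearMap.compl₁₂_apply, Matrix.toLin'_apply,
      Matrix.toLin'_apply, Matrix.smul_apply, RingHom.mapMatrix_apply, Matrix.map_apply,
      LinearMap.toMatrix₂'_apply, smul_eq_mul, QuadraticMap.polarBilin_apply_apply]
    have hs : ∀ i : ι, σ ∘ (Pi.single i (1 : F) : ι → F) = Pi.single i 1 := fun i => funext fun j => by
      by_cases h : j = i <;> simp [h]
    conv_lhs => rw [← hs i, ← hs j]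
    exact hp _ _
  set d := (g : Matrix ι ι F).det with hd
  have hd0 : d ≠ 0 := Matrix.det_ne_zero_of_left_inverse (B := ((g⁻¹ : GL ι F) : Matrix ι ι F))
    (by rw [← Units.val_mul, inv_mul_cancel, Units.val_one])
  have hdet : d ^ 2 * D = (c : F) ^ (2 * k) * σ D := by
    have h := congrArg Matrix.det hgram
    rw [Matrix.det_mul, Matrix.det_mul, Matrix.det_transpose, Matrix.det_smul, hcard,
      ← RingHom.map_det] at h
    calc d ^ 2 * D = d * D * d := by ring
      _ = _ := h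
  have hN : d * σ d = (l : F) ^ (2 * k) := by
    have h := congrArg (fun x : GL ι F => (x : Matrix ι ι F).det) hl
    simp only [Units.val_mul, Matrix.det_mul, AutPSL.scalarGL_coe, Matrix.det_smul, Matrix.det_one,
      mul_one, hcard, AutPSL.fieldMap_coe] at h
    rw [← h]
    congr 1
    exact RingHom.map_det σ.toRingHom _
  obtain ⟨v, hv⟩ : ∃ v, Q v ≠ 0 := by
    by_contra h
    push Not at h
    refine hDs ?_
    haveI : Nonempty ι := Fintype.card_pos_iff.1 (by omega)
    have : Forms59.gram Q (Pi.basisFun F ι) = 0 := by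
      ext i j; simp [Forms59.gram, polar, h]
    rw [hDdef, this, Matrix.det_zero]
    exact IsSquare.zero
  have hcN : (c : F) * σ c = (l : F) ^ 2 := by
    have h := hc ((g : Matrix ι ι F) *ᵥ (fun i => σ (v i)))
    rw [hc v, map_mul, hσσ, show (fun i => σ (((g : Matrix ι ι F) *ᵥ fun i => σ (v i)) i)) =
      σ ∘ ((g : Matrix ι ι F) *ᵥ (σ ∘ v)) from rfl, ← FieldAutGen.Orth.map_mulVec σ (g : Matrix ι ι F) (σ ∘ v), mulVec_mulVec,
      ← AutPSL.fieldMap_coe, ← Units.val_mul, hl, AutPSL.scalarGL_coe, smul_mulVec, one_mulVec,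
      show σ ∘ (σ ∘ v) = v from funext fun i => hσσ _, QuadraticMap.map_smul, smul_eq_mul] at h
    refine mul_right_cancel₀ hv ?_
    linear_combination -h
  obtain ⟨y, hy0, hy⟩ : ∃ y, y ≠ 0 ∧ D * (σ y) ^ 2 = y ^ 2 * σ D := by
    set e := (c : F) ^ k / d with he
    have hDe : D = e ^ 2 * σ D := by
      rw [he, div_pow, ← pow_mul, mul_comm k 2, div_mul_eq_mul_div, eq_div_iff (pow_ne_zero _ hd0),
        ← hdet]
      ring
    by_cases hm1 : e = -1
    · refine ⟨1, one_ne_zero, ?_⟩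
      rw [map_one, one_pow, one_mul, mul_one]
      rw [hm1] at hDe
      linear_combination hDe
    · have hNe : e * σ e = 1 := by
        rw [he, map_div₀, map_pow, div_mul_div_comm, hN, ← mul_pow, hcN, ← pow_mul]
        exact div_self (pow_ne_zero _ l.ne_zero)
      refine ⟨1 + e, fun h => hm1 (eq_neg_of_add_eq_zero_right h), ?_⟩
      have hy : e * σ (1 + e) = 1 + e := by rw [map_add, map_one, mul_add, hNe, mul_one, add_comm]
      conv_lhs => rw [hDe]
      calc e ^ 2 * σ D * σ (1 + e) ^ 2 = (e * σ (1 + e)) ^ 2 * σ D := by ring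
        _ = _ := by rw [hy]
  refine hDs ?_
  have hsq : IsSquare (D / y ^ 2) := hfix _ (by
    rw [map_div₀, map_pow, eq_comm, div_eq_div_iff (pow_ne_zero _ hy0)
      (pow_ne_zero _ ((map_ne_zero σ).2 hy0)), hy]
    ring)
  rw [show D = D / y ^ 2 * y ^ 2 by field_simp]
  exact hsq.mul ⟨y, pow_two y⟩

/-- The coordinate frame of the minus form. -/
noncomputable def minusFrame (m : ℕ) (a b : F) : Frame (qMinus m F a b) m where
  e i := Pi.single (.inl (.inl i)) 1
  f i := Pi.single (.inl (.inr i)) 1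
  Qe i := by simp [qMinus_apply, Cfsg.quadFormMinus]
  Qf i := by simp [qMinus_apply, Cfsg.quadFormMinus]
  ef i j := by
    simp only [polar, qMinus_apply, Cfsg.quadFormMinus, Pi.add_apply, Pi.single_apply, reduceCtorEq,
      if_false, Sum.inr.injEq, Sum.inl.injEq, add_zero, zero_add]
    simp [eq_comm]
  ee i j h := by simp [polar, qMinus_apply, Cfsg.quadFormMinus]
  ff i j h := by simp [polar, qMinus_apply, Cfsg.quadFormMinus]

end Cfsg.Agent.UnitaryOrthogonal.GraphSplit

namespace Cfsg.Agent.UnitaryOrthogonal.GraphSplit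

open Matrix
open Cfsg.Agent.AutPSL (scalarGL)
open Cfsg.Agent.FieldAutGen.Orth (Frame)

universe u

/-- An improper similarity induces an automorphism outside the inner-diagonal group. -/
theorem not_mem_of_improper {ι : Type} [Fintype ι] [DecidableEq ι] {F : Type u} [Field F]
    [Fintype F] {Q : QuadraticForm F (ι → F)} {f : (ι → F) → F} (hf : ⇑Q = f) (h2 : (2 : F) ≠ 0)
    (hQ : (QuadraticMap.polarBilin Q).Nondegenerate) {k k' : ℕ} (hk' : 3 ≤ k')
    (hcard : Fintype.card ι = 2 * k) (E : Frame Q k') {P : GL ι F → Prop}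
    (hP : ∀ (g : GL ι F) (c : F), c ≠ 0 → (∀ v, f ((g : Matrix ι ι F) *ᵥ v) = c * f v) →
      (P g ↔ (g : Matrix ι ι F).det = c ^ k))
    {InnD : Subgroup (MulAut (Cfsg.POmega F f))}
    (hInn : InnD = Cfsg.autSubgroupOf fun β => ∃ g : GL ι F,
      g ∈ Cfsg.Geo.quadSimilarityGroup (F := F) f ∧ P g ∧
      Cfsg.IsInducedBySemilinearPOmega f g (RingEquiv.refl F) β)
    {γ : MulAut (Cfsg.POmega F f)} {g : GL ι F}
    (hg : g ∈ Cfsg.Geo.quadSimilarityGroup (F := F) f) (hgγ : Ind f g γ) (hgP : ¬ P g) :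
    γ ∉ InnD := by
  intro hmem
  obtain ⟨h, ⟨c, hc, hch, hdet⟩, hhγ⟩ := exists_proper_of_mem hP hInn hmem
  subst hf
  have hhs : h ∈ Cfsg.Geo.quadSimilarityGroup (F := F) ⇑Q := ⟨Units.mk0 c hc, hch⟩
  have h1 := ind_mul hg (ind_inv hhs hhγ) hgγ
  rw [inv_mul_cancel] at h1
  obtain ⟨-, a, ha⟩ := FieldAutGen.Orth.eq_one_of_induced hk' E
    (FieldAutGen.Orth.hasSiegel_of_two_ne_zero h2 Q hQ)
    (FieldAutGen.Orth.isSemi_one_iff.2 (mul_mem (inv_mem hhs) hg)) h1
  rw [inv_mul_eq_iff_eq_mul] at ha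
  have hsim : ∀ v, Q ((g : Matrix ι ι F) *ᵥ v) = c * ((a : F) * a) * Q v := fun v => by
    rw [ha, Units.val_mul, ← mulVec_mulVec, hch, AutPSL.scalarGL_coe, smul_mulVec, one_mulVec,
      QuadraticMap.map_smul, smul_eq_mul, ← mul_assoc]
  refine hgP ((hP g _ (mul_ne_zero hc (mul_ne_zero a.ne_zero a.ne_zero)) hsim).2 ?_)
  rw [ha, Units.val_mul, Matrix.det_mul, hdet, AutPSL.scalarGL_coe, Matrix.det_smul, Matrix.det_one,
    mul_one, hcard, mul_pow, pow_mul, pow_two]

/-- The discriminant of an anisotropic binary form is not a square. -/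
theorem disc_not_isSquare {F : Type u} [Field F] (h2 : (2 : F) ≠ 0) {a b : F}
    (hab : ∀ z₁ z₂ : F, z₁ ^ 2 + a * z₁ * z₂ + b * z₂ ^ 2 = 0 → z₁ = 0 ∧ z₂ = 0) :
    ¬ IsSquare (a ^ 2 - 4 * b) := by
  rintro ⟨s, hs⟩
  exact one_ne_zero (hab ((-a + s) / 2) 1 (by field_simp; linear_combination -hs)).2

end Cfsg.Agent.UnitaryOrthogonal.GraphSplit
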