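/-
`PΩ₄⁻(q) ≅ PSL₂(q²)`: the action `X ↦ A X Aᴴ` on Hermitian matrices.
-/
import Cfsg.Agent.Lib.UnitaryOrthogonal.SmallDim
import Cfsg.Agent.Lib.UnitaryOrthogonal.QuadExt

set_option autoImplicit false

namespace Cfsg.Agent.UnitaryOrthogonal

open QuadraticMap QuadraticAlgebra
open scoped Matrix

variable {F : Type*} [Field F] {a b : F}

/-- Hermitian matrices over `F[ω]`. -/
def hMat (a b : F) : ((F × F) × (F × F)) →ₗ[F] Matrix (Fin 2) (Fin 2) (QuadraticAlgebra F (-b) a) where
  toFun v := !![⟨v.1.1, 0⟩, ⟨v.2.1, v.2.2⟩; star (⟨v.2.1, v.2.2⟩ : QuadraticAlgebra F (-b) a),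
    ⟨-v.1.2, 0⟩]
  map_add' v w := by
    ext i j <;> fin_cases i <;> fin_cases j <;> simp <;> ring
  map_smul' c v := by
    ext i j <;> fin_cases i <;> fin_cases j <;> simp <;> ring

/-- Coordinates of a Hermitian matrix. -/
def hCoord (a b : F) :
    Matrix (Fin 2) (Fin 2) (QuadraticAlgebra F (-b) a) →ₗ[F] ((F × F) × (F × F)) where
  toFun M := (((M 0 0).re, -(M 1 1).re), ((M 0 1).re, (M 0 1).im))
  map_add' M N := by ext <;> simp <;> ring
  map_smul' c M := by ext <;> simp

theorem hCoord_hMat (v : (F × F) × (F × F)) : hCoord a b (hMat a b v) = v := by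
  ext <;> simp [hCoord, hMat]

theorem conjTranspose_hMat (v : (F × F) × (F × F)) : (hMat a b v)ᴴ = hMat a b v := by
  ext i j <;> fin_cases i <;> fin_cases j <;> simp [hMat]

theorem det_hMat (v : (F × F) × (F × F)) :
    (hMat a b v).det = algebraMap F _ (-(hyp (binForm a b) v)) := by
  rw [Matrix.det_fin_two]
  ext <;> simp [hMat, binForm_apply, pow_two] <;> ring

variable [Finite F]

theorem hMat_hCoord (hab : BinAniso a b)
    {M : Matrix (Fin 2) (Fin 2) (QuadraticAlgebra F (-b) a)} (h : Mᴴ = M) :
    hMat a b (hCoord a b M) = M := by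
  have h00 := im_eq_zero_of_star_eq hab (congrFun (congrFun h 0) 0)
  have h11 := im_eq_zero_of_star_eq hab (congrFun (congrFun h 1) 1)
  have h10 : star (M 0 1) = M 1 0 := congrFun (congrFun h 1) 0
  ext i j <;> fin_cases i <;> fin_cases j
  all_goals first
    | rfl
    | exact h00.symm
    | exact h11.symm
    | exact congrArg QuadraticAlgebra.re h10
    | exact congrArg QuadraticAlgebra.im h10
    | exact neg_neg _

/-- `A ↦ (X ↦ A X Aᴴ)`. -/
def hermOrth (hab : BinAniso a b) :
    Matrix.SpecialLinearGroup (Fin 2) (QuadraticAlgebra F (-b) a) →* orth (hyp (binForm a b)) :=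
  have hcomp : ∀ (A B : Matrix (Fin 2) (Fin 2) (QuadraticAlgebra F (-b) a)) v,
      hCoord a b (A * hMat a b (hCoord a b (B * hMat a b v * Bᴴ)) * Aᴴ) =
        hCoord a b ((A * B) * hMat a b v * (A * B)ᴴ) := fun A B v => by
    rw [hMat_hCoord hab (by rw [Matrix.conjTranspose_mul, Matrix.conjTranspose_mul,
      Matrix.conjTranspose_conjTranspose, conjTranspose_hMat, mul_assoc]), Matrix.conjTranspose_mul]
    simp only [mul_assoc]
  { toFun := fun A => ⟨
      { toFun := fun v => hCoord a b (A.1 * hMat a b v * A.1ᴴ)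
        invFun := fun v => hCoord a b (A⁻¹.1 * hMat a b v * A⁻¹.1ᴴ)
        map_add' := fun v w => by simp [Matrix.mul_add, Matrix.add_mul]
        map_smul' := fun c v => by simp
        left_inv := fun v => by
          simp only
          rw [hcomp, ← Matrix.SpecialLinearGroup.coe_mul, inv_mul_cancel,
            Matrix.SpecialLinearGroup.coe_one, Matrix.conjTranspose_one, one_mul, mul_one,
            hCoord_hMat]
        right_inv := fun v => by
          simp only
          rw [hcomp, ← Matrix.SpecialLinearGroup.coe_mul, mul_inv_cancel,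
            Matrix.SpecialLinearGroup.coe_one, Matrix.conjTranspose_one, one_mul, mul_one,
            hCoord_hMat] },
      fun v => by
        show hyp (binForm a b) (hCoord a b (A.1 * hMat a b v * A.1ᴴ)) = _
        have h1 := det_hMat (a := a) (b := b) (hCoord a b (A.1 * hMat a b v * A.1ᴴ))
        rw [hMat_hCoord hab (by rw [Matrix.conjTranspose_mul, Matrix.conjTranspose_mul,
          Matrix.conjTranspose_conjTranspose, conjTranspose_hMat, mul_assoc]), Matrix.det_mul,
          Matrix.det_mul, Matrix.det_conjTranspose, A.2, star_one, one_mul, mul_one, det_hMat,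
          QuadraticAlgebra.algebraMap_inj, neg_inj] at h1
        exact h1.symm⟩
    map_one' := orth_ext fun v => by
      show hCoord a b ((1 : Matrix (Fin 2) (Fin 2) _) * hMat a b v * 1ᴴ) = v
      rw [Matrix.conjTranspose_one, one_mul, mul_one, hCoord_hMat]
    map_mul' := fun A B => orth_ext fun v => (hcomp A.1 B.1 v).symm }

theorem hermOrth_apply (hab : BinAniso a b)
    (A : Matrix.SpecialLinearGroup (Fin 2) (QuadraticAlgebra F (-b) a)) (v : (F × F) × (F × F)) :
    (hermOrth hab A).1 v = hCoord a b (A.1 * hMat a b v * A.1ᴴ) := rfl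

theorem pomega_four_minus_equiv {K : Type*} [Field K] [Finite K]
    (hK : Nat.card K = Nat.card F ^ 2) (hab : BinAniso a b) :
    Nonempty (Cfsg.POmega F (Cfsg.quadFormMinus 1 F a b) ≃*
      Matrix.ProjectiveSpecialLinearGroup (Fin 2) K) := by
  classical
  cases nonempty_fintype F
  cases nonempty_fintype K
  haveI := hab.fact
  cases nonempty_fintype (QuadraticAlgebra F (-b) a)
  have hcardK' : Nat.card (QuadraticAlgebra F (-b) a) = Nat.card F ^ 2 := quadExt_card _ _
  have e : QuadraticAlgebra F (-b) a ≃+* K :=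
    FiniteField.ringEquivOfCardEq (by
      rw [← Nat.card_eq_fintype_card, ← Nat.card_eq_fintype_card, hcardK', hK])
  let φ : Cfsg.isometryGroup F (Cfsg.quadFormMinus 1 F a b) ≃* orth (hyp (binForm a b)) :=
    (minusEquiv 1 F a b).trans
      (orthCongr ((hypSumSucc (binForm a b) 0).trans (hypCongr (hypSumZero _))))
  let f := φ.symm.toMonoidHom.comp (hermOrth hab)
  have hq := Finite.one_lt_card (α := F)
  have hex : ∃ x : QuadraticAlgebra F (-b) a, x ≠ 0 ∧ x ^ 2 ≠ 1 := by
    by_contra hne
    simp only [ne_eq, not_exists, not_and, not_not] at hne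
    have : (Finset.univ : Finset (QuadraticAlgebra F (-b) a)) ⊆ {0, 1, -1} := fun x _ => by
      by_cases hx : x = 0
      · simp [hx]
      · rcases mul_self_eq_one_iff.1 ((pow_two x).symm.trans (hne x hx)) with h | h <;> simp [h]
    have := (Finset.card_le_card this).trans Finset.card_le_three
    rw [Finset.card_univ, ← Nat.card_eq_fintype_card, hcardK'] at this
    nlinarith
  have hperf : commutator (Matrix.SpecialLinearGroup (Fin 2) (QuadraticAlgebra F (-b) a)) = ⊤ :=
    LinearGroup.commutator_SL_eq_top' fun _ => hex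
  haveI : IsSimpleGroup (Matrix.SpecialLinearGroup (Fin 2) (QuadraticAlgebra F (-b) a) ⧸
      Subgroup.center (Matrix.SpecialLinearGroup (Fin 2) (QuadraticAlgebra F (-b) a))) :=
    LinearGroup.isSimpleGroup_PSL' fun _ => hex
  have hle : f.range ≤ commutator _ := by
    rw [MonoidHom.range_eq_map, ← hperf, commutator_def, commutator_def, Subgroup.map_commutator]
    exact Subgroup.commutator_mono le_top le_top
  have hf : f ≠ 1 := by
    intro h
    have hT : hermOrth hab (Matrix.SpecialLinearGroup.transvection
        (by decide : (0 : Fin 2) ≠ 1) 1) = 1 :=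
      φ.symm.injective ((DFunLike.congr_fun h _).trans (map_one _).symm)
    have h1 := congrArg (fun v : (F × F) × (F × F) => v.1.1)
      (DFunLike.congr_fun (congrArg Subtype.val hT) (((0, 1), 0) : (F × F) × (F × F)))
    rw [hermOrth_apply] at h1
    simp [hCoord, hMat, Matrix.mul_apply, Fin.sum_univ_two,
      Matrix.SpecialLinearGroup.transvection_coe, Matrix.single, Matrix.one_apply] at h1
  have hker : f.ker = Subgroup.center _ := by
    refine le_antisymm (ker_le_center_of_ne_one hperf hf) fun A hA => ?_
    obtain ⟨h1, h2, h3⟩ := mem_center_SL_two_iff.1 hA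
    have hd := A.2
    rw [Matrix.det_fin_two, h1, h2, ← h3] at hd
    have hc : A.1 0 0 * A.1 0 0 = 1 := by linear_combination hd
    have hA' : A.1 = Matrix.diagonal fun _ => A.1 0 0 := by
      ext i j <;> fin_cases i <;> fin_cases j <;> simp [h1, h2, ← h3]
    refine (map_eq_one_iff _ φ.symm.injective).2 (orth_ext fun v => ?_)
    rw [hermOrth_apply, coe_one_apply]
    have : A.1 * hMat a b v * A.1ᴴ = hMat a b v := by
      rw [hA', Matrix.diagonal_conjTranspose]
      ext i j : 1
      rw [Matrix.mul_diagonal, Matrix.diagonal_mul]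
      have hs : star (A.1 0 0) = A.1 0 0 := by
        rcases mul_self_eq_one_iff.1 hc with e | e <;> rw [e] <;> simp
      rw [Pi.star_apply, hs]
      linear_combination hMat a b v i j * hc
    rw [this, hCoord_hMat]
  have hidx : (if (2 : F) = 0 then 2 else 4) ≤
      (commutator (Cfsg.isometryGroup F (Cfsg.quadFormMinus 1 F a b))).index := by
    split_ifs with h2
    · rw [commutator_index_congr φ]
      refine two_le_index_commutator hab.polarND.hyp ?_ (a := (((1, 1), 0) : (F × F) × (F × F)))
        (by simp [binForm_apply])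
      refine reflGroup_hyp_eq_top hab.nonsing (elemGroup_of_refl hab.reflGroup_eq_top)
        fun w hw => ?_
      rw [hab.eq_zero hw]
      exact ⟨(1, 0), by simp [binForm_apply], by simp [binForm_apply]⟩
    · rw [show Cfsg.quadFormMinus 1 F a b = ⇑(qMinus 1 F a b) from
        funext fun v => (qMinus_apply 1 a b v).symm]
      exact (Reflections.omega_index_four h2
        ⟨fun x hx => ((hab.polarND.hypSum 1).congr (qMinusIso 1 F a b).symm) x hx,
          fun y hy => ((hab.polarND.hypSum 1).congr (qMinusIso 1 F a b).symm) y fun x => by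
            rw [polar_comm]; exact hy x⟩
        (by simp [Fintype.card_sum])).ge
  have hrange : f.range = commutator _ := by
    refine eq_commutator_of_card hle hidx ?_
    have h := Subgroup.card_eq_card_quotient_mul_card_subgroup f.ker
    rw [← Subgroup.index_eq_card, Subgroup.index_ker, LinearGroup.card_SL_two, hker,
      LinearGroup.card_center_SL, Fintype.card_fin, hcardK'] at h
    rw [Nat.card_congr (minusEquiv 1 F a b).toEquiv, card_orth_minus hab 1]
    simp only [Finset.prod_range_one, show (1 + 1) * 1 = 2 from rfl,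
      show (1 + 1 : ℕ) = 2 from rfl, show 2 * (0 + 1) = 2 from rfl]
    obtain ⟨Y, hY⟩ : ∃ Y, Nat.card F ^ 2 = Y + 1 :=
      ⟨_, (Nat.succ_pred (pow_ne_zero _ Nat.card_pos.ne')).symm⟩
    rw [hY, show (Y + 1) ^ 2 - 1 = (Y + 2) * Y from Nat.sub_eq_of_eq_add (by ring)] at h
    rw [hY, Nat.add_sub_cancel]
    rw [Nat.add_sub_cancel] at h
    generalize Nat.card f.range = r at h ⊢
    split_ifs with h2
    · have hev : Nat.card F % 2 = 0 := by
        haveI : CharP F 2 := CharTwo.of_one_ne_zero_of_two_eq_zero one_ne_zero h2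
        rw [Nat.card_eq_fintype_card]
        exact FiniteField.even_card_of_char_two (ringChar.eq F 2)
      have hg : Nat.gcd 2 Y = 1 := by
        refine Nat.prime_two.coprime_iff_not_dvd.2 fun hd => ?_
        have : 2 ∣ Nat.card F ^ 2 := dvd_pow (Nat.dvd_of_mod_eq_zero hev) two_ne_zero
        omega
      rw [hg, mul_one] at h
      rw [← h]; ring
    · have h1 := odd_natCard (F := F) h2
      have hodd : Odd (Nat.card F ^ 2) := (Nat.odd_iff.2 (by omega)).pow
      rw [Nat.odd_iff] at hodd
      have hg : Nat.gcd 2 Y = 2 := Nat.gcd_eq_left (by omega)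
      rw [hg] at h
      linarith [h]
  obtain ⟨e1⟩ := nonempty_commutator_quotient_of_hom f hrange hker.le
    fun A hA => mem_center_of_commutator_mem hperf hker.le hA
  exact ⟨e1.trans (LinearGroup.pslCongr e)⟩

end Cfsg.Agent.UnitaryOrthogonal
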