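/-
`PΩ₄⁺(q) ≅ PSL₂(q) × PSL₂(q)`: the action `X ↦ A X B⁻¹`.
-/
import Cfsg.Agent.Lib.UnitaryOrthogonal.SmallDim

set_option autoImplicit false

namespace Cfsg.Agent.UnitaryOrthogonal

open QuadraticMap
open scoped commutatorElement

variable {F : Type*} [Field F]

/-- `(x, y) ↦ x y`. -/
def mulForm (F : Type*) [Field F] : QuadraticForm F (F × F) :=
  QuadraticMap.linMulLin (LinearMap.fst F F F) (LinearMap.snd F F F)

@[simp] theorem mulForm_apply (v : F × F) : mulForm F v = v.1 * v.2 := rfl

/-- `H^1 ≅ ⟨x y⟩`. -/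
def hypSumOneIso (F : Type*) [Field F] : (hypSum 1 (zeroForm F)).IsometryEquiv (mulForm F) where
  toFun v := (v.1.1 0, v.1.2 0)
  invFun p := ((fun _ => p.1, fun _ => p.2), 0)
  map_add' _ _ := rfl
  map_smul' _ _ := rfl
  left_inv v := by
    refine Prod.ext (Prod.ext ?_ ?_) (Subsingleton.elim _ _) <;>
      exact funext fun i => by rw [Subsingleton.elim i 0]
  right_inv _ := rfl
  map_app' v := by simp [zeroForm]

theorem polarND_mulForm : PolarND (mulForm F) :=
  (polarND_zeroForm.hypSum 1).congr (hypSumOneIso F)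

theorem elemGroup_mulForm : elemGroup (mulForm F) = ⊤ :=
  elemGroup_congr (hypSumOneIso F)
    (elemGroup_hypSum nonsing_zeroForm (elemGroup_of_refl reflGroup_zeroForm) 1)

/-- `(x, y), (z, w) ↦ [x z; -w y]`. -/
def pairMat : ((F × F) × (F × F)) →ₗ[F] Matrix (Fin 2) (Fin 2) F where
  toFun v := !![v.1.1, v.2.1; -v.2.2, v.1.2]
  map_add' v w := by
    ext i j
    fin_cases i <;> fin_cases j <;> simp <;> abel
  map_smul' c v := by
    ext i j
    fin_cases i <;> fin_cases j <;> simp

/-- Inverse of `pairMat`. -/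
def pairCoord : Matrix (Fin 2) (Fin 2) F →ₗ[F] ((F × F) × (F × F)) where
  toFun M := ((M 0 0, M 1 1), (M 0 1, -M 1 0))
  map_add' M N := by ext <;> simp <;> abel
  map_smul' c M := by ext <;> simp

theorem pairCoord_pairMat (v : (F × F) × (F × F)) : pairCoord (pairMat v) = v := by
  ext <;> simp [pairCoord, pairMat]

theorem pairMat_pairCoord (M : Matrix (Fin 2) (Fin 2) F) : pairMat (pairCoord M) = M := by
  ext i j
  fin_cases i <;> fin_cases j <;> simp [pairMat, pairCoord]

theorem hyp_mulForm_pairMat (v : (F × F) × (F × F)) :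
    hyp (mulForm F) v = (pairMat v).det := by
  simp [pairMat, Matrix.det_fin_two]

/-- Pairs with equal determinant. -/
def detPairs (F : Type*) [Field F] :
    Subgroup (Matrix.GeneralLinearGroup (Fin 2) F × Matrix.GeneralLinearGroup (Fin 2) F) :=
  (Matrix.GeneralLinearGroup.det.comp (MonoidHom.fst _ _)).eqLocus
    (Matrix.GeneralLinearGroup.det.comp (MonoidHom.snd _ _))

/-- `X ↦ A X B⁻¹`. -/
def pairOrth : detPairs F →* orth (hyp (mulForm F)) where
  toFun p := ⟨
    { pairCoord ∘ₗ LinearMap.mulRight F (p.1.2⁻¹).val ∘ₗ LinearMap.mulLeft F p.1.1.val ∘ₗ pairMat with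
      invFun := pairCoord ∘ₗ LinearMap.mulRight F p.1.2.val ∘ₗ
        LinearMap.mulLeft F (p.1.1⁻¹).val ∘ₗ pairMat
      left_inv := fun v => by
        show pairCoord (p.1.1⁻¹.val * pairMat (pairCoord (p.1.1.val * pairMat v * p.1.2⁻¹.val)) *
          p.1.2.val) = v
        rw [pairMat_pairCoord]
        simp only [← mul_assoc, Units.inv_mul, one_mul]
        rw [mul_assoc, Units.inv_mul, mul_one, pairCoord_pairMat]
      right_inv := fun v => by
        show pairCoord (p.1.1.val * pairMat (pairCoord (p.1.1⁻¹.val * pairMat v * p.1.2.val)) *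
          p.1.2⁻¹.val) = v
        rw [pairMat_pairCoord]
        simp only [← mul_assoc, Units.mul_inv, one_mul]
        rw [mul_assoc, Units.mul_inv, mul_one, pairCoord_pairMat] },
    fun v => by
      show hyp (mulForm F) (pairCoord (p.1.1.val * pairMat v * p.1.2⁻¹.val)) = _
      rw [hyp_mulForm_pairMat, hyp_mulForm_pairMat, pairMat_pairCoord, Matrix.det_mul,
        Matrix.det_mul]
      have hp : (Matrix.GeneralLinearGroup.det p.1.1 : F) =
          (Matrix.GeneralLinearGroup.det p.1.2 : F) := congrArg Units.val p.2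
      have h1 : p.1.2.val.det * p.1.2⁻¹.val.det = 1 := by
        rw [← Matrix.det_mul, Units.mul_inv, Matrix.det_one]
      simp only [Matrix.GeneralLinearGroup.val_det_apply] at hp
      rw [hp]
      linear_combination (pairMat v).det * h1⟩
  map_one' := orth_ext fun v => by
    show pairCoord ((1 : Matrix (Fin 2) (Fin 2) F) * pairMat v * 1) = v
    rw [one_mul, mul_one, pairCoord_pairMat]
  map_mul' p r := orth_ext fun v => by
    show pairCoord ((p.1.1 * r.1.1).val * pairMat v * (p.1.2 * r.1.2)⁻¹.val) =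
      pairCoord (p.1.1.val * pairMat (pairCoord (r.1.1.val * pairMat v * r.1.2⁻¹.val)) * p.1.2⁻¹.val)
    rw [pairMat_pairCoord, mul_inv_rev]
    simp only [Units.val_mul, mul_assoc]

/-- Pairs of determinant-one matrices. -/
def slPairs (F : Type*) [Field F] :
    Matrix.SpecialLinearGroup (Fin 2) F × Matrix.SpecialLinearGroup (Fin 2) F →* detPairs F :=
  (MonoidHom.prodMap Matrix.SpecialLinearGroup.toGL Matrix.SpecialLinearGroup.toGL).codRestrict _
    fun p => Units.ext (p.1.2.trans p.2.2.symm)

theorem mem_ker_pairOrth {p : Matrix.SpecialLinearGroup (Fin 2) F × Matrix.SpecialLinearGroup (Fin 2) F} :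
    p ∈ (pairOrth.comp (slPairs F)).ker ↔
      p.1 ∈ Subgroup.center (Matrix.SpecialLinearGroup (Fin 2) F) ∧ p.2 = p.1 := by
  constructor
  · intro hp
    have key : ∀ v, p.1.1 * pairMat v = pairMat v * p.2.1 := fun v => by
      have h1 : pairCoord (p.1.1 * pairMat v * (Matrix.SpecialLinearGroup.toGL p.2)⁻¹.val) = v :=
        DFunLike.congr_fun (congrArg Subtype.val hp) v
      have h2 := congrArg pairMat h1
      rw [pairMat_pairCoord] at h2
      calc p.1.1 * pairMat v = p.1.1 * pairMat v * (Matrix.SpecialLinearGroup.toGL p.2)⁻¹.val *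
            (Matrix.SpecialLinearGroup.toGL p.2).val := by rw [Units.inv_mul_cancel_right]
        _ = pairMat v * p.2.1 := by rw [h2]; rfl
    have k0 := key (pairCoord 1)
    rw [pairMat_pairCoord, mul_one, one_mul] at k0
    have he : p.2 = p.1 := Subtype.ext k0.symm
    refine ⟨Subgroup.mem_center_iff.2 fun y => Subtype.ext ?_, he⟩
    have ky := key (pairCoord y.1)
    rw [pairMat_pairCoord, he] at ky
    exact ky.symm
  · rintro ⟨hc, he⟩
    refine orth_ext fun v => ?_
    show pairCoord (p.1.1 * pairMat v * (Matrix.SpecialLinearGroup.toGL p.2)⁻¹.val) = v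
    have hc' : p.1.1 * pairMat v = pairMat v * p.1.1 := by
      obtain ⟨h1, h2, h3⟩ := mem_center_SL_two_iff.1 hc
      ext i j
      fin_cases i <;> fin_cases j <;>
        simp [pairMat, Matrix.mul_apply, Fin.sum_univ_two, h1, h2, h3] <;> ring
    rw [hc', he, show p.1.1 = (Matrix.SpecialLinearGroup.toGL p.1).val from rfl,
      Units.mul_inv_cancel_right, pairCoord_pairMat]

/-- The centre of a product is the product of the centres; the quotient splits. -/
theorem nonempty_prod_quotient_center {K L : Type*} [Group K] [Group L] :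
    Nonempty ((K × L) ⧸ Subgroup.center (K × L) ≃*
      (K ⧸ Subgroup.center K) × (L ⧸ Subgroup.center L)) := by
  let π := MonoidHom.prodMap (QuotientGroup.mk' (Subgroup.center K))
    (QuotientGroup.mk' (Subgroup.center L))
  have hs : Function.Surjective π := fun p => by
    obtain ⟨x, hx⟩ := QuotientGroup.mk'_surjective (Subgroup.center K) p.1
    obtain ⟨y, hy⟩ := QuotientGroup.mk'_surjective (Subgroup.center L) p.2
    exact ⟨(x, y), Prod.ext hx hy⟩
  have hk : π.ker = Subgroup.center (K × L) := by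
    ext ⟨x, y⟩
    rw [MonoidHom.mem_ker]
    show ((QuotientGroup.mk' _ x, QuotientGroup.mk' _ y) : _ × _) = 1 ↔ _
    rw [Prod.ext_iff, Subgroup.mem_center_iff]
    simp only [QuotientGroup.mk'_apply, Prod.fst_one, Prod.snd_one, QuotientGroup.eq_one_iff,
      Subgroup.mem_center_iff]
    constructor
    · rintro ⟨h1, h2⟩ z; exact Prod.ext (h1 _) (h2 _)
    · intro h
      exact ⟨fun z => congrArg Prod.fst (h (z, 1)), fun z => congrArg Prod.snd (h (1, z))⟩
  exact ⟨(QuotientGroup.quotientMulEquivOfEq hk.symm).trans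
    (QuotientGroup.quotientKerEquivOfSurjective π hs)⟩

variable [Finite F]

open scoped Classical in
theorem commutator_index_orth_four_plus (h3 : 3 ≤ Nat.card F) :
    (if (2 : F) = 0 then 2 else 4) ≤ (commutator (orth (hyp (mulForm F)))).index := by
  classical
  cases nonempty_fintype F
  split_ifs with h2
  · refine two_le_index_commutator polarND_mulForm.hyp ?_ (a := (((1, 1), 0) : (F × F) × (F × F)))
      (by simp)
    refine reflGroup_hyp_eq_top polarND_mulForm.nonsing elemGroup_mulForm fun w hw => ?_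
    obtain ⟨x, y⟩ := w
    simp only [mulForm_apply, mul_eq_zero] at hw
    obtain ⟨t, ht0, ht1⟩ : ∃ t : F, t ≠ 0 ∧ t ≠ x + y := by
      by_contra hne
      simp only [ne_eq, not_exists, not_and, not_not] at hne
      have : (Finset.univ : Finset F) ⊆ {0, x + y} := fun z _ => by
        by_cases hz : z = 0
        · simp [hz]
        · simp [hne z hz]
      have := (Finset.card_le_card this).trans Finset.card_le_two
      rw [Finset.card_univ, ← Nat.card_eq_fintype_card] at this
      omega
    rcases hw with rfl | rfl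
    · exact ⟨(1, t), by simpa using ht0, by simpa [sub_eq_zero] using fun e => ht1 (by rw [e, zero_add])⟩
    · exact ⟨(t, 1), by simpa using ht0, by simpa [sub_eq_zero] using fun e => ht1 (by rw [e, add_zero])⟩
  · let φ : Cfsg.isometryGroup F (Cfsg.quadFormPlus 2 F) ≃* orth (hyp (mulForm F)) :=
      (plusEquiv 2 F).trans (orthCongr ((hypSumSucc (zeroForm F) 1).trans (hypCongr (hypSumOneIso F))))
    rw [← commutator_index_congr φ,
      show Cfsg.quadFormPlus 2 F = ⇑(qPlus 2 F) from funext fun v => (qPlus_apply 2 v).symm]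
    exact (Reflections.omega_index_four h2
      ⟨fun x hx => ((polarND_zeroForm.hypSum 2).congr (qPlusIso 2 F).symm) x hx,
        fun y hy => ((polarND_zeroForm.hypSum 2).congr (qPlusIso 2 F).symm) y fun x => by
          rw [polar_comm]; exact hy x⟩
      (by simp [Fintype.card_sum])).ge

theorem pomega_four_plus_equiv (h3 : 3 ≤ Nat.card F) :
    Nonempty (Cfsg.POmega F (Cfsg.quadFormPlus 2 F) ≃*
      Matrix.ProjectiveSpecialLinearGroup (Fin 2) F ×
        Matrix.ProjectiveSpecialLinearGroup (Fin 2) F) := by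
  classical
  cases nonempty_fintype F
  let φ : Cfsg.isometryGroup F (Cfsg.quadFormPlus 2 F) ≃* orth (hyp (mulForm F)) :=
    (plusEquiv 2 F).trans (orthCongr ((hypSumSucc (zeroForm F) 1).trans (hypCongr (hypSumOneIso F))))
  let g0 := φ.symm.toMonoidHom.comp pairOrth
  let f := g0.comp (slPairs F)
  have hker : f.ker = (pairOrth.comp (slPairs F)).ker := by
    ext A; simp [f, g0]
  have hle : f.range ≤ commutator _ := by
    have hd : ∀ c : Fˣ, (diagOne c, diagOne c) ∈ detPairs F := fun c => rfl
    have h1 := range_le_commutator_of_GL h3 (f.comp (MonoidHom.inl _ _))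
      (fun c => g0 ⟨_, hd c⟩) fun c i j hij x => by
        show g0 _ * g0 _ * (g0 _)⁻¹ = g0 _
        rw [← map_inv, ← map_mul, ← map_mul]
        refine congrArg g0 (Subtype.ext (Prod.ext ?_ ?_))
        · exact diagOne_conj c hij x
        · show diagOne c * Matrix.SpecialLinearGroup.toGL 1 * (diagOne c)⁻¹ =
            Matrix.SpecialLinearGroup.toGL 1
          rw [map_one, mul_one, mul_inv_cancel]
    have h2 := range_le_commutator_of_GL h3 (f.comp (MonoidHom.inr _ _))
      (fun c => g0 ⟨_, hd c⟩) fun c i j hij x => by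
        show g0 _ * g0 _ * (g0 _)⁻¹ = g0 _
        rw [← map_inv, ← map_mul, ← map_mul]
        refine congrArg g0 (Subtype.ext (Prod.ext ?_ ?_))
        · show diagOne c * Matrix.SpecialLinearGroup.toGL 1 * (diagOne c)⁻¹ =
            Matrix.SpecialLinearGroup.toGL 1
          rw [map_one, mul_one, mul_inv_cancel]
        · exact diagOne_conj c hij x
    rintro _ ⟨⟨A, B⟩, rfl⟩
    rw [show ((A, B) : Matrix.SpecialLinearGroup (Fin 2) F × Matrix.SpecialLinearGroup (Fin 2) F) =
      (A, 1) * (1, B) by simp, map_mul]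
    exact mul_mem (h1 ⟨A, rfl⟩) (h2 ⟨B, rfl⟩)
  have hz : Nat.card f.ker = Nat.card (Subgroup.center (Matrix.SpecialLinearGroup (Fin 2) F)) := by
    rw [hker]
    refine Nat.card_congr
      { toFun := fun p => ⟨p.1.1, (mem_ker_pairOrth.1 p.2).1⟩
        invFun := fun z => ⟨(z.1, z.1), mem_ker_pairOrth.2 ⟨z.2, rfl⟩⟩
        left_inv := fun p => Subtype.ext (Prod.ext rfl (mem_ker_pairOrth.1 p.2).2.symm)
        right_inv := fun z => rfl }
  have hrange : f.range = commutator _ := by
    refine eq_commutator_of_card hle (d := if (2 : F) = 0 then 2 else 4)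
      ((commutator_index_orth_four_plus h3).trans (commutator_index_congr φ).ge) ?_
    have h := Subgroup.card_eq_card_quotient_mul_card_subgroup f.ker
    rw [← Subgroup.index_eq_card, Subgroup.index_ker, Nat.card_prod, LinearGroup.card_SL_two,
      hz, LinearGroup.card_center_SL, Fintype.card_fin] at h
    rw [Nat.card_congr (plusEquiv 2 F).toEquiv, card_orth_plus 1]
    simp only [Finset.prod_range_one]
    generalize Nat.card f.range = r at h ⊢
    obtain ⟨t, ht⟩ : ∃ t, Nat.card F ^ 2 - 1 = t := ⟨_, rfl⟩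
    rw [ht] at h
    simp only [show (1 + 1) * 1 = 2 from rfl, show (1 + 1 : ℕ) = 2 from rfl,
      show 2 * (0 + 1) = 2 from rfl, ht] at h ⊢
    split_ifs with h2
    · have hev : Nat.card F % 2 = 0 := by
        haveI : CharP F 2 := CharTwo.of_one_ne_zero_of_two_eq_zero one_ne_zero h2
        rw [Nat.card_eq_fintype_card]
        exact FiniteField.even_card_of_char_two (ringChar.eq F 2)
      have hg : Nat.gcd 2 (Nat.card F - 1) = 1 := by
        refine Nat.prime_two.coprime_iff_not_dvd.2 ?_
        omega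
      rw [hg, mul_one] at h
      rw [← h]; ring
    · have h1 := odd_natCard (F := F) h2
      have hg : Nat.gcd 2 (Nat.card F - 1) = 2 := Nat.gcd_eq_left (by omega)
      rw [hg] at h
      linarith [h]
  obtain ⟨e⟩ := nonempty_commutator_quotient_of_hom f hrange
    (fun p hp => by
      obtain ⟨h1, h2⟩ := mem_ker_pairOrth.1 (hker ▸ hp)
      refine Subgroup.mem_center_iff.2 fun z => Prod.ext (Subgroup.mem_center_iff.1 h1 z.1) ?_
      show z.2 * p.2 = p.2 * z.2
      rw [h2]; exact Subgroup.mem_center_iff.1 h1 z.2)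
    (fun p hp => by
      refine Subgroup.mem_center_iff.2 fun z => Prod.ext ?_ ?_
      · refine Subgroup.mem_center_iff.1 (mem_center_SL_two_of_commutator fun y => ?_) z.1
        exact (mem_ker_pairOrth.1 (hker ▸ hp (y, 1))).1
      · refine Subgroup.mem_center_iff.1 (mem_center_SL_two_of_commutator fun y => ?_) z.2
        have h1 := mem_ker_pairOrth.1 (hker ▸ hp (1, y))
        have h2 : ⁅p.2, y⁆ = (⁅p, ((1, y) : _ × _)⁆ : _ × _).1 := h1.2
        rw [h2]
        exact h1.1)
  obtain ⟨e'⟩ := nonempty_prod_quotient_center (K := Matrix.SpecialLinearGroup (Fin 2) F)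
    (L := Matrix.SpecialLinearGroup (Fin 2) F)
  exact ⟨e.trans e'⟩

end Cfsg.Agent.UnitaryOrthogonal
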