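/-
`PΩ₃(q) ≅ PSL₂(q)`: the adjoint action.
-/
import Cfsg.Agent.Lib.UnitaryOrthogonal.SmallDim

set_option autoImplicit false

namespace Cfsg.Agent.UnitaryOrthogonal

open QuadraticMap

variable {F : Type*} [Field F]

/-- Trace-zero matrices. -/
def adMat : ((F × F) × F) →ₗ[F] Matrix (Fin 2) (Fin 2) F where
  toFun v := !![v.2, v.1.1; v.1.2, -v.2]
  map_add' v w := by
    ext i j
    fin_cases i <;> fin_cases j <;> simp <;> abel
  map_smul' c v := by
    ext i j
    fin_cases i <;> fin_cases j <;> simp

/-- Coordinates of a trace-zero matrix. -/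
def adCoord : Matrix (Fin 2) (Fin 2) F →ₗ[F] ((F × F) × F) where
  toFun M := ((M 0 1, M 1 0), M 0 0)
  map_add' _ _ := rfl
  map_smul' _ _ := rfl

theorem adCoord_adMat (v : (F × F) × F) : adCoord (adMat v) = v := rfl

theorem adMat_adCoord {M : Matrix (Fin 2) (Fin 2) F} (h : M.trace = 0) :
    adMat (adCoord M) = M := by
  rw [Matrix.trace_fin_two] at h
  ext i j
  fin_cases i <;> fin_cases j
  · rfl
  · rfl
  · rfl
  · show -M 0 0 = M 1 1
    linear_combination -h

theorem trace_adMat (v : (F × F) × F) : (adMat v).trace = 0 := by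
  simp [adMat, Matrix.trace_fin_two]

theorem hyp_sqForm_adMat (v : (F × F) × F) : hyp (sqForm F) v = -(adMat v).det := by
  simp [adMat, Matrix.det_fin_two]

/-- Conjugation on trace-zero matrices. -/
def adOrth : Matrix.GeneralLinearGroup (Fin 2) F →* orth (hyp (sqForm F)) where
  toFun g := ⟨
    { adCoord ∘ₗ LinearMap.mulRight F ((g⁻¹ : Matrix.GeneralLinearGroup (Fin 2) F) :
          Matrix (Fin 2) (Fin 2) F) ∘ₗ LinearMap.mulLeft F (g : Matrix (Fin 2) (Fin 2) F) ∘ₗ adMat with
      invFun := adCoord ∘ₗ LinearMap.mulRight F (g : Matrix (Fin 2) (Fin 2) F) ∘ₗ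
        LinearMap.mulLeft F ((g⁻¹ : Matrix.GeneralLinearGroup (Fin 2) F) :
          Matrix (Fin 2) (Fin 2) F) ∘ₗ adMat
      left_inv := fun v => by
        show adCoord (g⁻¹.val * adMat (adCoord (g.val * adMat v * g⁻¹.val)) * g.val) = v
        rw [adMat_adCoord (by rw [Matrix.trace_units_conj]; exact trace_adMat v)]
        simp only [← mul_assoc, Units.inv_mul, one_mul]
        rw [mul_assoc, Units.inv_mul, mul_one, adCoord_adMat]
      right_inv := fun v => by
        show adCoord (g.val * adMat (adCoord (g⁻¹.val * adMat v * g.val)) * g⁻¹.val) = v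
        rw [adMat_adCoord (by rw [Matrix.trace_units_conj']; exact trace_adMat v)]
        simp only [← mul_assoc, Units.mul_inv, one_mul]
        rw [mul_assoc, Units.mul_inv, mul_one, adCoord_adMat] },
    fun v => by
      show hyp (sqForm F) (adCoord (g.val * adMat v * g⁻¹.val)) = _
      rw [hyp_sqForm_adMat, hyp_sqForm_adMat,
        adMat_adCoord (by rw [Matrix.trace_units_conj]; exact trace_adMat v), Matrix.det_units_conj]⟩
  map_one' := orth_ext fun v => by
    show adCoord ((1 : Matrix (Fin 2) (Fin 2) F) * adMat v * 1) = v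
    rw [one_mul, mul_one, adCoord_adMat]
  map_mul' g h := orth_ext fun v => by
    show adCoord ((g * h).val * adMat v * (g * h)⁻¹.val) =
      adCoord (g.val * adMat (adCoord (h.val * adMat v * h⁻¹.val)) * g⁻¹.val)
    rw [adMat_adCoord (by rw [Matrix.trace_units_conj]; exact trace_adMat v), mul_inv_rev]
    simp only [Units.val_mul, mul_assoc]

theorem adOrth_ker_eq_center :
    ((adOrth (F := F)).comp Matrix.SpecialLinearGroup.toGL).ker =
      Subgroup.center (Matrix.SpecialLinearGroup (Fin 2) F) := by
  ext A
  constructor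
  · intro hA
    have key : ∀ v, A.1 * adMat v = adMat v * A.1 := fun v => by
      have h1 : adCoord (A.1 * adMat v * (Matrix.SpecialLinearGroup.toGL A)⁻¹.val) = v :=
        DFunLike.congr_fun (congrArg Subtype.val hA) v
      have h2 := congrArg adMat h1
      rw [adMat_adCoord (by
        show ((Matrix.SpecialLinearGroup.toGL A).val * adMat v *
          (Matrix.SpecialLinearGroup.toGL A)⁻¹.val).trace = 0
        rw [Matrix.trace_units_conj]; exact trace_adMat v)] at h2
      calc A.1 * adMat v = A.1 * adMat v * (Matrix.SpecialLinearGroup.toGL A)⁻¹.val *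
            (Matrix.SpecialLinearGroup.toGL A).val := by rw [Units.inv_mul_cancel_right]
        _ = adMat v * A.1 := by rw [h2]; rfl
    have k1 := key ((1, 0), 0)
    have k2 := key ((0, 1), 0)
    have a1 := congrFun (congrFun k1 0) 1
    have a2 := congrFun (congrFun k1 0) 0
    have a3 := congrFun (congrFun k2 0) 0
    simp [adMat, Matrix.mul_apply, Fin.sum_univ_two] at a1 a2 a3
    exact mem_center_SL_two_iff.2 ⟨by simpa using a3, by simpa using a2.symm, a1⟩
  · intro hA
    refine orth_ext fun v => ?_
    show adCoord (A.1 * adMat v * (Matrix.SpecialLinearGroup.toGL A)⁻¹.val) = v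
    have hc : A.1 * adMat v = adMat v * A.1 := by
      obtain ⟨h1, h2, h3⟩ := mem_center_SL_two_iff.1 hA
      ext i j
      fin_cases i <;> fin_cases j <;>
        simp [adMat, Matrix.mul_apply, Fin.sum_univ_two, h1, h2, h3] <;> ring
    rw [hc, show A.1 = (Matrix.SpecialLinearGroup.toGL A).val from rfl, Units.mul_inv_cancel_right,
      adCoord_adMat]

theorem nondegenerate_polarBilin {V : Type*} [AddCommGroup V] [Module F V] {Q : QuadraticForm F V}
    (h : PolarND Q) : (polarBilin Q).Nondegenerate :=
  ⟨fun x hx => h x hx, fun y hy => h y fun x => by rw [polar_comm]; exact hy x⟩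

variable [Finite F]

theorem commutator_index_odd (h2 : (2 : F) ≠ 0) (m : ℕ) (hm : 1 ≤ m) :
    (commutator (Cfsg.isometryGroup F (Cfsg.quadFormOdd m F))).index = 4 := by
  cases nonempty_fintype F
  rw [show Cfsg.quadFormOdd m F = ⇑(qOdd m F) from funext fun v => (qOdd_apply m v).symm]
  exact Reflections.omega_index_four h2
    (nondegenerate_polarBilin (((polarND_sqForm h2).hypSum m).congr (qOddIso m F).symm))
    (by simp [Fintype.card_sum]; omega)

theorem pomega_three_equiv (h2 : (2 : F) ≠ 0) :
    Nonempty (Cfsg.POmega F (Cfsg.quadFormOdd 1 F) ≃*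
      Matrix.ProjectiveSpecialLinearGroup (Fin 2) F) := by
  cases nonempty_fintype F
  let φ : Cfsg.isometryGroup F (Cfsg.quadFormOdd 1 F) ≃* orth (hyp (sqForm F)) :=
    (oddEquiv 1 F).trans (orthCongr ((hypSumSucc (sqForm F) 0).trans (hypCongr (hypSumZero _))))
  let g0 := φ.symm.toMonoidHom.comp adOrth
  let f := g0.comp Matrix.SpecialLinearGroup.toGL
  have hker : f.ker = Subgroup.center (Matrix.SpecialLinearGroup (Fin 2) F) := by
    rw [← adOrth_ker_eq_center]
    ext A
    simp [f, g0]
  have h3 : 3 ≤ Nat.card F := by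
    have h1 := odd_natCard (F := F) h2
    have := Finite.one_lt_card (α := F)
    omega
  have hle : f.range ≤ commutator _ := range_le_commutator_of_GL h3 f (fun c => g0 (diagOne c))
    fun c i j hij x => by
      show g0 _ * g0 _ * (g0 _)⁻¹ = g0 _
      rw [← map_inv, ← map_mul, ← map_mul, diagOne_conj]
  have hrange : f.range = commutator _ := by
    refine eq_commutator_of_card hle (d := 4) (commutator_index_odd h2 1 le_rfl).ge ?_
    have h := Subgroup.card_eq_card_quotient_mul_card_subgroup f.ker
    rw [← Subgroup.index_eq_card, Subgroup.index_ker] at h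
    have hz : Nat.card f.ker = 2 := by
      rw [hker, LinearGroup.card_center_SL, Fintype.card_fin]
      have h1 := odd_natCard (F := F) h2
      exact Nat.gcd_eq_left (by omega)
    rw [LinearGroup.card_SL_two, hz] at h
    rw [Nat.card_congr (oddEquiv 1 F).toEquiv, card_orth_odd h2]
    simp only [Finset.prod_range_one, one_pow, pow_one]
    generalize Nat.card f.range = r at h ⊢
    norm_num at h ⊢
    linarith [h]
  exact nonempty_commutator_quotient_of_hom f hrange hker.le
    fun A hA => mem_center_SL_two_of_commutator fun y => hker ▸ hA y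

end Cfsg.Agent.UnitaryOrthogonal
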